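import Cfsg.Agent.Lib.Geo.SL3.Maximal.LinearFinal
import Cfsg.Agent.Lib.Geo.SympNorm.Basic

/-!
# The standard extraspecial group of order 27 and its normaliser
-/

set_option autoImplicit false

namespace CfsgLib.Geo.Nine

open Matrix Cfsg.Geo
open CfsgLib.Geo.Extra27 (amat bmat jmat Heis)
open CfsgLib.Geo.SL3.Maximal

variable {F : Type*} [Field F] {l : F}

local notation "M3" => Matrix (Fin 3) (Fin 3) F
local notation "G3" => GL (Fin 3) F
local notation "V3" => ZMod 3 × ZMod 3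

/-- The two by two matrices of determinant one over the field of three elements. -/
abbrev SL23 := Matrix.SpecialLinearGroup (Fin 2) (ZMod 3)

variable (hl : IsPrimitiveRoot l 3)
include hl

theorem h3_ne : (3 : F) ≠ 0 := three_ne_zero_of_root hl.pow_eq_one (hl.ne_one (by norm_num))

/-- The diagonal generator. -/
def aG : G3 := Matrix.GeneralLinearGroup.mkOfDetNeZero (amat l) (by rw [Extra27.det_amat hl.pow_eq_one]; exact one_ne_zero)

/-- The cyclic generator. -/
def bG (_hl : IsPrimitiveRoot l 3) : G3 := Matrix.GeneralLinearGroup.mkOfDetNeZero (bmat : M3)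
  (by rw [Extra27.det_bmat]; exact one_ne_zero)

/-- The diagonal twist. -/
def dG : G3 := ⟨dmat l, dmat (l ^ 2), (dmat_inv hl).2, (dmat_inv hl).1⟩

/-- The standard group of order 27. -/
def H3 : Subgroup G3 := Subgroup.closure {aG hl, bG hl}

theorem comm_ab : (aG hl : M3) * (bG hl : M3) = l • ((bG hl : M3) * (aG hl : M3)) := amat_bmat hl.pow_eq_one

theorem scal_mem (c : G3) (hc : (c : M3) = l • (1 : M3)) : c ∈ H3 hl := by
  have e : c = aG hl * bG hl * (aG hl)⁻¹ * (bG hl)⁻¹ := by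
    rw [eq_mul_inv_iff_mul_eq, eq_mul_inv_iff_mul_eq]
    refine Units.ext ?_
    rw [Units.val_mul, Units.val_mul, Units.val_mul, hc, comm_ab hl, smul_mul_assoc, one_mul, smul_mul_assoc]
  rw [e]
  have ha : aG hl ∈ H3 hl := Subgroup.subset_closure (Set.mem_insert _ _)
  have hb : bG hl ∈ H3 hl := Subgroup.subset_closure (Set.mem_insert_of_mem _ rfl)
  exact mul_mem (mul_mem (mul_mem ha hb) (inv_mem ha)) (inv_mem hb)

/-- The standard coordinates. -/
def std : Heis (H3 hl) where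
  g := 1
  lam := l
  prim := hl
  a := aG hl
  b := bG hl
  ha := by simp [aG]
  hb := by simp [bG]
  aR := Subgroup.subset_closure (Set.mem_insert _ _)
  bR := Subgroup.subset_closure (Set.mem_insert_of_mem _ rfl)
  scal := scal_mem hl
  gen := rfl

theorem co_std (X : M3) : (std hl).co X = X := by simp [Heis.co, std]

/-- The element of order four. -/
noncomputable def fG : G3 := fEl (std hl) (h3_ne hl)

/-- The second element of order four. -/
noncomputable def gG : G3 := gEl (std hl) (h3_ne hl)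

/-- The involution. -/
def jG : G3 := jEl (std hl)

theorem fG_val : (fG hl : M3) = fmat l := co_std hl _

theorem gG_val : (gG hl : M3) = gmat l := co_std hl _

theorem jG_val : (jG hl : M3) = jmat := co_std hl _

/-- Lying in the standard group up to a scalar. -/
def InR (g : G3) : Prop := ∃ v, Rel (std hl) g v

/-- The standard element with a given exponent vector. -/
def wd (v : V3) : G3 := word (std hl) v

theorem rel_wd (v : V3) : Rel (std hl) (wd hl v) v := rel_word _ v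

theorem inR_wd (v : V3) : InR hl (wd hl v) := ⟨v, rel_wd hl v⟩

theorem inR_scalar {c : G3} (hc : c ∈ scalars (Fin 3) F) : InR hl c := ⟨0, Rel.of_scalar hc⟩

theorem det_wd (v : V3) : (wd hl v : M3).det = 1 := (std hl).det_eq_one _ (word_mem _ v)

theorem wd_mem (v : V3) : wd hl v ∈ H3 hl := word_mem _ v

variable [Finite F]

theorem InR.mul {g g' : G3} (h : InR hl g) (h' : InR hl g') : InR hl (g * g') := ⟨_, h.choose_spec.mul h'.choose_spec⟩

theorem InR.inv {g : G3} (h : InR hl g) : InR hl g⁻¹ := ⟨_, h.choose_spec.inv⟩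

theorem exists_scalar_wd {g : G3} {v : V3} (h : Rel (std hl) g v) :
    ∃ c ∈ scalars (Fin 3) F, g = c * wd hl v := by
  refine ⟨g * (wd hl v)⁻¹, Rel.scalar (h := std hl) ?_, by group⟩
  simpa using h.mul (rel_wd hl v).inv

theorem inR_of_mem {g : G3} (h : g ∈ H3 hl) : InR hl g := exists_rel h

theorem conj_gens {g : G3} (hg : g ∈ subgroupNormalizer (H3 hl)) {x : G3} (hx : InR hl x) : InR hl (g * x * g⁻¹) := by
  obtain ⟨v, hv⟩ := hx
  exact ⟨_, rel_conj (std hl) ⟨g, hg⟩ hv⟩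

theorem mem_normalizer {g : G3} (ha : InR hl (g * aG hl * g⁻¹)) (hb : InR hl (g * bG hl * g⁻¹)) :
    g ∈ subgroupNormalizer (H3 hl) := by
  have key : ∀ x ∈ H3 hl, InR hl (g * x * g⁻¹) → g * x * g⁻¹ ∈ H3 hl := fun x hx ⟨v, hv⟩ => by
    refine mem_of_rel (std hl) (MonoidHom.mem_ker.2 ?_) hv
    have h1 : Matrix.GeneralLinearGroup.det x = 1 :=
      MonoidHom.mem_ker.1 (le_specialLinear (std hl) hx)
    rw [map_mul, map_mul, map_inv, h1, mul_one, mul_inv_cancel]
  exact Extra27.mem_normalizer_of_gen (H3 hl) (std hl).gen (key _ (std hl).aR ha) (key _ (std hl).bR hb)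

theorem le_normalizer_of_inR {g : G3} (hg : InR hl g) : g ∈ subgroupNormalizer (H3 hl) := by
  have hab : ∀ x ∈ H3 hl, InR hl (g * x * g⁻¹) := fun x hx =>
    InR.mul hl (InR.mul hl hg (inR_of_mem hl hx)) (InR.inv hl hg)
  exact mem_normalizer hl (hab _ (std hl).aR) (hab _ (std hl).bR)

theorem scalars_le_normalizer {c : G3} (hc : c ∈ scalars (Fin 3) F) : c ∈ subgroupNormalizer (H3 hl) :=
  le_normalizer_of_inR hl (inR_scalar hl hc)

theorem fG_mem : fG hl ∈ subgroupNormalizer (H3 hl) ⊓ specialLinear (Fin 3) F := fEl_mem _ _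

theorem gG_mem : gG hl ∈ subgroupNormalizer (H3 hl) ⊓ specialLinear (Fin 3) F := gEl_mem _ _

theorem dG_conj_a : dG hl * aG hl * (dG hl)⁻¹ = aG hl := by
  rw [mul_inv_eq_iff_eq_mul]
  exact Units.ext (dmat_amat (l := l))

theorem dG_conj_b : ((dG hl * bG hl * (dG hl)⁻¹ : G3) : M3) = l • ((bG hl : M3) * (aG hl : M3) ^ 2) := by
  have h3 := hl.pow_eq_one
  rw [Units.val_mul, Units.val_mul]
  show dmat l * bmat * dmat (l ^ 2) = l • (bmat * amat l ^ 2)
  rw [dmat, dmat, amat, Matrix.diagonal_pow]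
  ext i j
  rw [Matrix.smul_apply, Matrix.mul_diagonal, Matrix.diagonal_mul, Matrix.mul_diagonal]
  fin_cases i <;> fin_cases j <;> simp [bmat] <;> grind

theorem dG_rel_b : Rel (std hl) (dG hl * bG hl * (dG hl)⁻¹) (2, 2) := by
  have e : dG hl * bG hl * (dG hl)⁻¹ =
      (Matrix.GeneralLinearGroup.mkOfDetNeZero (l • (1 : M3)) (by
        rw [det_smul, det_one, mul_one]; exact pow_ne_zero _ (hl.ne_zero (by norm_num)))) *
        (bG hl * aG hl ^ 2) := Units.ext (by
    rw [dG_conj_b hl, Units.val_mul, Units.val_mul, Units.val_pow_eq_pow_val]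
    show _ = (l • (1 : M3)) * _
    rw [smul_mul_assoc, one_mul])
  rw [e]
  have := (Rel.of_scalar (h := std hl) ((mem_scalars_iff (Matrix.GeneralLinearGroup.mkOfDetNeZero (l • (1 : M3)) (by
    rw [det_smul, det_one, mul_one]; exact pow_ne_zero _ (hl.ne_zero (by norm_num))))).2
      ⟨Units.mk0 l (hl.ne_zero (by norm_num)), rfl⟩)).mul
      ((rel_b (h := std hl)).mul ((rel_a (h := std hl)).pow 2))
  exact this

theorem dG_mem : dG hl ∈ subgroupNormalizer (H3 hl) :=
  mem_normalizer hl (by rw [dG_conj_a]; exact ⟨_, rel_a⟩) ⟨_, dG_rel_b hl⟩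

theorem det_dG : (dG hl : M3).det ^ 3 = 1 := by
  show (dmat l).det ^ 3 = 1
  rw [dmat, det_diagonal, Fin.prod_univ_three]
  simp [mul_pow, hl.pow_eq_one]

/-- The action on exponent vectors, as a matrix of determinant one. -/
noncomputable def chiN : subgroupNormalizer (H3 hl) →* SL23 := chi (std hl)

theorem rel_conj_chi {g : G3} (hg : g ∈ subgroupNormalizer (H3 hl)) {x : G3} {v : V3} (hx : Rel (std hl) x v) :
    Rel (std hl) (g * x * g⁻¹) ((chiN hl ⟨g, hg⟩).1 0 0 * v.1 + (chiN hl ⟨g, hg⟩).1 0 1 * v.2,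
      (chiN hl ⟨g, hg⟩).1 1 0 * v.1 + (chiN hl ⟨g, hg⟩).1 1 1 * v.2) := by
  have h := rel_conj (std hl) ⟨g, hg⟩ hx
  rw [act_comb] at h
  convert h using 1
  rw [chiN, chi_apply, actMat]
  ext <;> simp [ZMod.natCast_zmod_val, mul_comm]

theorem chiN_eq {g : G3} (hg : g ∈ subgroupNormalizer (H3 hl)) {u w : V3}
    (ha : Rel (std hl) (g * aG hl * g⁻¹) w) (hb : Rel (std hl) (g * bG hl * g⁻¹) u) :
    (chiN hl ⟨g, hg⟩ : Matrix (Fin 2) (Fin 2) (ZMod 3)) = !![2 * u.1, w.1; 2 * u.2, w.2] := by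
  have h1 := (rel_conj_chi hl hg (rel_a (h := std hl))).unique ha
  have h2 := (rel_conj_chi hl hg (rel_b (h := std hl))).unique hb
  subst h1 h2
  have e : (2 : ZMod 3) * 2 = 1 := rfl
  ext i j
  fin_cases i <;> fin_cases j <;> simp [mul_comm _ (2 : ZMod 3), ← mul_assoc, e]

omit hl [Finite F] in
theorem v3_three : ∀ u : ZMod 3 × ZMod 3, (3 : ℕ) • u = 0 := by decide

/-- A matrix of determinant one from its entries. -/
def mk23 (a b c d : ZMod 3) : SL23 :=
  if h : a * d - b * c = 1 then ⟨!![a, b; c, d], by rw [Matrix.det_fin_two_of]; exact h⟩ else 1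

/-- The image of the element of order four. -/
def cf : SL23 := ⟨!![0, 1; 2, 0], by decide⟩
/-- The image of the diagonal twist. -/
def cd : SL23 := ⟨!![1, 0; 1, 1], by decide⟩
/-- The image of the second element of order four. -/
def cg : SL23 := ⟨!![2, 1; 1, 1], by decide⟩

theorem chi_fG : chiN hl ⟨fG hl, (fG_mem hl).1⟩ = cf := by
  refine Subtype.ext ((chiN_eq hl (fG_mem hl).1 (w := (1, 0)) (u := (0, 1)) ?_ ?_).trans ?_)
  · have e := fEl_conj_a (h := std hl) (h3_ne hl)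
    show Rel _ (fEl (std hl) (h3_ne hl) * (std hl).a * (fEl (std hl) (h3_ne hl))⁻¹) _
    rw [e]
    exact (rel_b (h := std hl)).mul rel_b
  · have e := fEl_conj_b (h := std hl) (h3_ne hl)
    show Rel _ (fEl (std hl) (h3_ne hl) * (std hl).b * (fEl (std hl) (h3_ne hl))⁻¹) _
    rw [e]
    exact rel_a
  · show _ = (cf : SL23).1
    decide

theorem chi_dG : chiN hl ⟨dG hl, dG_mem hl⟩ = cd := by
  refine Subtype.ext ((chiN_eq hl (dG_mem hl) (w := (0, 1)) (u := (2, 2)) ?_ (dG_rel_b hl)).trans ?_)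
  · rw [dG_conj_a]; exact rel_a
  · show _ = (cd : SL23).1
    decide

theorem gG_eq : gG hl = dG hl * fG hl * (dG hl)⁻¹ := Units.ext (by
  rw [gG_val, Units.val_mul, Units.val_mul, fG_val]; rfl)

theorem chi_gG : chiN hl ⟨gG hl, (gG_mem hl).1⟩ = cg := by
  have e : (⟨gG hl, (gG_mem hl).1⟩ : subgroupNormalizer (H3 hl)) =
      ⟨dG hl, dG_mem hl⟩ * ⟨fG hl, (fG_mem hl).1⟩ * ⟨dG hl, dG_mem hl⟩⁻¹ := Subtype.ext (gG_eq hl)
  rw [e, map_mul, map_mul, map_inv, chi_fG, chi_dG]
  decide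

omit hl [Finite F] in
theorem sl23_cases {P : SL23 → Prop}
    (h : ∀ a b c d : ZMod 3, a * d - b * c = 1 → P (mk23 a b c d)) (A : SL23) : P A := by
  have e : A.1 = !![A.1 0 0, A.1 0 1; A.1 1 0, A.1 1 1] := Matrix.eta_fin_two A.1
  have hd : A.1 0 0 * A.1 1 1 - A.1 0 1 * A.1 1 0 = 1 := by rw [← Matrix.det_fin_two]; exact A.2
  have := h _ _ _ _ hd
  rwa [show mk23 (A.1 0 0) (A.1 0 1) (A.1 1 0) (A.1 1 1) = A by
    unfold mk23; exact (dif_pos hd).trans (Subtype.ext e.symm)] at this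

omit hl [Finite F] in
theorem sl23_words_aux : ∀ a b c d : ZMod 3, a * d - b * c = 1 →
    ∃ i : Fin 3, ∃ k : Fin 4, ∃ j : Fin 3, cd ^ (i : ℕ) * cf ^ (k : ℕ) * cd ^ (j : ℕ) = mk23 a b c d := by
  clear * -
  decide +kernel

omit hl [Finite F] in
theorem sl23_abelian_aux : ∀ a b c d : ZMod 3, a * d - b * c = 1 →
    mk23 a b c d ^ 3 = 1 → mk23 a b c d * (cf * mk23 a b c d * cf⁻¹) * (mk23 a b c d)⁻¹ *
      (cf * mk23 a b c d * cf⁻¹)⁻¹ = 1 → mk23 a b c d * (cg * mk23 a b c d * cg⁻¹) * (mk23 a b c d)⁻¹ *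
      (cg * mk23 a b c d * cg⁻¹)⁻¹ = 1 → mk23 a b c d = 1 := by
  clear * -
  decide +kernel

omit hl [Finite F] in
theorem sl23_words (A : SL23) : ∃ i : Fin 3, ∃ k : Fin 4, ∃ j : Fin 3,
    cd ^ (i : ℕ) * cf ^ (k : ℕ) * cd ^ (j : ℕ) = A :=
  sl23_cases (P := fun A => ∃ i : Fin 3, ∃ k : Fin 4, ∃ j : Fin 3,
    cd ^ (i : ℕ) * cf ^ (k : ℕ) * cd ^ (j : ℕ) = A) sl23_words_aux A

omit hl [Finite F] in
theorem sl23_abelian (A : SL23) : A ^ 3 = 1 → A * (cf * A * cf⁻¹) * A⁻¹ * (cf * A * cf⁻¹)⁻¹ = 1 →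
    A * (cg * A * cg⁻¹) * A⁻¹ * (cg * A * cg⁻¹)⁻¹ = 1 → A = 1 :=
  sl23_cases (P := fun A => A ^ 3 = 1 → A * (cf * A * cf⁻¹) * A⁻¹ * (cf * A * cf⁻¹)⁻¹ = 1 →
    A * (cg * A * cg⁻¹) * A⁻¹ * (cg * A * cg⁻¹)⁻¹ = 1 → A = 1) sl23_abelian_aux A

/-- Every action has a lift among the words in the two basic elements. -/
theorem exists_lift (A : SL23) : ∃ g, ∃ hg : g ∈ subgroupNormalizer (H3 hl),
    chiN hl ⟨g, hg⟩ = A ∧ g ∈ Subgroup.closure {fG hl, dG hl} := by
  have key : ∀ A : SL23, ∃ i : Fin 3, ∃ k : Fin 4, ∃ j : Fin 3,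
      cd ^ (i : ℕ) * cf ^ (k : ℕ) * cd ^ (j : ℕ) = A := fun A => by
    clear * - A
    revert A
    exact sl23_words
  obtain ⟨i, k, j, rfl⟩ := key A
  have hf : fG hl ∈ Subgroup.closure ({fG hl, dG hl} : Set G3) := Subgroup.subset_closure (Set.mem_insert _ _)
  have hd : dG hl ∈ Subgroup.closure ({fG hl, dG hl} : Set G3) :=
    Subgroup.subset_closure (Set.mem_insert_of_mem _ rfl)
  refine ⟨dG hl ^ (i : ℕ) * fG hl ^ (k : ℕ) * dG hl ^ (j : ℕ), mul_mem (mul_mem (pow_mem (dG_mem hl) _)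
    (pow_mem (fG_mem hl).1 _)) (pow_mem (dG_mem hl) _), ?_, mul_mem (mul_mem (pow_mem hd _) (pow_mem hf _))
    (pow_mem hd _)⟩
  show chiN hl (⟨dG hl, dG_mem hl⟩ ^ (i : ℕ) * ⟨fG hl, (fG_mem hl).1⟩ ^ (k : ℕ) * ⟨dG hl, dG_mem hl⟩ ^ (j : ℕ)) = _
  rw [map_mul, map_mul, map_pow, map_pow, map_pow, chi_fG, chi_dG]

/-- Acting trivially means lying in the group up to scalars. -/
theorem inR_of_chi {g : G3} (hg : g ∈ subgroupNormalizer (H3 hl)) (e : chiN hl ⟨g, hg⟩ = 1) : InR hl g := by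
  have fix : ∀ {x : G3} {v : V3}, x ∈ H3 hl → Rel (std hl) x v →
      ∃ i, (g : M3) * (x : M3) = SL3.Maximal.lp l i • ((x : M3) * (g : M3)) := by
    intro x v hx hv
    have h1 := rel_conj_chi hl hg hv
    rw [e] at h1
    simp at h1
    have h2 : Rel (std hl) (g * x * g⁻¹ * x⁻¹) 0 := by simpa using h1.mul hv.inv
    obtain ⟨c, hc⟩ := (mem_scalars_iff _).1 h2.scalar
    have hm : g * x * g⁻¹ * x⁻¹ ∈ H3 hl :=
      mul_mem ((Subgroup.mem_normalizer_iff.1 hg x).1 hx) (inv_mem hx)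
    have hc3 : (c : F) ^ 3 = 1 := by
      have hd := (std hl).det_eq_one _ hm
      rwa [hc, det_smul, det_one, mul_one, Fintype.card_fin] at hd
    obtain ⟨k, hk, hkc⟩ := Extra27.eq_pow_of_cube hl hc3
    refine ⟨(k : ZMod 3), ?_⟩
    rw [SL3.Maximal.lp, ZMod.val_natCast, Nat.mod_eq_of_lt hk, hkc, ← Units.val_mul,
      show g * x = g * x * g⁻¹ * x⁻¹ * (x * g) by group, Units.val_mul, hc, smul_mul_assoc, one_mul, Units.val_mul]
  obtain ⟨i, hi⟩ := fix (std hl).aR rel_a
  obtain ⟨j, hj⟩ := fix (std hl).bR rel_b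
  exact ⟨(i, j), hi, hj⟩

theorem chi_of_inR {g : G3} (hg : InR hl g) : chiN hl ⟨g, le_normalizer_of_inR hl hg⟩ = 1 := by
  obtain ⟨v, hv⟩ := hg
  have h : ∀ {x : G3} {w : V3}, Rel (std hl) x w → Rel (std hl) (g * x * g⁻¹) w := fun {x w} hx => by
    simpa using (hv.mul hx).mul hv.inv
  refine Subtype.ext ((chiN_eq hl _ (h (rel_a (h := std hl))) (h (rel_b (h := std hl)))).trans ?_)
  show _ = ((1 : SL23) : Matrix (Fin 2) (Fin 2) (ZMod 3))
  decide

/-- An element with scalar cube commuting up to scalars with two conjugates lies in the group up to scalars. -/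
theorem inR_of_abelian {u : G3} (hu : u ∈ subgroupNormalizer (H3 hl)) (hu3 : InR hl (u ^ 3))
    (hf : InR hl (u * (fG hl * u * (fG hl)⁻¹) * u⁻¹ * (fG hl * u * (fG hl)⁻¹)⁻¹))
    (hg : InR hl (u * (gG hl * u * (gG hl)⁻¹) * u⁻¹ * (gG hl * u * (gG hl)⁻¹)⁻¹)) : InR hl u := by
  refine inR_of_chi hl hu ?_
  set A := chiN hl ⟨u, hu⟩ with hA
  have key : ∀ A : SL23, A ^ 3 = 1 → A * (cf * A * cf⁻¹) * A⁻¹ * (cf * A * cf⁻¹)⁻¹ = 1 →
      A * (cg * A * cg⁻¹) * A⁻¹ * (cg * A * cg⁻¹)⁻¹ = 1 → A = 1 := fun A => by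
    clear * - A
    revert A
    exact sl23_abelian
  refine key A ?_ ?_ ?_
  · rw [hA, ← map_pow]
    exact chi_of_inR hl hu3
  · rw [hA, ← chi_fG hl, ← map_inv, ← map_inv, ← map_mul, ← map_mul, ← map_mul, ← map_mul, ← map_inv, ← map_mul]
    exact chi_of_inR hl hf
  · rw [hA, ← chi_gG hl, ← map_inv, ← map_inv, ← map_mul, ← map_mul, ← map_mul, ← map_mul, ← map_inv, ← map_mul]
    exact chi_of_inR hl hg

theorem card_H3 : Nat.card (H3 hl) = 27 := by
  classical
  haveI : Fintype (H3 hl) := Fintype.ofFinite _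
  have hs : ∀ k : Fin 3, Matrix.GeneralLinearGroup.mkOfDetNeZero (l • (1 : M3)) (by
      rw [det_smul, det_one, mul_one]; exact pow_ne_zero _ (hl.ne_zero (by norm_num))) ^ (k : ℕ) ∈ H3 hl :=
    fun k => pow_mem (scal_mem hl _ rfl) _
  let s : G3 := Matrix.GeneralLinearGroup.mkOfDetNeZero (l • (1 : M3)) (by
      rw [det_smul, det_one, mul_one]; exact pow_ne_zero _ (hl.ne_zero (by norm_num)))
  have hsv : ∀ k : ℕ, ((s ^ k : G3) : M3) = l ^ k • (1 : M3) := fun k => by
    rw [Units.val_pow_eq_pow_val]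
    show (l • (1 : M3)) ^ k = _
    rw [smul_pow, one_pow]
  have hsc : ∀ k : ℕ, (s ^ k) ∈ scalars (Fin 3) F := fun k =>
    (mem_scalars_iff _).2 ⟨Units.mk0 (l ^ k) (pow_ne_zero _ (hl.ne_zero (by norm_num))), hsv k⟩
  let Φ : Fin 3 × V3 → H3 hl := fun p => ⟨s ^ (p.1 : ℕ) * wd hl p.2, mul_mem (hs p.1) (wd_mem hl p.2)⟩
  have hbij : Function.Bijective Φ := by
    constructor
    · rintro ⟨k, v⟩ ⟨k', v'⟩ e
      have e' : s ^ (k : ℕ) * wd hl v = s ^ (k' : ℕ) * wd hl v' := congrArg Subtype.val e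
      have r1 := (Rel.of_scalar (h := std hl) (hsc k)).mul (rel_wd hl v)
      have r2 := (Rel.of_scalar (h := std hl) (hsc k')).mul (rel_wd hl v')
      rw [e'] at r1
      have hv := r1.unique r2
      simp at hv
      subst hv
      have := congrArg (fun g : G3 => (g : M3)) (mul_right_cancel e')
      simp only [hsv] at this
      have := smul_left_injective F (one_ne_zero (α := M3)) this
      exact Prod.ext (Fin.ext (hl.pow_inj k.2 k'.2 this)) rfl
    · rintro ⟨x, hx⟩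
      obtain ⟨v, hv⟩ := exists_rel (h := std hl) hx
      obtain ⟨c, hc, rfl⟩ := exists_scalar_wd hl hv
      obtain ⟨d, hd⟩ := (mem_scalars_iff c).1 hc
      have hd3 : (d : F) ^ 3 = 1 := by
        have h1 := (std hl).det_eq_one _ hx
        rwa [Units.val_mul, det_mul, det_wd, mul_one, hd, det_smul, det_one, mul_one, Fintype.card_fin] at h1
      obtain ⟨k, hk, hkd⟩ := Extra27.eq_pow_of_cube hl hd3
      refine ⟨(⟨k, hk⟩, v), Subtype.ext ?_⟩
      show s ^ k * wd hl v = c * wd hl v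
      rw [show c = s ^ k from Units.ext (by rw [hd, hsv, hkd])]
  rw [← Nat.card_eq_of_bijective Φ hbij, Nat.card_prod, Nat.card_prod, Nat.card_fin, Nat.card_zmod]

/-- The normaliser in the special linear group is maximal. -/
theorem hess_max [Fintype F] (hp : (Fintype.card F).Prime) (hp3 : Fintype.card F % 3 = 1) :
    Cfsg.Geo.IsMaximalIn (specialLinear (Fin 3) F)
      (subgroupNormalizer (H3 hl) ⊓ specialLinear (Fin 3) F) := by
  classical
  haveI : Fact (Nat.Prime 3) := ⟨Nat.prime_three⟩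
  haveI := Fact.mk hp
  have h27 := card_H3 hl
  have hpow : ∀ x ∈ H3 hl, x ^ 3 = 1 := by
    intro x hx
    obtain ⟨v, hv⟩ := exists_rel (h := std hl) hx
    have h3v := v3_three
    have hr := hv.pow 3
    rw [h3v] at hr
    obtain ⟨c, hc, e⟩ := exists_scalar_wd hl hv
    obtain ⟨d, hd⟩ := (mem_scalars_iff c).1 hc
    have hd3 : (d : F) ^ 3 = 1 := by
      have h1 := (std hl).det_eq_one _ hx
      rwa [e, Units.val_mul, det_mul, det_wd, mul_one, hd, det_smul, det_one, mul_one, Fintype.card_fin] at h1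
    have hw : ∀ u : V3, wd hl u ^ 3 = 1 := by
      intro u
      have h3 := hl.pow_eq_one
      have hA : (amat l : M3) ^ 3 = 1 := by
        rw [amat, diagonal_pow, ← diagonal_one]
        congr 1
        funext i; fin_cases i <;> simp [h3, show (l ^ 2) ^ 3 = 1 by rw [← pow_mul, mul_comm, pow_mul, h3, one_pow]]
      have hB : (bmat : M3) ^ 3 = 1 := by
        rw [pow_three]
        ext r s; fin_cases r <;> fin_cases s <;> simp [bmat, Matrix.mul_apply, Fin.sum_univ_three]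
      set i := (-u.1).val
      set j := u.2.val
      set X : M3 := amat l ^ j with hX
      set Y : M3 := bmat ^ i with hY
      have hr := (rel_b (h := std hl)).pow i
      have e := comm_pair (std hl) (pow_mem (std hl).aR j) hr ((rel_a (h := std hl)).pow j)
      simp only [Units.val_pow_eq_pow_val] at e
      change (Y : M3) * X = SL3.Maximal.lp l _ • (X * Y) at e
      generalize pair (i • ((2, 0) : V3)) (j • ((0, 1) : V3)) = k at e
      have hk : SL3.Maximal.lp l k ^ 3 = 1 := by rw [SL3.Maximal.lp, ← pow_mul, mul_comm, pow_mul, h3, one_pow]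
      refine Units.ext ?_
      rw [Units.val_pow_eq_pow_val]
      show (((aG hl) ^ j * (bG hl) ^ i : G3) : M3) ^ 3 = 1
      rw [Units.val_mul, Units.val_pow_eq_pow_val, Units.val_pow_eq_pow_val]
      show (X * Y) ^ 3 = 1
      have e' : ∀ Z : M3, Y * (X * Z) = SL3.Maximal.lp l k • (X * (Y * Z)) := fun Z => by
        rw [← mul_assoc, e, smul_mul_assoc, mul_assoc]
      rw [pow_three]
      simp only [mul_assoc, e', mul_smul_comm, smul_smul]
      rw [show SL3.Maximal.lp l k * (SL3.Maximal.lp l k * SL3.Maximal.lp l k) = 1 by rw [← hk]; ring, one_smul,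
        show X * (X * (X * (Y * (Y * Y)))) = X ^ 3 * Y ^ 3 by simp only [pow_three, mul_assoc], hX, hY, ← pow_mul,
        mul_comm j, pow_mul, hA, one_pow, ← pow_mul, mul_comm i, pow_mul, hB, one_pow, one_mul]
    rw [e, ((SympNorm.commute_scalar hc _)).mul_pow, hw, mul_one]
    refine Units.ext ?_
    rw [Units.val_pow_eq_pow_val, hd, smul_pow, hd3, one_pow, one_smul, Units.val_one]
  have hexp : Monoid.exponent (H3 hl) = 3 := by
    refine (Nat.dvd_prime Nat.prime_three).1 (Monoid.exponent_dvd_of_forall_pow_eq_one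
      fun x => Subtype.ext (hpow x x.2)) |>.resolve_left fun h1 => ?_
    haveI : Subsingleton (H3 hl) := Monoid.exp_eq_one_iff.1 h1
    rw [Nat.card_of_subsingleton (1 : H3 hl)] at h27
    omega
  have hna : ¬ IsMulCommutative (H3 hl) := fun hc => by
    have e := congrArg (fun x : H3 hl => ((x : G3) : M3)) (hc.1.1 ⟨_, (std hl).aR⟩ ⟨_, (std hl).bR⟩)
    simp only [Subgroup.coe_mul, Units.val_mul] at e
    change (aG hl : M3) * (bG hl : M3) = (bG hl : M3) * (aG hl : M3) at e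
    rw [comm_ab hl] at e
    have hne : (bG hl : M3) * (aG hl : M3) ≠ 0 := (bG hl * aG hl).ne_zero
    exact hl.ne_one (by norm_num) (smul_left_injective F hne (e.trans (one_smul _ _).symm))
  have hcen : ∀ z : H3 hl, z ∈ Subgroup.center (H3 hl) ↔ (z : G3) ∈ scalars (Fin 3) F := by
    refine fun z => ⟨fun hz => ?_, fun hz => Subgroup.mem_center_iff.2 fun x =>
      Subtype.ext (SympNorm.commute_scalar hz (x : G3)).symm.eq⟩
    refine Rel.scalar (h := std hl) ⟨?_, ?_⟩ <;>
      simp only [Prod.fst_zero, Prod.snd_zero, SL3.Maximal.lp_zero, one_smul, ← Units.val_mul]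
    · exact congrArg Units.val
        (congrArg Subtype.val (Subgroup.mem_center_iff.1 hz ⟨_, (std hl).aR⟩)).symm
    · exact congrArg Units.val
        (congrArg Subtype.val (Subgroup.mem_center_iff.1 hz ⟨_, (std hl).bR⟩)).symm
  have hZ : Nat.card (Subgroup.center (H3 hl)) = 3 := by
    have hpG : IsPGroup 3 (H3 hl) := IsPGroup.of_card (n := 3) h27
    haveI : Nontrivial (H3 hl) := Finite.one_lt_card_iff_nontrivial.1 (by omega)
    obtain ⟨i, hi, hcard⟩ := (Nat.dvd_prime_pow Nat.prime_three).1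
      (show Nat.card (Subgroup.center (H3 hl)) ∣ 3 ^ 3 by
        have := Subgroup.card_subgroup_dvd_card (Subgroup.center (H3 hl))
        rwa [h27] at this)
    have h1 := Finite.one_lt_card_iff_nontrivial.2 hpG.center_nontrivial
    have hle : Nat.card (Subgroup.center (H3 hl)) ≤ Nat.card (rootsOfUnity 3 F) := by
      refine Nat.card_le_card_of_injective (fun z => ⟨Units.mk0 (((z : H3 hl) : G3) 0 0) ?_, ?_⟩) ?_
      · obtain ⟨d, hd⟩ := (mem_scalars_iff _).1 ((hcen z).1 z.2)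
        simp [hd]
      · obtain ⟨d, hd⟩ := (mem_scalars_iff _).1 ((hcen z).1 z.2)
        rw [mem_rootsOfUnity, Units.ext_iff, Units.val_pow_eq_pow_val, Units.val_mk0]
        have h1 := (std hl).det_eq_one _ (z : H3 hl).2
        rw [hd, det_smul, det_one, mul_one, Fintype.card_fin] at h1
        simpa [hd] using h1
      · intro z z' e
        obtain ⟨d, hd⟩ := (mem_scalars_iff _).1 ((hcen z).1 z.2)
        obtain ⟨d', hd'⟩ := (mem_scalars_iff _).1 ((hcen z').1 z'.2)
        have e' := congrArg (fun u => ((u : Fˣ) : F)) (congrArg Subtype.val e)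
        simp [hd, hd'] at e'
        exact Subtype.ext (Subtype.ext (Units.ext (by rw [hd, hd', e'])))
    have hr : Nat.card (rootsOfUnity 3 F) ≤ 3 := by
      exact card_rootsOfUnity F 3
    rw [hcard] at h1 hle ⊢
    interval_cases i <;> first | rfl | omega | (norm_num at h1 hle ⊢)
  have hsym : IsSymplecticTypeGroup 3 (H3 hl) := by
    refine ⟨Nat.prime_three, IsPGroup.of_card (n := 3) h27, fun A hA hAc => ?_, by rw [hexp]; norm_num⟩
    have hsc : A.map (H3 hl).subtype ≤ scalars (Fin 3) F := by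
      refine le_scalars_of_invariant (h := std hl) (h3_ne hl) (fun x ⟨y, _, e⟩ => e ▸ y.2) ?_ ?_
      · rintro _ ⟨x, hx, rfl⟩ _ ⟨y, hy, rfl⟩
        have := congrArg Subtype.val (hAc.1.1 ⟨x, hx⟩ ⟨y, hy⟩)
        exact congrArg Subtype.val this
      · rintro _ ⟨x, hx, rfl⟩
        let φ : MulAut (H3 hl) := Subgroup.normalizerMonoidHom (H3 hl) ⟨fEl (std hl) (h3_ne hl), (fG_mem hl).1⟩
        have : φ x ∈ A := by
          rw [← Subgroup.characteristic_iff_map_eq.1 hA φ]
          exact Subgroup.mem_map_of_mem _ hx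
        exact ⟨φ x, this, rfl⟩
    have hAle : A ≤ Subgroup.center (H3 hl) := fun x hx => (hcen x).2 (hsc ⟨x, hx, rfl⟩)
    haveI : IsCyclic (Subgroup.center (H3 hl)) := isCyclic_of_prime_card (p := 3) hZ
    exact isCyclic_of_injective (Subgroup.inclusion hAle) (Subgroup.inclusion_injective hAle)
  haveI : CharP F (Fintype.card F) := charP_of_card_eq_prime rfl
  have hdata : IsLinearSymplecticTypeData 3 (H3 hl) := by
    refine ⟨hsym, (std hl).absIrred (h3_ne hl), Fintype.card F, 1, fun h => by omega,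
      ⟨hp, inferInstance, (pow_one _).symm, ?_, fun d hd hd1 => by omega⟩,
      Or.inl ⟨by decide, by decide, hZ, 1, le_rfl, h27⟩⟩
    rw [hZ, pow_one]; omega
  exact SL3.Maximal.hess_maximal hp rfl hp3 hdata

end CfsgLib.Geo.Nine
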