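import Cfsg.Agent.Lib.Geo.Nine.StageOne

/-!
# The commutant of the quaternion group on one factor
-/

set_option autoImplicit false
set_option maxHeartbeats 1000000

namespace CfsgLib.Geo.Nine

open Matrix Cfsg.Geo
open scoped Kronecker
open CfsgLib.Geo.Extra27 (amat bmat jmat Heis)
open CfsgLib.Geo.SL3.Maximal
open CfsgLib.Geo.SympNorm (commute_scalar)

variable {F : Type*} [Field F] {l : F}

local notation "M3" => Matrix (Fin 3) (Fin 3) F
local notation "G3" => GL (Fin 3) F
local notation "V3" => ZMod 3 × ZMod 3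
local notation "M9" => Matrix I9 I9 F
local notation "G9" => GL I9 F

/-- The projection on the fixed space of the involution. -/
def Pp : Matrix (Fin 3) (Fin 3) F := (2 : F)⁻¹ • (1 + jmat)

/-- The projection on the negated space of the involution. -/
def Pn : Matrix (Fin 3) (Fin 3) F := (2 : F)⁻¹ • (1 - jmat)

theorem jmat_sq' : (jmat : M3) * jmat = 1 := by
  ext i j
  fin_cases i <;> fin_cases j <;> simp [jmat, Matrix.mul_apply, Fin.sum_univ_three]

theorem proj_rules (h2 : (2 : F) ≠ 0) :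
    (Pp : M3) * Pp = Pp ∧ (Pn : M3) * Pn = Pn ∧ (Pp : M3) * Pn = 0 ∧ (Pn : M3) * Pp = 0 ∧ (Pp : M3) + Pn = 1 := by
  refine ⟨?_, ?_, ?_, ?_, ?_⟩ <;> ext i j <;> fin_cases i <;> fin_cases j <;>
    simp [Pp, Pn, jmat, Matrix.mul_apply, Fin.sum_univ_three] <;> field_simp <;> ring

theorem pmM_mul (h2 : (2 : F) ≠ 0) (x y x' y' : M3) :
    ((Pp : M3) ⊗ₖ x + (Pn : M3) ⊗ₖ y) * ((Pp : M3) ⊗ₖ x' + (Pn : M3) ⊗ₖ y') =
      (Pp : M3) ⊗ₖ (x * x') + (Pn : M3) ⊗ₖ (y * y') := by
  obtain ⟨e1, e2, e3, e4, -⟩ := proj_rules (F := F) h2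
  rw [mul_add, add_mul, add_mul, ← mul_kronecker_mul, ← mul_kronecker_mul, ← mul_kronecker_mul, ← mul_kronecker_mul,
    e1, e2, e3, e4, zero_kronecker, zero_kronecker, add_zero, zero_add]

/-- The elements acting separately on the two spaces of the involution. -/
noncomputable def pm (h2 : (2 : F) ≠ 0) : G3 × G3 →* G9 :=
  MonoidHom.mk'
    (fun p => ⟨(Pp : M3) ⊗ₖ (p.1 : M3) + (Pn : M3) ⊗ₖ (p.2 : M3),
      (Pp : M3) ⊗ₖ ((p.1⁻¹ : G3) : M3) + (Pn : M3) ⊗ₖ ((p.2⁻¹ : G3) : M3),
      by rw [pmM_mul h2, Units.mul_inv, Units.mul_inv, ← add_kronecker, (proj_rules h2).2.2.2.2, one_kronecker_one],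
      by rw [pmM_mul h2, Units.inv_mul, Units.inv_mul, ← add_kronecker, (proj_rules h2).2.2.2.2, one_kronecker_one]⟩)
    fun p q => Units.ext (by simp [pmM_mul h2])

theorem pm_val (h2 : (2 : F) ≠ 0) (x y : G3) :
    ((pm h2 (x, y) : G9) : M9) = (Pp : M3) ⊗ₖ (x : M3) + (Pn : M3) ⊗ₖ (y : M3) := rfl

theorem pm_extract (h2 : (2 : F) ≠ 0) {A B A' B' : M3}
    (e : (Pp : M3) ⊗ₖ A + (Pn : M3) ⊗ₖ B = (Pp : M3) ⊗ₖ A' + (Pn : M3) ⊗ₖ B') : A = A' ∧ B = B' := by
  have h00 : ∀ u v, B u v = B' u v := fun u v => by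
    have := congrFun₂ e ((0, u) : I9) ((0, v) : I9)
    simp [Pp, Pn, jmat] at this
    rcases this with h | h | h
    · exact h
    · exact absurd h h2
    · exact absurd h (by rwa [one_add_one_eq_two])
  refine ⟨Matrix.ext fun u v => ?_, Matrix.ext h00⟩
  have a := congrFun₂ e ((1, u) : I9) ((1, v) : I9)
  simp [Pp, Pn, jmat, h00 u v] at a
  rcases a with h | h
  · exact h
  · exact absurd h h2

theorem pm_injective (h2 : (2 : F) ≠ 0) : Function.Injective (pm h2 : G3 × G3 → G9) := fun p q e => by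
  obtain ⟨h, h'⟩ := pm_extract h2 (congrArg Units.val e)
  exact Prod.ext (Units.ext h) (Units.ext h')

theorem pm_diag (h2 : (2 : F) ≠ 0) (x : G3) : (pm h2 (x, x) : G9) = tB x := Units.ext (by
  rw [pm_val, tB_eq, tp_val, Units.val_one, ← add_kronecker, (proj_rules h2).2.2.2.2])

variable (hl : IsPrimitiveRoot l 3)
include hl
variable [Finite F] {M : Subgroup (GL I9 F)}

theorem pm_neg (h2 : (2 : F) ≠ 0) (x : G3) : (pm h2 (x, -x) : G9) = tp (jG hl, x) := Units.ext (by
  rw [pm_val, tp_val, Units.val_neg, jG_val]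
  ext r c
  simp [Pp, Pn, kroneckerMap_apply]
  field_simp
  ring)

omit [Finite F] in
theorem commutant {X : M3} (h2 : (2 : F) ≠ 0) (hf : X * fmat l = fmat l * X) (hg : X * gmat l = gmat l * X) :
    X = (X 1 1 - X 1 2) • (Pp : M3) + (X 1 1 + X 1 2) • (Pn : M3) := by
  have h3 := h3_ne hl
  have hne : (l - l ^ 2)⁻¹ ≠ 0 := inv_ne_zero (sub_sq_ne hl h3)
  have hll : l - l ^ 2 ≠ 0 := sub_sq_ne hl h3
  have hj : X * jmat = jmat * X := by
    rw [← fmat_sq hl h3, ← mul_assoc, hf, mul_assoc, hf, ← mul_assoc]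
  have hD : dmat (l ^ 2) * X * dmat l * fmat l = fmat l * (dmat (l ^ 2) * X * dmat l) := by
    have e := congrArg (fun Z => dmat (l ^ 2) * Z * dmat l) hg
    simp only [gmat, mul_assoc, (dmat_inv hl).1, mul_one] at e
    simpa [mul_assoc, (dmat_inv hl).1, ← mul_assoc (dmat (l ^ 2)) (dmat l)] using e
  set W : M3 := !![1, 1, 1; 1, l, l ^ 2; 1, l ^ 2, l] with hW
  have hWX : ∀ Z : M3, Z * fmat l = fmat l * Z → Z * W = W * Z := fun Z e => by
    rw [fmat, mul_smul_comm, smul_mul_assoc] at e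
    exact (smul_right_injective M3 hne e : _)
  have eW := hWX X hf
  have eD := hWX _ hD
  have j01 := congrFun₂ hj 0 1
  have j10 := congrFun₂ hj 1 0
  have j11 := congrFun₂ hj 1 2
  have j12 := congrFun₂ hj 1 1
  have w00 := congrFun₂ eW 0 0
  have d00 := congrFun₂ eD 0 0
  have w01 := congrFun₂ eW 0 1
  simp [hW, jmat, dmat, Matrix.mul_apply, Matrix.vecMul, dotProduct, Fin.sum_univ_three] at j01 j10 j11 j12 w00 d00 w01
  have a0 : X 0 1 = X 1 0 := mul_left_cancel₀ h2 (by linear_combination w00 - j01 - j10)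
  have z : X 0 1 = 0 := (mul_eq_zero.1 (show (2 * (l - l ^ 2)) * X 0 1 = 0 by
    have h3' := hl.pow_eq_one
    have hg := geom hl
    grind)).resolve_left (mul_ne_zero h2 hll)
  ext i j
  fin_cases i <;> fin_cases j <;> simp [Pp, Pn, jmat] <;> (try field_simp) <;> grind

theorem exists_pm (h2 : (2 : F) ≠ 0) {g : G9} (hf : Commute g (tA (fG hl))) (hg : Commute g (tA (gG hl))) :
    ∃ x y, g = pm h2 (x, y) := by
  let S : G9 → Fin 3 → Fin 3 → M3 := fun g u v => Matrix.of fun j j' => (g : M9) (j, u) (j', v)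
  have slice : ∀ (g : G9) (x : G3), Commute g (tA x) → ∀ u v, S g u v * (x : M3) = (x : M3) * S g u v := by
    intro g x e u v
    ext j j'
    have := congrArg (fun k : G9 => (k : M9) (j, u) (j', v)) e.eq
    simpa [S, tA_eq, tp_apply, Matrix.mul_apply, Fintype.sum_prod_type, one_apply, mul_comm] using this
  have form : ∀ g : G9, Commute g (tA (fG hl)) → Commute g (tA (gG hl)) → ∃ A B : M3,
      (g : M9) = (Pp : M3) ⊗ₖ A + (Pn : M3) ⊗ₖ B := by
    intro g hf hg
    refine ⟨Matrix.of fun u v => S g u v 1 1 - S g u v 1 2, Matrix.of fun u v => S g u v 1 1 + S g u v 1 2, ?_⟩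
    ext r c
    have := congrFun₂ (commutant hl h2 (X := S g r.2 c.2) (fG_val hl ▸ slice g _ hf _ _)
      (gG_val hl ▸ slice g _ hg _ _)) r.1 c.1
    simp only [Matrix.add_apply, Matrix.smul_apply, smul_eq_mul] at this
    simp only [Matrix.add_apply, kroneckerMap_apply, Matrix.of_apply]
    rw [mul_comm, mul_comm (Pn r.1 c.1)]
    exact this
  obtain ⟨A, B, e⟩ := form g hf hg
  obtain ⟨A', B', e'⟩ := form g⁻¹ hf.inv_left hg.inv_left
  have one_eq : (1 : M9) = (Pp : M3) ⊗ₖ (1 : M3) + (Pn : M3) ⊗ₖ (1 : M3) := by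
    rw [← add_kronecker, (proj_rules h2).2.2.2.2, one_kronecker_one]
  obtain ⟨a1, b1⟩ := pm_extract h2 ((pmM_mul h2 A B A' B').symm.trans ((show _ = (1 : M9) by
    rw [← e, ← e']; exact g.mul_inv).trans one_eq))
  obtain ⟨a2, b2⟩ := pm_extract h2 ((pmM_mul h2 A' B' A B).symm.trans ((show _ = (1 : M9) by
    rw [← e, ← e']; exact g.inv_mul).trans one_eq))
  exact ⟨⟨A, A', a1, a2⟩, ⟨B, B', b1, b2⟩, Units.ext e⟩

theorem Ctx.tA_mem_all (h : Ctx hl M) {x : G3} (hx : x ∈ subgroupNormalizer (H3 hl)) : (tA x : G9) ∈ M := by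
  have hle : subgroupNormalizer (H3 hl) ≤ M.comap tA := normalizer_le hl
    (h.tA_mem hl (fG_mem hl).1 (by simp [det_one_of_mem (fG_mem hl).2])) (h.tA_mem hl (dG_mem hl) (det_dG hl))
    (h.tA_mem hl (h3_le hl (std hl).aR) (by rw [show ((aG hl : G3) : M3).det = 1 from det_aG hl, one_pow]))
    (h.tA_mem hl (h3_le hl (std hl).bR) (by rw [show ((bG hl : G3) : M3).det = 1 from det_H3 hl (std hl).bR, one_pow]))
    fun c hc => h.sc (tA_scalars hc)
  exact hle hx

theorem Ctx.tB_mem_all (h : Ctx hl M) {x : G3} (hx : x ∈ subgroupNormalizer (H3 hl)) : (tB x : G9) ∈ M := by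
  rw [← sw_conj_tA]
  exact mul_mem (mul_mem (h.sw_mem hl) (h.tA_mem_all hl hx)) (inv_mem (h.sw_mem hl))

theorem commute_fG_rel {x : G3} {v : V3} (hx : Rel (std hl) x v) (hc : Commute (fG hl) x) : v = 0 := by
  have h := rel_av hl (fG_mem hl).1 hx
  rw [hc.eq, mul_inv_cancel_right, chi_fG] at h
  have e := h.unique hx
  have key : ∀ v : ZMod 3 × ZMod 3, av cf v = v → v = 0 := by clear * -; decide +kernel
  exact key v e

theorem pm_mem_R9 (h2 : (2 : F) ≠ 0) {x y : G3} (h : (pm h2 (x, y) : G9) ∈ R9 hl) : x = y ∧ InR hl x := by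
  obtain ⟨c, hc, v, w, e⟩ := R9_cases hl h
  obtain ⟨d, hd⟩ := (mem_scalars_iff c).1 hc
  have hcomm : Commute (pm h2 (x, y) : G9) (tA (fG hl)) := by
    have hfJ : Commute (fG hl : M3) (jmat : M3) := by
      rw [fG_val, ← fmat_sq hl (h3_ne hl)]; exact (Commute.refl _).mul_right (Commute.refl _)
    refine Units.ext ?_
    simp only [Units.val_mul, pm_val, tA_eq, tp_val, Units.val_one, add_mul, mul_add, ← mul_kronecker_mul, mul_one,
      one_mul]
    congr 2
    · exact ((Commute.one_right _).add_right hfJ).smul_right _ |>.symm.eq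
    · exact ((Commute.one_right _).sub_right hfJ).smul_right _ |>.symm.eq
  rw [e] at hcomm
  have hv : v = 0 := by
    refine commute_fG_rel hl (rel_wd hl v) ?_
    have h1 := ((commute_scalar (inv_mem hc) (tA (fG hl)))).mul_left hcomm
    rw [inv_mul_cancel_left, tp_eq] at h1
    have h3 := h1.mul_left (commute_tA_tB (fG hl) (wd hl w)⁻¹).symm
    rw [map_inv, mul_inv_cancel_right] at h3
    refine (Units.ext (Matrix.ext fun j j' => ?_) : fG hl * wd hl v = wd hl v * fG hl)
    simpa [tA_eq, tp_apply, Matrix.mul_apply, Fintype.sum_prod_type, one_apply] using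
      (congrArg (fun g : G9 => (g : M9) ((j, 0) : I9) ((j', 0) : I9)) h3.eq).symm
  subst hv
  obtain ⟨c0, hc0⟩ := (mem_scalars_iff _).1 (Rel.scalar (h := std hl) (rel_wd hl (0 : V3)))
  let s : G3 := SympNorm.sc ((d : F) * c0) (mul_ne_zero d.ne_zero c0.ne_zero)
  have e' : (pm h2 (x, y) : G9) = pm h2 (s * wd hl w, s * wd hl w) := by
    rw [pm_diag, e]
    refine Units.ext ?_
    rw [Units.val_mul, tp_val, tB_eq, tp_val, Units.val_mul, Units.val_one, hd, hc0]
    show _ = (1 : M3) ⊗ₖ ((((d : F) * c0) • (1 : M3)) * (wd hl w : M3))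
    simp [smul_kronecker, kronecker_smul, smul_smul, mul_comm]
  have := pm_injective h2 e'
  simp only [Prod.mk.injEq] at this
  rw [this.1, this.2]
  exact ⟨rfl, InR.mul hl (inR_scalar hl (SympNorm.sc_mem _ _)) (inR_wd hl w)⟩

theorem pm_conj_tB (h2 : (2 : F) ≠ 0) (x y w : G3) :
    (pm h2 (x, y) * tB w * (pm h2 (x, y))⁻¹ : G9) = pm h2 (x * w * x⁻¹, y * w * y⁻¹) := by
  rw [← pm_diag h2 w, ← map_inv, ← map_mul, ← map_mul]; rfl

theorem of_pm_mem_N9 (h2 : (2 : F) ≠ 0) {x y : G3} (h : (pm h2 (x, y) : G9) ∈ N9 hl) :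
    x ∈ subgroupNormalizer (H3 hl) ∧ x⁻¹ * y ∈ scalars (Fin 3) F := by
  have key : ∀ z, InR hl z → x * z * x⁻¹ = y * z * y⁻¹ ∧ InR hl (x * z * x⁻¹) := fun z hz => by
    have hm : (tB z : G9) ∈ R9 hl := by rw [tB_eq, mem_R9_tp]; exact ⟨inR_scalar hl (one_mem _), hz⟩
    have := (Subgroup.mem_normalizer_iff.1 h _).1 hm
    rw [pm_conj_tB hl] at this
    exact pm_mem_R9 hl h2 this
  obtain ⟨ea, ia⟩ := key _ ⟨_, rel_a⟩
  obtain ⟨eb, ib⟩ := key _ ⟨_, rel_b⟩
  refine ⟨mem_normalizer hl ia ib, Rel.scalar (h := std hl) ?_⟩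
  have cm : ∀ z : G3, x * z * x⁻¹ = y * z * y⁻¹ → (x⁻¹ * y) * z = z * (x⁻¹ * y) := fun z e => by
    calc x⁻¹ * y * z = x⁻¹ * (y * z * y⁻¹) * y := by group
      _ = x⁻¹ * (x * z * x⁻¹) * y := by rw [e]
      _ = _ := by group
  constructor <;> simp only [Prod.fst_zero, Prod.snd_zero, SL3.Maximal.lp_zero, one_smul, ← Units.val_mul]
  · exact congrArg Units.val (cm _ ea)
  · exact congrArg Units.val (cm _ eb)

omit hl [Finite F] in
theorem sl23_twelve_aux : ∀ a b c d : ZMod 3, a * d - b * c = 1 → mk23 a b c d ^ 12 = 1 := by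
  clear * -
  decide +kernel

theorem pow_mem_scalars {n : G3} (hn : n ∈ subgroupNormalizer (H3 hl)) : n ^ 36 ∈ scalars (Fin 3) F := by
  have hA : chiN hl ⟨n, hn⟩ ^ 12 = 1 := sl23_cases (P := fun A => A ^ 12 = 1) sl23_twelve_aux _
  have hi : InR hl (n ^ 12) := inR_of_chi hl (pow_mem hn 12) (by rw [← hA, ← map_pow]; rfl)
  obtain ⟨v, hv⟩ := hi
  have := hv.pow 3
  rw [v3_three, ← pow_mul] at this
  exact this.scalar

omit [Finite F] in
theorem scalar_pow_card [Fintype F] {c : G3} (hc : c ∈ scalars (Fin 3) F) : c ^ (Fintype.card F - 1) = 1 := by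
  obtain ⟨d, hd⟩ := (mem_scalars_iff c).1 hc
  refine Units.ext ?_
  rw [Units.val_pow_eq_pow_val, hd, smul_pow, one_pow, FiniteField.pow_card_sub_one_eq_one _ d.ne_zero, one_smul,
    Units.val_one]

/-- The kernel of the first component. -/
theorem Ctx.pm_one_cases [Fintype F] (hp : (Fintype.card F).Prime) (hp3 : Fintype.card F % 3 = 1) (h : Ctx hl M)
    (hno : ¬ specialLinear I9 F ≤ M) (h2 : (2 : F) ≠ 0) {y : G3} (hy : (pm h2 (1, y) : G9) ∈ M) :
    y = 1 ∨ y = -1 := by
  let K : Subgroup G3 := M.comap ((pm h2).comp (MonoidHom.inr G3 G3))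
  have sgn : ∀ y ∈ K, y ∈ scalars (Fin 3) F → y = 1 ∨ y = -1 := by
    intro y hy hys
    have hc : Commute (pm h2 (1, y) : G9) (tB (aG hl)) := by
      show _ = _
      rw [← pm_diag h2, ← map_mul, ← map_mul, Prod.mk_mul_mk, Prod.mk_mul_mk, one_mul, mul_one,
        (commute_scalar hys (aG hl)).eq]
    have hns : (tB (aG hl) : G9) ∉ scalars I9 F := fun hs => by
      rw [tB_eq] at hs
      exact absurd (Rel.unique (Rel.of_scalar (h := std hl) (tp_scalar hs).2) rel_a) (by decide)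
    have hN := h.centralizer_le hl hp hp3 hno (gen9_mem hl 2) hns hy hc
    obtain ⟨s, hs⟩ := (mem_scalars_iff y).1 hys
    have hm := (Subgroup.mem_normalizer_iff.1 hN _).1 (gen9_mem hl 0)
    change pm h2 (1, y) * gen9 hl 0 * (pm h2 (1, y))⁻¹ ∈ R9 hl at hm
    have hyM : (y : M3) = (s : F) • 1 := hs
    set g : M3 := (Pp : M3) + (s : F) • (Pn : M3) with hg
    set g' : M3 := (Pp : M3) + ((s : F))⁻¹ • (Pn : M3) with hg'
    obtain ⟨r1, r2, r3, r4, r5⟩ := proj_rules (F := F) h2
    have gg : g * g' = 1 := by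
      rw [hg, hg', mul_add, add_mul, add_mul, smul_mul_assoc, mul_smul_comm, smul_mul_smul_comm, r1, r2, r3, r4,
        smul_zero, smul_zero, mul_inv_cancel₀ s.ne_zero, one_smul, add_zero, zero_add, r5]
    let gU : G3 := ⟨g, g', gg, by
      rw [hg, hg', mul_add, add_mul, add_mul, smul_mul_assoc, mul_smul_comm, smul_mul_smul_comm, r1, r2, r3, r4,
        smul_zero, smul_zero, inv_mul_cancel₀ s.ne_zero, one_smul, add_zero, zero_add, r5]⟩
    have hgU : (pm h2 (1, y) : G9) = tA gU := Units.ext (by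
      rw [pm_val, tA_eq, tp_val, Units.val_one, hyM, kronecker_smul, ← smul_kronecker, ← add_kronecker])
    rw [hgU, gen9, Matrix.cons_val_zero, ← map_inv, ← map_mul, ← map_mul, tA_eq, mem_R9_tp] at hm
    obtain ⟨⟨u, hu⟩, -⟩ := hm
    have E : ((gU * aG hl * gU⁻¹ : G3) : M3) = g * amat l * g' := rfl
    have h1 := hu.1
    rw [E] at h1
    change g * amat l * g' * amat l = SL3.Maximal.lp l u.1 • (amat l * (g * amat l * g')) at h1
    have a00 := congrFun₂ h1 0 0
    have a12 := congrFun₂ h1 1 2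
    simp [hg, hg', Pp, Pn, jmat, amat, Matrix.mul_apply, Fin.sum_univ_three] at a00 a12
    have hlp : SL3.Maximal.lp l u.1 = 1 := by
      field_simp at a00
      have h22 : (1 + 1 : F) ^ 2 ≠ 0 := by rw [one_add_one_eq_two]; exact pow_ne_zero _ h2
      exact mul_left_cancel₀ h22 (by linear_combination -a00)
    rw [hlp] at a12
    have hl3 := hl.pow_eq_one
    have hl2 := sub_sq_ne hl (h3_ne hl)
    have hl1 : l ^ 2 - l ≠ 0 := fun e0 => hl2 (by linear_combination -e0)
    have hs2 : (s : F) ^ 2 = 1 := by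
      field_simp at a12
      have key : ((s : F) ^ 2 - 1) * ((l - l ^ 2) * (l ^ 2 - l)) = 0 := by grind
      exact sub_eq_zero.1 ((mul_eq_zero.1 key).resolve_right (mul_ne_zero hl2 hl1))
    rcases sq_eq_one_iff.1 hs2 with h' | h'
    · exact Or.inl (Units.ext (by rw [hyM, h', one_smul, Units.val_one]))
    · exact Or.inr (Units.ext (by rw [hyM, h', Units.val_neg, neg_smul, one_smul, Units.val_one]))
  have hR : ∀ y ∈ K, InR hl y → y = 1 ∨ y = -1 := by
    intro y hy ⟨v, hv⟩
    refine sgn y hy ?_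
    by_cases hv0 : v = 0
    · subst hv0; exact hv.scalar
    exfalso
    obtain ⟨c, hc, e⟩ := exists_scalar_wd hl hv
    have hns : (tB (wd hl v) : G9) ∉ scalars I9 F := fun hs => by
      rw [tB_eq] at hs
      exact hv0 (Rel.unique (Rel.of_scalar (h := std hl) (tp_scalar hs).2) (rel_wd hl v)).symm
    have hcm : Commute y (wd hl v) := e ▸ (commute_scalar hc _).mul_left (Commute.refl _)
    have hN := h.centralizer_le hl hp hp3 hno (x := tB (wd hl v))
      (by rw [tB_eq, mem_R9_tp]; exact ⟨inR_scalar hl (one_mem _), inR_wd hl v⟩) hns (g := pm h2 (1, y)) hy (by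
        show _ = _
        rw [← pm_diag h2, ← map_mul, ← map_mul, Prod.mk_mul_mk, Prod.mk_mul_mk, one_mul, mul_one, hcm.eq])
    have hys := (of_pm_mem_N9 hl h2 hN).2
    rw [inv_one, one_mul] at hys
    exact hv0 (hv.unique (Rel.of_scalar hys))
  have hnrm : subgroupNormalizer (H3 hl) ≤ subgroupNormalizer K := by
    intro k hk
    refine Subgroup.mem_normalizer_iff.2 fun z => ?_
    have hkM := h.tB_mem_all hl hk
    show pm h2 (1, z) ∈ M ↔ pm h2 (1, k * z * k⁻¹) ∈ M
    have e : (pm h2 (1, k * z * k⁻¹) : G9) = tB k * pm h2 (1, z) * (tB k)⁻¹ := by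
      rw [← pm_diag h2, ← map_inv, ← map_mul, ← map_mul]; simp
    rw [e, mul_mem_cancel_right (inv_mem hkM), mul_mem_cancel_left hkM]
  have hN1 : ∀ y ∈ K, y ∈ subgroupNormalizer (H3 hl) → y = 1 ∨ y = -1 := by
    intro y hy hyN
    refine hR y hy (inR_of_chi hl hyN (av_ext ?_ ?_))
    all_goals
      have key : ∀ v, av (chiN hl ⟨y, hyN⟩) v = av 1 v := fun v => by
        have hcK : y * wd hl v * y⁻¹ * (wd hl v)⁻¹ ∈ K := by
          rw [mul_assoc, mul_assoc, ← mul_assoc (wd hl v)]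
          exact mul_mem hy ((Subgroup.mem_normalizer_iff.1 (hnrm (h3_le hl (wd_mem hl v))) _).1 (inv_mem hy))
        have hrel := (rel_av hl hyN (rel_wd hl v)).mul (rel_wd hl v).inv
        have hsc : y * wd hl v * y⁻¹ * (wd hl v)⁻¹ ∈ scalars (Fin 3) F := by
          rcases hR _ hcK ⟨_, hrel⟩ with e | e <;> rw [e]
          · exact one_mem _
          · exact SympNorm.neg_mem_scalars (one_mem _)
        have := hrel.unique (Rel.of_scalar hsc)
        rw [add_neg_eq_zero] at this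
        rw [this]
        simp [av]
      exact key _
  by_cases hyN : y ∈ subgroupNormalizer (H3 hl)
  · exact hN1 y hy hyN
  exfalso
  have hbig : specialLinear (Fin 3) F ≤ K ⊔ subgroupNormalizer (H3 hl) :=
    big hl hp hp3 le_sup_right fun hle => hyN (hle ((le_sup_left : K ≤ _) hy))
  have hroot : ∀ (p q : Fin 3) (hpq : p ≠ q) (t : F),
      (Matrix.SpecialLinearGroup.toGL ⟨Matrix.transvection p q t, Matrix.det_transvection_of_ne _ _ hpq _⟩ : G3) ∈ K := by
    intro p q hpq t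
    set x : G3 := Matrix.SpecialLinearGroup.toGL ⟨Matrix.transvection p q t, Matrix.det_transvection_of_ne _ _ hpq _⟩
    have hx := hbig (MonoidHom.mem_ker.2 (Units.ext (Matrix.det_transvection_of_ne p q hpq t)) : x ∈ specialLinear (Fin 3) F)
    have hx' : x ∈ ((K ⊔ subgroupNormalizer (H3 hl) : Subgroup G3) : Set G3) := hx
    rw [Subgroup.coe_mul_of_right_le_normalizer_left K _ hnrm] at hx'
    obtain ⟨k, hk, n, hn, e⟩ := hx'
    have hpow : ∀ j : ℕ, x ^ j * (n ^ j)⁻¹ ∈ K := by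
      intro j
      induction j with
      | zero => simp
      | succ j ih =>
        have e' : x ^ (j + 1) * (n ^ (j + 1))⁻¹ = k * (n * (x ^ j * (n ^ j)⁻¹) * n⁻¹) := by
          rw [pow_succ', pow_succ', ← e]; group
        rw [e']
        exact mul_mem hk ((Subgroup.mem_normalizer_iff.1 (hnrm hn) _).1 ih)
    have hm := hpow (36 * (Fintype.card F - 1))
    rw [pow_mul n, scalar_pow_card hl (pow_mem_scalars hl hn), inv_one, mul_one] at hm
    haveI := Fact.mk hp
    haveI : CharP F (Fintype.card F) := charP_of_card_eq_prime rfl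
    have hxv : ∀ j : ℕ, ((x ^ j : G3) : M3) = Matrix.transvection p q ((j : F) * t) := by
      intro j
      induction j with
      | zero => simp
      | succ j ih =>
        rw [pow_succ, Units.val_mul, ih]
        show Matrix.transvection p q _ * Matrix.transvection p q t = _
        rw [Matrix.transvection_mul_transvection_same _ _ hpq, Nat.cast_succ, add_mul, one_mul]
    have hxp : x ^ Fintype.card F = 1 := Units.ext (by
      rw [hxv, CharP.cast_eq_zero, zero_mul, Matrix.transvection_zero, Units.val_one])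
    have hcop : Nat.Coprime (Fintype.card F) (36 * (Fintype.card F - 1)) := by
      refine (Nat.Prime.coprime_iff_not_dvd hp).2 fun hd => ?_
      have h2' : Fintype.card F ≠ 2 := fun e => by omega
      have h3' : Fintype.card F ≠ 3 := fun e => by omega
      rcases hp.dvd_mul.1 hd with hd' | hd'
      · have : Fintype.card F ∣ 6 * 6 := hd'
        rcases hp.dvd_mul.1 this with h6 | h6 <;>
        · have := Nat.le_of_dvd (by norm_num) h6
          interval_cases h : Fintype.card F <;> first | omega | (exact absurd hp (by norm_num))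
      · have := Nat.le_of_dvd (by have := hp.two_le; omega) hd'
        omega
    obtain ⟨j, hj⟩ := exists_pow_eq_self_of_coprime (Nat.Coprime.coprime_dvd_right (orderOf_dvd_of_pow_eq_one hxp)
      hcop.symm)
    rw [← hj]
    exact pow_mem hm j
  have hSL : specialLinear (Fin 3) F ≤ K := by
    intro g hg
    have htop := CfsgLib.Classical.closure_transvection_eq_top
      (K.comap (Matrix.SpecialLinearGroup.toGL (n := Fin 3) (R := F))) fun a b hab t => hroot a b hab t
    let g' : Matrix.SpecialLinearGroup (Fin 3) F := ⟨(g : M3), det_one_of_mem hg⟩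
    have hm : g' ∈ K.comap (Matrix.SpecialLinearGroup.toGL (n := Fin 3) (R := F)) := htop ▸ Subgroup.mem_top _
    convert Subgroup.mem_comap.1 hm using 1
    exact Units.ext rfl
  have haK := hR _ (hSL (le_specialLinear (std hl) (std hl).aR)) ⟨_, rel_a⟩
  have hs : aG hl ∈ scalars (Fin 3) F := by
    rcases haK with e | e <;> (change aG hl = _ at e; rw [e])
    · exact one_mem _
    · exact SympNorm.neg_mem_scalars (one_mem _)
  exact absurd (Rel.unique (Rel.of_scalar (h := std hl) hs) rel_a) (by decide)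

/-- The commutant lies in the normaliser. -/
theorem Ctx.pm_mem_N9 [Fintype F] (hp : (Fintype.card F).Prime) (hp3 : Fintype.card F % 3 = 1) (h : Ctx hl M)
    (hno : ¬ specialLinear I9 F ≤ M) (h2 : (2 : F) ≠ 0) {x y : G3} (hxy : (pm h2 (x, y) : G9) ∈ M) :
    (pm h2 (x, y) : G9) ∈ N9 hl := by
  let X : Subgroup G3 := (M.comap (pm h2)).map (MonoidHom.fst G3 G3)
  have hXN : subgroupNormalizer (H3 hl) ≤ X := fun k hk =>
    ⟨(k, k), by show pm h2 (k, k) ∈ M; rw [pm_diag]; exact h.tB_mem_all hl hk, rfl⟩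
  by_cases hx : x ∈ subgroupNormalizer (H3 hl)
  · have hm : (pm h2 (1, x⁻¹ * y) : G9) ∈ M := by
      have := mul_mem (inv_mem (h.tB_mem_all hl hx)) hxy
      rw [← pm_diag h2, ← map_inv, ← map_mul] at this
      simpa using this
    rcases h.pm_one_cases hl hp hp3 hno h2 hm with e | e <;> rw [inv_mul_eq_iff_eq_mul] at e <;> subst e
    · rw [mul_one, pm_diag]; exact tp_mem_N9 hl (one_mem _) hx
    · rw [mul_neg, mul_one, pm_neg hl]
      exact tp_mem_N9 hl (jEl_mem (std hl) (h3_ne hl)).1 hx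
  exfalso
  have hbig := big hl hp hp3 hXN fun hle => hx (hle ⟨(x, y), hxy, rfl⟩)
  obtain ⟨⟨x', y'⟩, hm, e⟩ := hbig (show dD3 hl ∈ specialLinear (Fin 3) F from MonoidHom.mem_ker.2 (Units.ext (by
    show (diagonal ![-1, -1, 1] : M3).det = 1
    simp [det_diagonal, Fin.prod_univ_three])))
  change x' = dD3 hl at e
  subst e
  change pm h2 (dD3 hl, y') ∈ M at hm
  have hxa : Commute (dD3 hl) (aG hl) := Units.ext (by
    show (diagonal ![-1, -1, 1] : M3) * amat l = amat l * diagonal ![-1, -1, 1]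
    rw [amat, diagonal_mul_diagonal, diagonal_mul_diagonal]
    simp [mul_comm])
  have hK : (pm h2 (1, y' * aG hl * y'⁻¹ * (aG hl)⁻¹) : G9) ∈ M := by
    have ha := h.tB_mem_all hl (h3_le hl (std hl).aR : aG hl ∈ _)
    have := mul_mem (mul_mem (mul_mem hm ha) (inv_mem hm)) (inv_mem ha)
    rw [pm_conj_tB hl, ← pm_diag h2 (aG hl), ← map_inv, ← map_mul] at this
    simpa [hxa.eq] using this
  have hcy : Commute y' (aG hl) := by
    rcases h.pm_one_cases hl hp hp3 hno h2 hK with e | e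
    · exact mul_inv_eq_iff_eq_mul.1 (mul_inv_eq_one.1 e)
    · exfalso
      rw [mul_inv_eq_iff_eq_mul] at e
      have hd := congrArg (fun g : G3 => (g : M3).det) e
      simp only [Units.val_mul, det_mul, Units.val_neg, Units.val_one, neg_mul, one_mul, det_neg, Fintype.card_fin] at hd
      rw [det_aG, mul_one, ← det_mul, ← Units.val_mul, mul_inv_cancel, Units.val_one, det_one] at hd
      exact h2 (by linear_combination hd)
  have hns : (tB (aG hl) : G9) ∉ scalars I9 F := fun hs => by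
    rw [tB_eq] at hs
    exact absurd (Rel.unique (Rel.of_scalar (h := std hl) (tp_scalar hs).2) rel_a) (by decide)
  have hN := h.centralizer_le hl hp hp3 hno (gen9_mem hl 2) hns hm (by
    show _ = _
    show pm h2 (dD3 hl, y') * tB (aG hl) = tB (aG hl) * pm h2 (dD3 hl, y')
    rw [← pm_diag h2, ← map_mul, ← map_mul, Prod.mk_mul_mk, Prod.mk_mul_mk, hxa.eq, hcy.eq])
  exact dD3_not_mem hl h2 ((Subgroup.mem_normalizer_iff.1 (of_pm_mem_N9 hl h2 hN).1 _).1 (std hl).bR)

/-- Elements commuting with the quaternion group on the first factor. -/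
theorem Ctx.commutant_le [Fintype F] (hp : (Fintype.card F).Prime) (hp3 : Fintype.card F % 3 = 1) (h : Ctx hl M)
    (hno : ¬ specialLinear I9 F ≤ M) (h2 : (2 : F) ≠ 0) {g : G9} (hg : g ∈ M) (h1 : Commute g (tA (fG hl)))
    (h1' : Commute g (tA (gG hl))) : g ∈ N9 hl := by
  obtain ⟨x, y, rfl⟩ := exists_pm hl h2 h1 h1'
  exact h.pm_mem_N9 hl hp hp3 hno h2 hg

end CfsgLib.Geo.Nine
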