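import Cfsg.Agent.Lib.Geo.Nine.Final
import Cfsg.Agent.Lib.Geo.Asch.LinearMax
import Cfsg.Agent.Lib.Geo.OrthSubfieldGL
import Cfsg.Agent.Lib.Classical.SLGroup
import Cfsg.Agent.Lib.PGroups.Basic
import Cfsg.Agent.Lib.Geo.ExtraTwentySevenApply

/-!
# Coordinates for a group of symplectic type of order 243 and maximality of its normaliser
-/

set_option autoImplicit false
set_option maxHeartbeats 1000000

namespace CfsgLib.Geo.Nine

open Matrix Cfsg.Geo
open scoped Kronecker commutatorElement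
open CfsgLib.Geo.Extra27 (amat bmat Heis)
open CfsgLib.Geo.SympNorm (commute_scalar)

variable {F : Type*} [Field F] {l : F}

local notation "G9" => GL I9 F

section comm

variable {G : Type*} [Group G]

/-- In a group whose characteristic abelian subgroups have at most three elements commutators are central. -/
theorem commutator_le_center [Finite G] (hG : IsPGroup 3 G) (hexp : Monoid.exponent G = 3)
    (hc : ∀ A : Subgroup G, A.Characteristic → IsMulCommutative A → IsCyclic A)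
    (hZ : Nat.card (Subgroup.center G) = 3) : commutator G ≤ Subgroup.center G := by
  haveI : Fact (Nat.Prime 3) := ⟨Nat.prime_three⟩
  have small : ∀ A : Subgroup G, A.Characteristic → IsMulCommutative A → Nat.card A ≤ 3 := by
    intro A hA hAc
    haveI := hc A hA hAc
    rw [← IsCyclic.exponent_eq_card]
    refine Nat.le_of_dvd (by norm_num) (Monoid.exponent_dvd_of_forall_pow_eq_one fun x => Subtype.ext ?_)
    have := Monoid.pow_exponent_eq_one (x : G)
    rwa [hexp] at this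
  set Z := Subgroup.center G
  set D := commutator G
  let Z2 := Subgroup.upperCentralSeries G 2
  haveI : Z2.Characteristic := inferInstance
  haveI : D.Characteristic := inferInstance
  have hZ2 : ∀ x ∈ Z2, ∀ g : G, ⁅x, g⁆ ∈ Z := fun x hx g => by
    have := (Subgroup.mem_upperCentralSeries_succ_iff (n := 1)).1 hx g
    rwa [Subgroup.upperCentralSeries_one] at this
  have hab : ∀ x ∈ Z2, ∀ y ∈ D, Commute x y := by
    intro x hx y hy
    let f : G →* G := MonoidHom.mk' (fun g => ⁅x, g⁆) fun g g' => by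
      have h := Subgroup.mem_center_iff.1 (hZ2 x hx g') g
      rw [show ⁅x, g * g'⁆ = ⁅x, g⁆ * (g * ⁅x, g'⁆ * g⁻¹) by simp only [commutatorElement_def]; group, h,
        mul_inv_cancel_right]
    have hle : D ≤ f.ker := by
      rw [show D = ⁅(⊤ : Subgroup G), ⊤⁆ from commutator_def G, Subgroup.commutator_le]
      intro a _ b _
      rw [MonoidHom.mem_ker, map_commutatorElement, commutatorElement_eq_one_iff_mul_comm]
      exact (Subgroup.mem_center_iff.1 (hZ2 x hx a) (f b)).symm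
    exact commutatorElement_eq_one_iff_mul_comm.1 (hle hy)
  haveI : (Z2 ⊓ D).Characteristic := inferInstance
  have hsm := small (Z2 ⊓ D) inferInstance ⟨⟨fun a b => Subtype.ext (hab a a.2.1 b b.2.2)⟩⟩
  intro d hd
  by_contra hdZ
  have hD1 : D ≠ ⊥ := fun e => hdZ (by rw [e, Subgroup.mem_bot] at hd; rw [hd]; exact one_mem _)
  have hnt : D ⊓ Z ≠ ⊥ := CfsgLib.PGroups.inf_center_ne_bot hG hD1
  have hZD : Z ≤ D := by
    obtain ⟨z, hz, hz1⟩ := (Subgroup.bot_or_exists_ne_one _).resolve_left hnt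
    obtain ⟨hzD, hzZ⟩ := Subgroup.mem_inf.1 hz
    intro w hw
    obtain ⟨n, hn⟩ := mem_zpowers_of_prime_card (g := (⟨z, hzZ⟩ : Z)) (g' := ⟨w, hw⟩) hZ
      (fun e => hz1 (congrArg Subtype.val e))
    have e : z ^ n = w := by simpa using congrArg Subtype.val hn
    exact e ▸ zpow_mem hzD n
  haveI : Z.Normal := inferInstance
  let π := QuotientGroup.mk' Z
  have hq : (D.map π) ≠ ⊥ := fun e => hdZ (by
    have := Subgroup.mem_map_of_mem π hd
    rw [e, Subgroup.mem_bot] at this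
    exact (QuotientGroup.eq_one_iff d).1 this)
  haveI : (D.map π).Normal := (inferInstance : D.Normal).map π (QuotientGroup.mk'_surjective Z)
  obtain ⟨q, hq', hq1⟩ := (Subgroup.bot_or_exists_ne_one _).resolve_left
    (CfsgLib.PGroups.inf_center_ne_bot (hG.to_quotient Z) hq)
  obtain ⟨⟨z, hzD, rfl⟩, hzc⟩ := hq'
  have hz2 : z ∈ Z2 := (Subgroup.mem_upperCentralSeries_succ_iff (n := 1)).2 fun g => by
    rw [Subgroup.upperCentralSeries_one]
    show ⁅z, g⁆ ∈ Z
    rw [← QuotientGroup.eq_one_iff]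
    show π ⁅z, g⁆ = 1
    rw [map_commutatorElement, commutatorElement_eq_one_iff_mul_comm]
    exact (Subgroup.mem_center_iff.1 hzc (π g)).symm
  have hle : Z ≤ Z2 ⊓ D := le_inf (fun w hw => (Subgroup.mem_upperCentralSeries_succ_iff (n := 1)).2 fun g => by
    rw [Subgroup.upperCentralSeries_one]
    show ⁅w, g⁆ ∈ Z
    rw [commutatorElement_eq_one_iff_mul_comm.2 ((Subgroup.mem_center_iff.1 hw g).symm)]
    exact one_mem _) hZD
  have e := Subgroup.eq_of_le_of_card_ge hle (hsm.trans hZ.ge)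
  refine hq1 ((QuotientGroup.eq_one_iff z).2 ?_)
  show z ∈ Z
  rw [e]; exact ⟨hz2, hzD⟩

end comm

section quad

variable {ι : Type} [Fintype ι] [DecidableEq ι]

local notation "Mn" => Matrix ι ι F

theorem root_sum (hl : IsPrimitiveRoot l 3) (a : Fin 3) : ∑ j : Fin 3, l ^ ((a : ℕ) * (j : ℕ)) = if a = 0 then 3 else 0 := by
  have hg := SL3.Maximal.geom hl
  have h3 := hl.pow_eq_one
  fin_cases a <;> simp [Fin.sum_univ_three] <;> grind

/-- The projector on the fixed space. -/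
def fixp (x : GL ι F) : Matrix ι ι F := 1 + (x : Mn) + (x : Mn) * x

theorem mul_fixp {x : GL ι F} (h : x ^ 3 = 1) : (x : Mn) * fixp x = fixp x := by
  have h' : (x : Mn) * ((x : Mn) * x) = 1 := by
    rw [← Units.val_mul, ← Units.val_mul, ← pow_three, h, Units.val_one]
  rw [fixp, mul_add, mul_add, mul_one, h']
  abel

theorem conj_step {x y : GL ι F} (h : x * y * x⁻¹ * y⁻¹ ∈ scalars ι F) {c : F}
    (hc : ((x * y * x⁻¹ * y⁻¹ : GL ι F) : Mn) = c • 1) : (x : Mn) * y = c • ((y : Mn) * x) := by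
  rw [← Units.val_mul, show x * y = x * y * x⁻¹ * y⁻¹ * (y * x) by group, Units.val_mul, hc, smul_mul_assoc, one_mul,
    Units.val_mul]

/-- Commutation of powers. -/
theorem comm_pow {x y : Mn} {c : F} (h : x * y = c • (y * x)) (j : ℕ) : x * y ^ j = c ^ j • (y ^ j * x) := by
  induction j with
  | zero => simp
  | succ j ih => rw [pow_succ, ← mul_assoc, ih, smul_mul_assoc, mul_assoc, h, mul_smul_comm, smul_smul, ← mul_assoc,
      ← pow_succ]

variable [Finite F] (hl : IsPrimitiveRoot l 3)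
include hl

theorem fixp_sum {x : GL ι F} {y : GL ι F} (h : (x : Mn) * (y : Mn) = l • ((y : Mn) * x)) :
    ∑ j : Fin 3, ((y⁻¹ ^ (j : ℕ) : GL ι F) : Mn) * fixp x * ((y ^ (j : ℕ) : GL ι F) : Mn) = (3 : F) • 1 := by
  have e1 : ∀ j : ℕ, ((y⁻¹ ^ j : GL ι F) : Mn) * (x : Mn) * ((y ^ j : GL ι F) : Mn) = l ^ j • (x : Mn) := fun j => by
    rw [mul_assoc, Units.val_pow_eq_pow_val y, comm_pow h, mul_smul_comm, ← mul_assoc, ← Units.val_pow_eq_pow_val,
      ← Units.val_mul, inv_pow, inv_mul_cancel, Units.val_one, one_mul]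
  have e2 : ∀ j : ℕ, ((y⁻¹ ^ j : GL ι F) : Mn) * ((x : Mn) * x) * ((y ^ j : GL ι F) : Mn) =
      (l ^ j) ^ 2 • ((x : Mn) * x) := fun j => by
    have : ((y ^ j : GL ι F) : Mn) * ((y⁻¹ ^ j : GL ι F) : Mn) = 1 := by
      rw [← Units.val_mul, inv_pow, mul_inv_cancel, Units.val_one]
    calc ((y⁻¹ ^ j : GL ι F) : Mn) * ((x : Mn) * x) * ((y ^ j : GL ι F) : Mn)
        = (((y⁻¹ ^ j : GL ι F) : Mn) * (x : Mn) * ((y ^ j : GL ι F) : Mn)) *
          (((y⁻¹ ^ j : GL ι F) : Mn) * (x : Mn) * ((y ^ j : GL ι F) : Mn)) := by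
          rw [← mul_assoc, ← mul_assoc, ← mul_assoc, mul_assoc _ ((y ^ j : GL ι F) : Mn) ((y⁻¹ ^ j : GL ι F) : Mn),
            this, mul_one]
      _ = _ := by rw [e1, smul_mul_smul_comm, pow_two]
  have e0 : ∀ j : ℕ, ((y⁻¹ ^ j : GL ι F) : Mn) * 1 * ((y ^ j : GL ι F) : Mn) = 1 := fun j => by
    rw [mul_one, ← Units.val_mul, inv_pow, inv_mul_cancel, Units.val_one]
  simp only [fixp, mul_add, add_mul, e0, e1, e2, Fin.sum_univ_three]
  have hg := SL3.Maximal.geom hl
  have h3 := hl.pow_eq_one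
  simp only [Fin.val_zero, Fin.val_one, Fin.val_two, pow_zero, pow_one, one_pow, one_smul]
  rw [show ((l ^ 2 : F)) ^ 2 = l by rw [← pow_mul, show 2 * 2 = 3 + 1 by rfl, pow_succ, h3, one_mul]]
  have : (l : F) ^ 2 = -1 - l := by linear_combination hg
  rw [this]
  module

variable {R : Subgroup (GL ι F)}

/-- The data used. -/
structure Pre (R : Subgroup (GL ι F)) : Prop where
  /-- exponent three -/
  cube : ∀ x ∈ R, x ^ 3 = 1
  /-- scalar commutators -/
  comm : ∀ x ∈ R, ∀ y ∈ R, x * y * x⁻¹ * y⁻¹ ∈ scalars ι F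
  /-- absolute irreducibility -/
  abs : ActsAbsolutelyIrreducibly (matrixSet R)

theorem Pre.comm_val (h : Pre R) {x y : GL ι F} (hx : x ∈ R) (hy : y ∈ R) :
    ∃ k : Fin 3, (x : Mn) * y = l ^ (k : ℕ) • ((y : Mn) * x) := by
  obtain ⟨c, hc⟩ := (mem_scalars_iff _).1 (h.comm x hx y hy)
  have hR : x * y * x⁻¹ * y⁻¹ ∈ R := mul_mem (mul_mem (mul_mem hx hy) (inv_mem hx)) (inv_mem hy)
  rcases isEmpty_or_nonempty ι with hE | hE
  · exact ⟨0, Matrix.ext fun i => (hE.false i).elim⟩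
  obtain ⟨i⟩ := hE
  have hc3 : (c : F) ^ 3 = 1 := by
    have := congrArg (fun g : GL ι F => (g : Mn) i i) (h.cube _ hR)
    simpa [Units.val_pow_eq_pow_val, hc, smul_pow, -Units.val_mul] using this
  obtain ⟨k, hk, e⟩ := Extra27.eq_pow_of_cube hl hc3
  exact ⟨⟨k, hk⟩, by rw [show ((⟨k, hk⟩ : Fin 3) : ℕ) = k from rfl, e]; exact conj_step (h.comm x hx y hy) hc⟩

theorem Pre.pair (h : Pre R) {S : Set (GL ι F)} (hS : S ⊆ R) (hinv : ∀ x ∈ S, x⁻¹ ∈ S)
    (hne : ∃ x ∈ S, ∃ y ∈ S, x * y ≠ y * x) :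
    ∃ x ∈ S, ∃ y ∈ S, (x : Mn) * y = l • ((y : Mn) * x) := by
  obtain ⟨x, hx, y, hy, hxy⟩ := hne
  obtain ⟨k, hk⟩ := h.comm_val hl (hS hx) (hS hy)
  obtain rfl | rfl | rfl : k = 0 ∨ k = 1 ∨ k = 2 := by fin_cases k <;> simp
  · exact absurd (Units.ext (by simpa using hk)) hxy
  · exact ⟨x, hx, y, hy, by simpa using hk⟩
  · refine ⟨y, hy, x, hx, ?_⟩
    rw [show ((2 : Fin 3) : ℕ) = 2 from rfl] at hk
    rw [hk, smul_smul, ← pow_succ', hl.pow_eq_one, one_smul]

/-- Two commuting pairs with the basic commutator. -/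
theorem Pre.exists_quad (h : Pre R) (h9 : 4 ≤ Fintype.card ι) :
    ∃ x₁ ∈ R, ∃ y₁ ∈ R, ∃ x₂ ∈ R, ∃ y₂ ∈ R, (x₁ : Mn) * y₁ = l • ((y₁ : Mn) * x₁) ∧
      (x₂ : Mn) * y₂ = l • ((y₂ : Mn) * x₂) ∧ Commute x₁ x₂ ∧ Commute x₁ y₂ ∧ Commute y₁ x₂ ∧ Commute y₁ y₂ := by
  classical
  haveI : Nontrivial ι := Fintype.one_lt_card_iff_nontrivial.1 (by omega)
  obtain ⟨x₁, hx₁, y₁, hy₁, e₁⟩ := h.pair hl (S := (R : Set (GL ι F))) (fun _ hx => hx) (fun _ hx => inv_mem hx)
    (Asch.not_abelian_of_absIrred h.abs)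
  have hl0 : l ≠ 0 := hl.ne_zero (by norm_num)
  let C : Set (GL ι F) := {r | r ∈ R ∧ Commute x₁ r ∧ Commute y₁ r}
  by_cases hC : ∃ x ∈ C, ∃ y ∈ C, x * y ≠ y * x
  · obtain ⟨x₂, hx₂, y₂, hy₂, e₂⟩ := h.pair hl (S := C) (fun _ hr => hr.1)
      (fun r hr => ⟨inv_mem hr.1, hr.2.1.inv_right, hr.2.2.inv_right⟩) hC
    exact ⟨x₁, hx₁, y₁, hy₁, x₂, hx₂.1, y₂, hy₂.1, e₁, e₂, hx₂.2.1, hy₂.2.1, hx₂.2.2, hy₂.2.2⟩
  exfalso
  push Not at hC
  have hdec : ∀ r ∈ R, ∃ i j : ℕ, ∃ c ∈ C, r = x₁ ^ i * y₁ ^ j * c := by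
    intro r hr
    obtain ⟨a, ha⟩ := h.comm_val hl hx₁ hr
    obtain ⟨b, hb⟩ := h.comm_val hl hy₁ hr
    refine ⟨3 - (b : ℕ) + 3, a, (x₁ ^ (3 - (b : ℕ) + 3) * y₁ ^ (a : ℕ))⁻¹ * r,
      ⟨mul_mem (inv_mem (mul_mem (pow_mem hx₁ _) (pow_mem hy₁ _))) hr, ?_, ?_⟩, by group⟩
    · have hw : (x₁ : Mn) * ((x₁ ^ (3 - (b : ℕ) + 3) * y₁ ^ (a : ℕ) : GL ι F) : Mn) =
          l ^ (a : ℕ) • (((x₁ ^ (3 - (b : ℕ) + 3) * y₁ ^ (a : ℕ) : GL ι F) : Mn) * x₁) := by
        rw [Units.val_mul, Units.val_pow_eq_pow_val, Units.val_pow_eq_pow_val, ← mul_assoc, ← pow_succ', pow_succ,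
          mul_assoc, comm_pow e₁, mul_smul_comm, mul_assoc]
      set w := x₁ ^ (3 - (b : ℕ) + 3) * y₁ ^ (a : ℕ)
      refine Units.ext ?_
      rw [Units.val_mul, Units.val_mul, Units.val_mul, ← mul_assoc]
      have : (x₁ : Mn) * ((w⁻¹ : GL ι F) : Mn) = (l ^ (a : ℕ))⁻¹ • (((w⁻¹ : GL ι F) : Mn) * x₁) := by
        have e := congrArg (fun Z => ((w⁻¹ : GL ι F) : Mn) * Z * ((w⁻¹ : GL ι F) : Mn)) hw
        simp only [mul_smul_comm, smul_mul_assoc, ← mul_assoc, Units.inv_mul, one_mul] at e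
        rw [mul_assoc (((w⁻¹ : GL ι F) : Mn) * (x₁ : Mn)), Units.mul_inv, mul_one] at e
        rw [e, smul_smul, inv_mul_cancel₀ (pow_ne_zero _ hl0), one_smul]
      rw [this, smul_mul_assoc, mul_assoc, ha, mul_smul_comm, smul_smul, inv_mul_cancel₀ (pow_ne_zero _ hl0),
        one_smul, Units.val_mul, mul_assoc]
    · have hyx : (y₁ : Mn) * x₁ = l ^ 2 • ((x₁ : Mn) * y₁) := by
        rw [e₁, smul_smul, ← pow_succ, hl.pow_eq_one, one_smul]
      have hw : (y₁ : Mn) * ((x₁ ^ (3 - (b : ℕ) + 3) * y₁ ^ (a : ℕ) : GL ι F) : Mn) =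
          l ^ (b : ℕ) • (((x₁ ^ (3 - (b : ℕ) + 3) * y₁ ^ (a : ℕ) : GL ι F) : Mn) * y₁) := by
        rw [Units.val_mul, Units.val_pow_eq_pow_val, Units.val_pow_eq_pow_val, ← mul_assoc, comm_pow hyx,
          smul_mul_assoc, mul_assoc ((x₁ : Mn) ^ _) (y₁ : Mn), ← pow_succ', ← pow_mul,
          mul_assoc ((x₁ : Mn) ^ _) ((y₁ : Mn) ^ _) (y₁ : Mn), ← pow_succ]
        congr 1
        rw [pow_eq_pow_mod _ hl.pow_eq_one, pow_eq_pow_mod (b : ℕ) hl.pow_eq_one]
        congr 1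
        omega
      set w := x₁ ^ (3 - (b : ℕ) + 3) * y₁ ^ (a : ℕ)
      refine Units.ext ?_
      rw [Units.val_mul, Units.val_mul, Units.val_mul, ← mul_assoc]
      have : (y₁ : Mn) * ((w⁻¹ : GL ι F) : Mn) = (l ^ (b : ℕ))⁻¹ • (((w⁻¹ : GL ι F) : Mn) * y₁) := by
        have e := congrArg (fun Z => ((w⁻¹ : GL ι F) : Mn) * Z * ((w⁻¹ : GL ι F) : Mn)) hw
        simp only [mul_smul_comm, smul_mul_assoc, ← mul_assoc, Units.inv_mul, one_mul] at e
        rw [mul_assoc (((w⁻¹ : GL ι F) : Mn) * (y₁ : Mn)), Units.mul_inv, mul_one] at e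
        rw [e, smul_smul, inv_mul_cancel₀ (pow_ne_zero _ hl0), one_smul]
      rw [this, smul_mul_assoc, mul_assoc, hb, mul_smul_comm, smul_smul, inv_mul_cancel₀ (pow_ne_zero _ hl0),
        one_smul, Units.val_mul, mul_assoc]
  have hCs : ∀ c ∈ C, c ∈ scalars ι F := by
    intro c hc
    refine Asch.mem_scalars_of_commute h.abs fun r hr => ?_
    obtain ⟨i, j, d, hd, rfl⟩ := hdec r hr
    exact ((((hc.2.1.symm.pow_right i)).mul_right (hc.2.2.symm.pow_right j)).mul_right (hC c hc d hd)).eq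
  have h3 : (3 : F) ≠ 0 := SL3.Maximal.three_ne_zero_of_root hl.pow_eq_one (hl.ne_one (by norm_num))
  have hQ : fixp x₁ ≠ 0 := fun e => by
    have := fixp_sum hl e₁
    rw [e] at this
    exact h3 ((smul_eq_zero.1 (by simpa using this.symm : (3 : F) • (1 : Mn) = 0)).resolve_right one_ne_zero)
  obtain ⟨r₀, c₀, hrc⟩ : ∃ r c, fixp x₁ r c ≠ 0 := by
    by_contra! h0
    exact hQ (Matrix.ext h0)
  set v : ι → F := fun r => fixp x₁ r c₀ with hv
  have hxv : (x₁ : Mn) *ᵥ v = v := by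
    funext r
    exact congrFun₂ (mul_fixp (h.cube _ hx₁)) r c₀
  let u : Fin 3 → ι → F := fun k => ((y₁ : Mn) ^ (k : ℕ)) *ᵥ v
  let W := Submodule.span F (Set.range u)
  have hy3 : (y₁ : Mn) ^ 3 = 1 := by rw [← Units.val_pow_eq_pow_val, h.cube _ hy₁, Units.val_one]
  have hxW : ∀ k, (x₁ : Mn) *ᵥ u k ∈ W := fun k => by
    show (x₁ : Mn) *ᵥ (_ *ᵥ v) ∈ W
    rw [mulVec_mulVec, comm_pow e₁, Matrix.smul_mulVec, ← mulVec_mulVec, hxv]
    exact W.smul_mem _ (Submodule.subset_span ⟨k, rfl⟩)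
  have hyW : ∀ k, (y₁ : Mn) *ᵥ u k ∈ W := fun k => by
    show (y₁ : Mn) *ᵥ (_ *ᵥ v) ∈ W
    rw [mulVec_mulVec, ← pow_succ', pow_eq_pow_mod _ hy3]
    exact Submodule.subset_span ⟨⟨((k : ℕ) + 1) % 3, Nat.mod_lt _ (by norm_num)⟩, rfl⟩
  have stab : ∀ g : GL ι F, (∀ k, (g : Mn) *ᵥ u k ∈ W) → ∀ w ∈ W, (g : Mn) *ᵥ w ∈ W := fun g hg w hw => by
    have hle : W ≤ W.comap (Matrix.toLin' (g : Mn)) := Submodule.span_le.2 (by rintro _ ⟨k, rfl⟩; exact hg k)
    exact hle hw
  have hpow : ∀ g : GL ι F, (∀ w ∈ W, (g : Mn) *ᵥ w ∈ W) → ∀ n : ℕ, ∀ w ∈ W, ((g ^ n : GL ι F) : Mn) *ᵥ w ∈ W := by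
    intro g hg n
    induction n with
    | zero => simp
    | succ n ih => intro w hw; rw [pow_succ', Units.val_mul, ← mulVec_mulVec]; exact hg _ (ih w hw)
  rcases h.abs.1 W (by
    rintro _ ⟨g, hg, rfl⟩
    rw [Submodule.map_le_iff_le_comap]
    intro w hw
    show (g : Mn) *ᵥ w ∈ W
    obtain ⟨i, j, d, hd, rfl⟩ := hdec g hg
    obtain ⟨t, ht⟩ := (mem_scalars_iff d).1 (hCs d hd)
    rw [Units.val_mul, ← mulVec_mulVec, ht, Matrix.smul_mulVec, one_mulVec, Units.val_mul, ← mulVec_mulVec]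
    exact hpow _ (stab _ hxW) i _ (hpow _ (stab _ hyW) j _ (W.smul_mem _ hw))) with hb | hb
  · refine hrc ?_
    have : u 0 ∈ W := Submodule.subset_span ⟨0, rfl⟩
    rw [hb, Submodule.mem_bot] at this
    simpa [u, hv] using congrFun this r₀
  · have h1 := finrank_range_le_card (R := F) u
    have h2 : Module.finrank F W = Fintype.card ι := by rw [hb, finrank_top, Module.finrank_fintype_fun_eq_card]
    simp only [Fintype.card_fin] at h1
    change Module.finrank F W ≤ 3 at h1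
    omega

end quad

section frame

/-- The change of coordinates given by a basis. -/
def frameOf (P : GL (Fin 9) F) : GL (Fin 9) F ≃* G9 :=
  (MulAut.conj P⁻¹).trans (glReindex (finProdFinEquiv (m := 3) (n := 3)).symm)

theorem det_frameOf (P g : GL (Fin 9) F) :
    ((frameOf P g : G9) : Matrix I9 I9 F).det = (g : Matrix (Fin 9) (Fin 9) F).det := by
  show (Matrix.reindex _ _ ((P⁻¹ * g * P⁻¹⁻¹ : GL (Fin 9) F) : Matrix (Fin 9) (Fin 9) F)).det = _
  rw [inv_inv, Matrix.det_reindex_self, Units.val_mul, Units.val_mul, det_mul, det_mul, mul_right_comm, ← det_mul,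
    Units.inv_mul, det_one, one_mul]

end frame

variable [Fintype F] (hl : IsPrimitiveRoot l 3)
include hl

/-- A basis bringing the group into the standard one. -/
theorem exists_basis {R : Subgroup (GL (Fin 9) F)} (h : Pre R) :
    ∃ P : GL (Fin 9) F,
      (∀ k, gen9 hl k ∈ R.map (frameOf P).toMonoidHom) ∧ R.map (frameOf P).toMonoidHom ≤ R9 hl := by
  classical
  obtain ⟨x₁, hx₁, y₁, hy₁, x₂, hx₂, y₂, hy₂, e₁, e₂, c11, c12, c21, c22⟩ := h.exists_quad hl (by simp)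
  have h3 : (3 : F) ≠ 0 := SL3.Maximal.three_ne_zero_of_root hl.pow_eq_one (hl.ne_one (by norm_num))
  let X1 : Matrix (Fin 9) (Fin 9) F := x₁
  let Y1 : Matrix (Fin 9) (Fin 9) F := y₁
  let X2 : Matrix (Fin 9) (Fin 9) F := x₂
  let Y2 : Matrix (Fin 9) (Fin 9) F := y₂
  have k21 : X2 * Y1 = Y1 * X2 := congrArg Units.val c21.symm.eq
  have k12 : X1 * Y2 = Y2 * X1 := congrArg Units.val c12.eq
  have k22 : Y1 * Y2 = Y2 * Y1 := congrArg Units.val c22.eq
  have k11 : X1 * X2 = X2 * X1 := congrArg Units.val c11.eq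
  have t1 : X1 * fixp x₁ = fixp x₁ := mul_fixp (h.cube _ hx₁)
  have t2 : X2 * fixp x₂ = fixp x₂ := mul_fixp (h.cube _ hx₂)
  have hQQ : fixp x₁ * fixp x₂ ≠ 0 := by
    intro e
    have hy2c : ∀ j : ℕ, fixp x₁ * ((y₂⁻¹ ^ j : GL (Fin 9) F) : Matrix (Fin 9) (Fin 9) F) =
        ((y₂⁻¹ ^ j : GL (Fin 9) F) : Matrix (Fin 9) (Fin 9) F) * fixp x₁ := fun j => by
      have hc : Commute (X1) ((y₂⁻¹ ^ j : GL (Fin 9) F) : Matrix (Fin 9) (Fin 9) F) :=
        congrArg Units.val ((c12.inv_right).pow_right j).eq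
      exact (((Commute.one_left _).add_left hc).add_left (hc.mul_left hc)).eq
    have hs := fixp_sum hl e₂
    have hz : fixp x₁ * ((3 : F) • (1 : Matrix (Fin 9) (Fin 9) F)) = 0 := by
      rw [← hs, Matrix.mul_sum]
      refine Finset.sum_eq_zero fun j _ => ?_
      rw [← mul_assoc, ← mul_assoc, hy2c, mul_assoc _ (fixp x₁), e, mul_zero, zero_mul]
    rw [mul_smul_comm, mul_one, smul_eq_zero] at hz
    have hf := fixp_sum hl e₁
    rw [hz.resolve_left h3] at hf
    exact h3 ((smul_eq_zero.1 (by simpa using hf.symm : (3 : F) • (1 : Matrix (Fin 9) (Fin 9) F) = 0)).resolve_right one_ne_zero)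
  obtain ⟨r₀, c₀, hrc⟩ : ∃ r c, (fixp x₁ * fixp x₂) r c ≠ 0 := by
    by_contra! h0
    exact hQQ (Matrix.ext h0)
  set v : Fin 9 → F := fun r => (fixp x₁ * fixp x₂) r c₀ with hv
  have hv0 : v ≠ 0 := fun e => hrc (congrFun e r₀)
  have hf12 : fixp x₁ * fixp x₂ = fixp x₂ * fixp x₁ := by
    have hc : Commute X1 (fixp x₂) :=
      ((Commute.one_right _).add_right k11).add_right ((show Commute X1 X2 from k11).mul_right k11)
    exact (((Commute.one_left _).add_left hc).add_left (hc.mul_left hc)).eq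
  have hv1 : X1 *ᵥ v = v := by
    funext r
    have : X1 * (fixp x₁ * fixp x₂) = fixp x₁ * fixp x₂ := by rw [← mul_assoc, t1]
    exact congrFun₂ this r c₀
  have hv2 : X2 *ᵥ v = v := by
    funext r
    have : X2 * (fixp x₁ * fixp x₂) = fixp x₁ * fixp x₂ := by rw [hf12, ← mul_assoc, t2]
    exact congrFun₂ this r c₀
  let e : I9 → Fin 9 → F := fun x => (Y1 ^ (x.1 : ℕ) * Y2 ^ (x.2 : ℕ)) *ᵥ v
  have hy13 : Y1 ^ 3 = 1 := by
    show ((y₁ : GL (Fin 9) F) : Matrix (Fin 9) (Fin 9) F) ^ 3 = 1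
    rw [← Units.val_pow_eq_pow_val, h.cube _ hy₁, Units.val_one]
  have hy23 : Y2 ^ 3 = 1 := by
    show ((y₂ : GL (Fin 9) F) : Matrix (Fin 9) (Fin 9) F) ^ 3 = 1
    rw [← Units.val_pow_eq_pow_val, h.cube _ hy₂, Units.val_one]
  have hX1 : ∀ x : I9, X1 *ᵥ e x = l ^ (x.1 : ℕ) • e x := fun x => by
    show X1 *ᵥ (_ *ᵥ v) = _
    rw [mulVec_mulVec, ← mul_assoc, comm_pow e₁, smul_mul_assoc, mul_assoc,
      ((show Commute X1 Y2 from k12).pow_right _).eq, ← mul_assoc, Matrix.smul_mulVec, ← mulVec_mulVec, hv1]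
  have hX2 : ∀ x : I9, X2 *ᵥ e x = l ^ (x.2 : ℕ) • e x := fun x => by
    show X2 *ᵥ (_ *ᵥ v) = _
    rw [mulVec_mulVec, ← mul_assoc, ((show Commute X2 Y1 from k21).pow_right _).eq, mul_assoc, comm_pow e₂,
      mul_smul_comm, ← mul_assoc, Matrix.smul_mulVec, ← mulVec_mulVec, hv2]
  have hY1 : ∀ x : I9, Y1 *ᵥ e x = e (x + (1, 0)) := fun x => by
    show Y1 *ᵥ (_ *ᵥ v) = (_ * _) *ᵥ v
    rw [mulVec_mulVec, ← mul_assoc, ← pow_succ', Prod.snd_add, add_zero, Prod.fst_add, Fin.val_add,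
      pow_eq_pow_mod _ hy13]
    rfl
  have hY2 : ∀ x : I9, Y2 *ᵥ e x = e (x + (0, 1)) := fun x => by
    show Y2 *ᵥ (_ *ᵥ v) = (_ * _) *ᵥ v
    rw [mulVec_mulVec, ← mul_assoc, ((show Commute Y1 Y2 from k22).pow_left _).symm.eq, mul_assoc, ← pow_succ',
      Prod.snd_add, Prod.fst_add, add_zero, Fin.val_add, pow_eq_pow_mod ((x.2 : ℕ) + 1) hy23]
    rfl
  have hproj : ∀ (Z : Matrix (Fin 9) (Fin 9) F) (z : GL (Fin 9) F) (k : Fin 3) (w : Fin 9 → F),
      Z = (z : Matrix (Fin 9) (Fin 9) F) → Z *ᵥ w = l ^ (k : ℕ) • w → fixp z *ᵥ w = (if k = 0 then (3 : F) else 0) • w := by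
    rintro Z z k w rfl hw
    rw [fixp, add_mulVec, add_mulVec, one_mulVec, ← mulVec_mulVec, hw, mulVec_smul, hw, smul_smul, ← root_sum hl k,
      Fin.sum_univ_three]
    simp only [Fin.val_zero, Fin.val_one, Fin.val_two, mul_zero, pow_zero, mul_one, mul_two, pow_add]
    module
  have hind : LinearIndependent F e := by
    rw [Fintype.linearIndependent_iff]
    intro c hc x₀
    have key := congrArg (fun w => (fixp x₁ * fixp x₂) *ᵥ ((Y1 ^ (((-x₀.1 : Fin 3)) : ℕ) * Y2 ^ (((-x₀.2 : Fin 3)) : ℕ)) *ᵥ w)) hc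
    simp only [mulVec_sum, mulVec_zero, mulVec_smul] at key
    have sh : ∀ x : I9, (Y1 ^ (((-x₀.1 : Fin 3)) : ℕ) * Y2 ^ (((-x₀.2 : Fin 3)) : ℕ)) *ᵥ e x = e (x - x₀) := fun x => by
      show _ *ᵥ (_ *ᵥ v) = (_ * _) *ᵥ v
      rw [mulVec_mulVec, mul_assoc, ← mul_assoc (Y2 ^ _), ← (Commute.pow_pow (show Commute Y1 Y2 from k22) _ _).eq,
        mul_assoc, ← pow_add, ← mul_assoc, ← pow_add, pow_eq_pow_mod _ hy13,
        pow_eq_pow_mod (((-x₀.2 : Fin 3) : ℕ) + (x.2 : ℕ)) hy23, ← Fin.val_add, ← Fin.val_add]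
      congr 4 <;> simp [sub_eq_add_neg, add_comm]
    have pe : ∀ x : I9, (fixp x₁ * fixp x₂) *ᵥ e x = if x = 0 then (9 : F) • e x else 0 := fun x => by
      rw [← mulVec_mulVec, hproj X2 x₂ x.2 _ rfl (hX2 x), mulVec_smul, hproj X1 x₁ x.1 _ rfl (hX1 x), smul_smul]
      obtain ⟨a, b⟩ := x
      by_cases ha : a = 0 <;> by_cases hb : b = 0 <;> simp [ha, hb]
      norm_num
    simp only [sh, pe, sub_eq_zero, smul_ite, smul_zero, Finset.sum_ite_eq', Finset.mem_univ, if_true, sub_self] at key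
    have he0 : e 0 = v := by simp [e]
    rw [he0, smul_smul, smul_eq_zero] at key
    have h9 : (9 : F) ≠ 0 := by rw [show (9 : F) = 3 * 3 by norm_num]; exact mul_ne_zero h3 h3
    exact (mul_eq_zero.1 (key.resolve_right hv0)).resolve_right h9
  let σ : Fin 9 ≃ I9 := (finProdFinEquiv (m := 3) (n := 3)).symm
  let Pm : Matrix (Fin 9) (Fin 9) F := Matrix.of fun r k => e (σ k) r
  have hPu : IsUnit Pm := Matrix.linearIndependent_cols_iff_isUnit.1 (hind.comp σ σ.injective)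
  obtain ⟨P, hP⟩ := hPu
  let φ : GL (Fin 9) F ≃* G9 := (MulAut.conj P⁻¹).trans (glReindex σ)
  have hval : ∀ g : GL (Fin 9) F, ((φ g : G9) : Matrix I9 I9 F) =
      Matrix.reindex σ σ (((P⁻¹ * g * P : GL (Fin 9) F)) : Matrix (Fin 9) (Fin 9) F) := fun g => by
    show ((glReindex σ (P⁻¹ * g * P⁻¹⁻¹) : G9) : Matrix I9 I9 F) = _
    rw [inv_inv]
    rfl
  have hφ : ∀ (g : GL (Fin 9) F) (T : G9),
      (∀ k r, ((g : Matrix (Fin 9) (Fin 9) F) *ᵥ e k) r = ∑ m : I9, e m r * (T : Matrix I9 I9 F) m k) → φ g = T := by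
    intro g T hg
    refine Units.ext ?_
    rw [hval]
    have : (g : Matrix (Fin 9) (Fin 9) F) * P = P * (Matrix.reindex σ.symm σ.symm (T : Matrix I9 I9 F)) := by
      ext r k
      rw [hP]
      have h1 := hg (σ k) r
      rw [← σ.sum_comp] at h1
      simpa [Matrix.mul_apply, Pm, mulVec, dotProduct] using h1
    rw [Units.val_mul, Units.val_mul, mul_assoc, this, ← mul_assoc, Units.inv_mul, one_mul]
    ext a b
    simp
  have f1 : φ x₁ = tA (aG hl) := hφ _ _ fun k r => by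
    rw [tA_aG, hX1 k, Finset.sum_eq_single k (fun m _ hm => by rw [dg_apply, if_neg hm, mul_zero]) (by simp),
      dg_apply, if_pos rfl, Pi.smul_apply, smul_eq_mul, mul_comm]
  have f3 : φ x₂ = tB (aG hl) := hφ _ _ fun k r => by
    rw [tB_aG, hX2 k, Finset.sum_eq_single k (fun m _ hm => by rw [dg_apply, if_neg hm, mul_zero]) (by simp),
      dg_apply, if_pos rfl, Pi.smul_apply, smul_eq_mul, mul_comm]
  have f2 : φ y₁ = tA (bG hl) := hφ _ _ fun k r => by
    rw [tA_bG, hY1 k, Finset.sum_eq_single (k + (1, 0)) (fun m _ hm => by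
      rw [pr_apply, if_neg, mul_zero]; rw [Equiv.symm_apply_eq]; exact hm) (by simp), pr_apply, if_pos, mul_one]
    rw [Equiv.symm_apply_eq]; rfl
  have f4 : φ y₂ = tB (bG hl) := hφ _ _ fun k r => by
    rw [tB_bG, hY2 k, Finset.sum_eq_single (k + (0, 1)) (fun m _ hm => by
      rw [pr_apply, if_neg, mul_zero]; rw [Equiv.symm_apply_eq]; exact hm) (by simp), pr_apply, if_pos, mul_one]
    rw [Equiv.symm_apply_eq]; rfl
  have hg4 : ∀ k, gen9 hl k ∈ R.map φ.toMonoidHom := by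
    intro k
    fin_cases k
    · exact ⟨x₁, hx₁, f1⟩
    · exact ⟨y₁, hy₁, f2⟩
    · exact ⟨x₂, hx₂, f3⟩
    · exact ⟨y₂, hy₂, f4⟩
  refine ⟨P, hg4, ?_⟩
  · rintro _ ⟨g, hg, rfl⟩
    rw [mem_R9_iff]
    intro k
    obtain ⟨z, hz, e'⟩ := hg4 k
    show φ.toMonoidHom g * gen9 hl k * (φ.toMonoidHom g)⁻¹ * (gen9 hl k)⁻¹ ∈ _
    rw [← e', ← map_inv, ← map_inv, ← map_mul, ← map_mul, ← map_mul]
    obtain ⟨c, hc⟩ := (mem_scalars_iff _).1 (h.comm g hg z hz)
    refine (mem_scalars_iff _).2 ⟨c, ?_⟩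
    show ((φ (g * z * g⁻¹ * z⁻¹) : G9) : Matrix I9 I9 F) = _
    rw [hval, Units.val_mul, Units.val_mul, hc, mul_smul_comm, mul_one, smul_mul_assoc, Units.inv_mul]
    ext a b
    simp [one_apply]

/-- Coordinates bringing the group into the standard one. -/
theorem exists_frame {R : Subgroup (GL (Fin 9) F)} (h : Pre R) :
    ∃ φ : GL (Fin 9) F ≃* G9, (∀ g, ((φ g : G9) : Matrix I9 I9 F).det = (g : Matrix (Fin 9) (Fin 9) F).det) ∧
      (∀ k, gen9 hl k ∈ R.map φ.toMonoidHom) ∧ R.map φ.toMonoidHom ≤ R9 hl :=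
  let ⟨P, h1, h2⟩ := exists_basis hl h
  ⟨frameOf P, det_frameOf P, h1, h2⟩

/-- The normaliser of the standard group is maximal. -/
theorem maximal_std (hp : (Fintype.card F).Prime) (hp3 : Fintype.card F % 3 = 1)
    (hne : ¬ specialLinear I9 F ≤ N9 hl) :
    Cfsg.Geo.IsMaximalIn (specialLinear I9 F) (N9 hl ⊓ specialLinear I9 F) := by
  classical
  refine ⟨lt_of_le_of_ne inf_le_right fun e => hne (e.ge.trans inf_le_left), fun M hM hMS => ?_⟩
  have hN : ∀ g ∈ N9 hl, (g : Matrix I9 I9 F).det = 1 → g ∈ M := fun g hg hd =>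
    hM (Subgroup.mem_inf.2 ⟨hg, MonoidHom.mem_ker.2 (Units.ext (by simpa using hd))⟩)
  by_cases hno : specialLinear I9 F ≤ M ⊔ scalars I9 F
  · refine Or.inr (le_antisymm hMS ?_)
    haveI := scalars_normal (ι := I9) (F := F)
    intro g hg
    have cs : ∀ {c : G9}, c ∈ scalars I9 F → ∀ w, c * w * c⁻¹ = w := fun hc w => by
      rw [(commute_scalar hc w).eq, mul_inv_cancel_right]
    let T := Matrix.SpecialLinearGroup.toGL (n := I9) (R := F)
    have htop := CfsgLib.Classical.closure_transvection_eq_top (M.comap T) fun i j hij c => by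
      obtain ⟨k, hki, hkj⟩ : ∃ k : I9, k ≠ i ∧ k ≠ j := by
        obtain ⟨k, -, hk⟩ := Finset.exists_mem_notMem_of_card_lt_card (s := ({i, j} : Finset I9)) (t := Finset.univ)
          (lt_of_le_of_lt Finset.card_le_two (by simp))
        exact ⟨k, fun e => hk (by simp [e]), fun e => hk (by simp [e])⟩
      have inM : ∀ (a b : I9) (hab : a ≠ b) (d : F),
          (tv a b hab d : G9) ∈ M ⊔ scalars I9 F := fun a b hab d => hno (MonoidHom.mem_ker.2 (Units.ext (by
            rw [Matrix.GeneralLinearGroup.val_det_apply, Units.val_one]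
            exact Matrix.det_transvection_of_ne a b hab d)))
      obtain ⟨a', ha', u, hu, ea⟩ := Subgroup.mem_sup_of_normal_right.1 (inM i k hki.symm c)
      obtain ⟨b', hb', w, hw, eb⟩ := Subgroup.mem_sup_of_normal_right.1 (inM k j hkj 1)
      have hm : a' * b' * a'⁻¹ * b'⁻¹ ∈ M := mul_mem (mul_mem (mul_mem ha' hb') (inv_mem ha')) (inv_mem hb')
      rw [Subgroup.mem_comap]
      convert hm using 1
      have e : a' * b' * a'⁻¹ * b'⁻¹ = a' * u * (b' * w) * (a' * u)⁻¹ * (b' * w)⁻¹ := by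
        rw [show a' * u * (b' * w) * (a' * u)⁻¹ * (b' * w)⁻¹ =
          a' * (u * (b' * w) * u⁻¹) * a'⁻¹ * (b' * w)⁻¹ by group, cs hu,
          show a' * (b' * w) * a'⁻¹ * (b' * w)⁻¹ = a' * b' * (w * a'⁻¹ * w⁻¹) * b'⁻¹ by group, cs hw]
      rw [e, ea, eb]
      refine Units.ext ?_
      have i1 : (((tv i k hki.symm c)⁻¹ : G9) : Matrix I9 I9 F) = Matrix.transvection i k (-c) := by
        refine Units.inv_eq_of_mul_eq_one_right ?_
        show Matrix.transvection i k c * _ = 1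
        rw [Matrix.transvection_mul_transvection_same _ _ hki.symm, add_neg_cancel, Matrix.transvection_zero]
      have i2 : (((tv k j hkj (1 : F))⁻¹ : G9) : Matrix I9 I9 F) = Matrix.transvection k j (-1) := by
        refine Units.inv_eq_of_mul_eq_one_right ?_
        show Matrix.transvection k j 1 * _ = 1
        rw [Matrix.transvection_mul_transvection_same _ _ hkj, add_neg_cancel, Matrix.transvection_zero]
      rw [Units.val_mul, Units.val_mul, Units.val_mul, i1, i2]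
      show Matrix.transvection i j c =
        Matrix.transvection i k c * Matrix.transvection k j 1 * Matrix.transvection i k (-c) * Matrix.transvection k j (-1)
      have sn : ∀ (p q : I9) (d : F), Matrix.single p q (-d) = -Matrix.single p q d := fun p q d => by
        ext x y; simp [Matrix.single_apply]; split_ifs <;> simp
      rw [Matrix.transvection, Matrix.transvection, Matrix.transvection, Matrix.transvection, Matrix.transvection, sn, sn]
      simp [mul_add, add_mul, Matrix.single_mul_single_same,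
        Matrix.single_mul_single_of_ne, hki, hkj, hki.symm, hkj.symm, hij, hij.symm]
      abel
    let g' : Matrix.SpecialLinearGroup I9 F :=
      ⟨(g : Matrix I9 I9 F), by simpa using congrArg Units.val (MonoidHom.mem_ker.1 hg)⟩
    have hm : g' ∈ M.comap T := htop ▸ Subgroup.mem_top _
    convert Subgroup.mem_comap.1 hm using 1
    exact Units.ext rfl
  · exact Or.inl (le_antisymm (fun g hg => ⟨overgroup hl hp hp3 hN hMS hno hg, hMS hg⟩) hM)

/-- A group of exponent three between the generators and the standard group has the standard normaliser. -/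
theorem normalizer_eq {R' : Subgroup G9} (hgen : ∀ k, gen9 hl k ∈ R') (hle : R' ≤ R9 hl)
    (hcube : ∀ x ∈ R', x ^ 3 = 1) : subgroupNormalizer R' = N9 hl := by
  classical
  have hlift : ∀ x ∈ R9 hl, x ^ 3 = 1 → x ∈ R' := by
    intro x hx hx3
    obtain ⟨c, hc, v, w, rfl⟩ := R9_cases hl hx
    have hw : (tp (wd hl v, wd hl w) : G9) ∈ R' := by
      rw [tp_eq, wd, wd, SL3.Maximal.word, SL3.Maximal.word, map_mul, map_mul, map_pow, map_pow, map_pow, map_pow]
      exact mul_mem (mul_mem (pow_mem (hgen 0) _) (pow_mem (hgen 1) _)) (mul_mem (pow_mem (hgen 2) _) (pow_mem (hgen 3) _))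
    refine mul_mem ?_ hw
    rw [(commute_scalar hc _).mul_pow, hcube _ hw, mul_one] at hx3
    obtain ⟨d, hd⟩ := (mem_scalars_iff c).1 hc
    have hd3 : (d : F) ^ 3 = 1 := by
      have := congrArg (fun g : G9 => (g : Matrix I9 I9 F) ((0, 0) : I9) ((0, 0) : I9)) hx3
      simpa [Units.val_pow_eq_pow_val, hd, smul_pow] using this
    obtain ⟨n, -, hn⟩ := Extra27.eq_pow_of_cube hl hd3
    set z := gen9 hl 0 * gen9 hl 1 * (gen9 hl 0)⁻¹ * (gen9 hl 1)⁻¹ with hz
    have hzR : z ∈ R' := mul_mem (mul_mem (mul_mem (hgen 0) (hgen 1)) (inv_mem (hgen 0))) (inv_mem (hgen 1))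
    have hzv : (z : Matrix I9 I9 F) = l • 1 := by
      rw [hz, show gen9 hl 0 = tA (aG hl) from rfl, show gen9 hl 1 = tA (bG hl) from rfl, ← map_inv, ← map_inv,
        ← map_mul, ← map_mul, ← map_mul, tA_eq, tp_val]
      rw [show ((aG hl * bG hl * (aG hl)⁻¹ * (bG hl)⁻¹ : GL (Fin 3) F) : Matrix (Fin 3) (Fin 3) F) = l • 1 by
        rw [Units.val_mul, Units.val_mul, Units.val_mul, comm_ab hl, smul_mul_assoc, smul_mul_assoc,
          mul_assoc (bG hl : Matrix (Fin 3) (Fin 3) F), Units.mul_inv, mul_one, Units.mul_inv]]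
      rw [Units.val_one, smul_kronecker, one_kronecker_one]
    have : c = z ^ n := Units.ext (by rw [hd, Units.val_pow_eq_pow_val, hzv, smul_pow, one_pow, hn])
    rw [this]
    exact pow_mem hzR n
  refine le_antisymm (fun g hg => mem_N9 hl fun k => hle ((Subgroup.mem_normalizer_iff.1 hg _).1 (hgen k)))
    fun g hg => Subgroup.mem_normalizer_iff.2 fun x => ⟨fun hx => ?_, fun hx => ?_⟩
  · refine hlift _ ((Subgroup.mem_normalizer_iff.1 hg _).1 (hle hx)) ?_
    rw [conj_pow, hcube x hx, mul_one, mul_inv_cancel]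
  · refine hlift _ ((Subgroup.mem_normalizer_iff.1 hg _).2 (hle hx)) ?_
    have := hcube _ hx
    rw [conj_pow, mul_inv_eq_one] at this
    exact mul_left_cancel (this.trans (mul_one g).symm)

omit hl in
/-- The normaliser of a group of order 243 of symplectic type is maximal in the special linear group. -/
theorem maximal (hp : (Fintype.card F).Prime) (hp3 : Fintype.card F % 3 = 1) {R : Subgroup (GL (Fin 9) F)}
    (hR : IsLinearSymplecticTypeData 3 R) :
    Cfsg.Geo.IsMaximalIn (specialLinear (Fin 9) F) (subgroupNormalizer R ⊓ specialLinear (Fin 9) F) := by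
  classical
  haveI := Fact.mk hp
  obtain ⟨l, hl⟩ := Extra27.exists_primitive (F := F) (n := 3) (by omega) (by norm_num)
  have hZ : Nat.card (Subgroup.center R) = 3 := by
    obtain ⟨p, e, -, -, h | h | h⟩ := hR.field
    · exact h.2.2.1
    · exact absurd h.1 (by norm_num)
    · exact absurd h.1 (by norm_num)
  have hexp : Monoid.exponent R = 3 := by rw [hR.symplecticType.exponent_eq]; norm_num
  haveI : Finite R := inferInstance
  have hD := commutator_le_center hR.symplecticType.pGroup hexp hR.symplecticType.cyclic_of_characteristic hZ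
  have hpre : Pre R := by
    refine ⟨fun x hx => ?_, fun x hx y hy => ?_, hR.absIrred⟩
    · have := Monoid.pow_exponent_eq_one (⟨x, hx⟩ : R)
      rw [hexp] at this
      exact congrArg Subtype.val this
    · refine Asch.mem_scalars_of_commute hR.absIrred fun n hn => ?_
      have hc : ⁅(⟨x, hx⟩ : R), ⟨y, hy⟩⁆ ∈ Subgroup.center R :=
        hD (Subgroup.commutator_mem_commutator (Subgroup.mem_top _) (Subgroup.mem_top _))
      exact (congrArg Subtype.val (Subgroup.mem_center_iff.1 hc ⟨n, hn⟩)).symm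
  obtain ⟨φ, hdet, hgen, hle⟩ := exists_frame hl hpre
  have hcube : ∀ x ∈ R.map φ.toMonoidHom, x ^ 3 = 1 := by
    rintro _ ⟨x, hx, rfl⟩
    rw [← map_pow, hpre.cube x hx, map_one]
  set R' := R.map φ.toMonoidHom with hR'
  have hN : subgroupNormalizer R' = N9 hl := normalizer_eq hl hgen hle hcube
  have hSL : (specialLinear (Fin 9) F).map φ.toMonoidHom = specialLinear I9 F := by
    ext g
    rw [Subgroup.mem_map_equiv]
    have hd := hdet (φ.symm g)
    rw [MulEquiv.apply_symm_apply] at hd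
    show Matrix.GeneralLinearGroup.det _ = 1 ↔ Matrix.GeneralLinearGroup.det _ = 1
    rw [Units.ext_iff, Units.ext_iff, Matrix.GeneralLinearGroup.val_det_apply, Matrix.GeneralLinearGroup.val_det_apply, hd]
  have hNmap : (subgroupNormalizer R).map φ.toMonoidHom = N9 hl := by
    rw [← hN]
    ext g
    rw [Subgroup.mem_map_equiv]
    show φ.symm g ∈ Subgroup.normalizer _ ↔ g ∈ Subgroup.normalizer _
    rw [Subgroup.mem_normalizer_iff, Subgroup.mem_normalizer_iff]
    constructor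
    · intro hg x
      have := hg (φ.symm x)
      rw [hR', Subgroup.mem_map_equiv, Subgroup.mem_map_equiv, map_mul, map_mul, map_inv]
      exact this
    · intro hg x
      have := hg (φ x)
      rw [hR', Subgroup.mem_map_equiv, Subgroup.mem_map_equiv, map_mul, map_mul, map_inv,
        MulEquiv.symm_apply_apply] at this
      exact this
  have hne : ¬ specialLinear I9 F ≤ N9 hl := by
    rw [← hNmap, ← hSL, Subgroup.map_le_map_iff_of_injective φ.injective]
    exact Asch.not_le_symplecticNormalizer (by simp) hR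
  have := CfsgLib.Geo.OrthSub.isMaximalIn_map φ.symm (maximal_std hl hp hp3 hne)
  convert this using 1
  · rw [← hSL, Subgroup.map_map]
    convert (Subgroup.map_id (specialLinear (Fin 9) F)).symm
    ext x; simp
  · rw [← hSL, ← hNmap, ← Subgroup.map_inf_eq _ _ _ φ.injective, Subgroup.map_map]
    convert (Subgroup.map_id (subgroupNormalizer R ⊓ specialLinear (Fin 9) F)).symm
    ext x; simp

end CfsgLib.Geo.Nine
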