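import Cfsg.Agent.Lib.Geo.Nine.Sylow
import Cfsg.Agent.Lib.ZStar.Main
import Cfsg.Agent.Lib.OddLocal.Final.OddOrder

/-!
# Overgroups of the normaliser of the extraspecial group of order 243
-/

set_option autoImplicit false
set_option maxHeartbeats 1000000

namespace CfsgLib.Geo.Nine

open Matrix Cfsg.Geo
open scoped Kronecker commutatorElement
open CfsgLib.Geo.Extra27 (amat bmat jmat Heis)
open CfsgLib.Geo.SL3.Maximal
open CfsgLib.Geo.SympNorm (commute_scalar)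

variable {F : Type*} [Field F] {l : F}

local notation "M3" => Matrix (Fin 3) (Fin 3) F
local notation "G3" => GL (Fin 3) F
local notation "V3" => ZMod 3 × ZMod 3
local notation "M9" => Matrix I9 I9 F
local notation "G9" => GL I9 F

theorem norms_cube {A : Type*} [CommGroup A] (t : Fin 3 → Fin 3 → A) (h0 : t 0 0 * t 1 0 * t 2 0 = 1)
    (h1 : t 0 0 * t 0 1 * t 0 2 = 1) (h2 : t 0 0 * t 1 1 * t 2 2 = 1) (h3 : t 0 0 * t 1 2 * t 2 1 = 1)
    (r1 : t 1 0 * t 1 1 * t 1 2 = 1) (r2 : t 2 0 * t 2 1 * t 2 2 = 1) : t 0 0 ^ 3 = 1 := by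
  have e : (t 0 0 * t 1 0 * t 2 0) * (t 0 0 * t 0 1 * t 0 2) * (t 0 0 * t 1 1 * t 2 2) * (t 0 0 * t 1 2 * t 2 1) =
      t 0 0 ^ 3 * ((t 0 0 * t 0 1 * t 0 2) * (t 1 0 * t 1 1 * t 1 2) * (t 2 0 * t 2 1 * t 2 2)) := by
    simp only [pow_three, mul_assoc, mul_comm, mul_left_comm]
  rw [h0, h1, h2, h3, r1, r2] at e
  simpa using e.symm

/-- A fixed point of an automorphism of order three of a group of exponent three. -/
theorem exists_fixed {A : Type*} [CommGroup A] (E : A →* A) (hE : ∀ x, E (E (E x)) = x) (h3 : ∀ x : A, x ^ 3 = 1)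
    {x : A} (hx : x ≠ 1) : ∃ y : A, y ≠ 1 ∧ E y = y := by
  by_cases hy : E x = x
  · exact ⟨x, hx, hy⟩
  by_cases hw : E (E x * x⁻¹) = E x * x⁻¹
  · exact ⟨_, fun e => hy (mul_inv_eq_one.1 e), hw⟩
  refine ⟨E (E x * x⁻¹) * (E x * x⁻¹)⁻¹, fun e => hw (mul_inv_eq_one.1 e), mul_inv_eq_one.1 ?_⟩
  calc E (E (E x * x⁻¹) * (E x * x⁻¹)⁻¹) * (E (E x * x⁻¹) * (E x * x⁻¹)⁻¹)⁻¹
      = E (E (E x)) * x⁻¹ * ((E (E x))⁻¹ ^ 3 * (E x) ^ 3) := by
        simp only [map_mul, map_inv, _root_.mul_inv_rev, inv_inv, pow_three, mul_assoc, mul_comm, mul_left_comm]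
    _ = 1 := by rw [hE, mul_inv_cancel, h3, h3, mul_one, mul_one]

variable (hl : IsPrimitiveRoot l 3)
include hl
variable [Finite F]

theorem gen9_cube (k : Fin 4) : (gen9 hl k) ^ 3 = 1 := by
  have ha : (aG hl : G3) ^ 3 = 1 := Units.ext (by
    rw [Units.val_pow_eq_pow_val]
    show amat l ^ 3 = 1
    rw [amat, diagonal_pow, ← diagonal_one]
    congr 1
    funext i
    fin_cases i <;> simp [hl.pow_eq_one, show (l ^ 2) ^ 3 = 1 by rw [← pow_mul, mul_comm, pow_mul, hl.pow_eq_one, one_pow]])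
  have hb : (bG hl : G3) ^ 3 = 1 := Units.ext (by
    rw [Units.val_pow_eq_pow_val]
    show (bmat : M3) ^ 3 = 1
    rw [pow_three]
    ext r s; fin_cases r <;> fin_cases s <;> simp [bmat, Matrix.mul_apply, Fin.sum_univ_three])
  fin_cases k <;> simp [gen9, ← map_pow, ha, hb]

theorem det_gen9 (k : Fin 4) : ((gen9 hl k : G9) : M9).det = 1 := by
  have ha : ((aG hl : G3) : M3).det = 1 := det_aG hl
  have hb : ((bG hl : G3) : M3).det = 1 := det_H3 hl (std hl).bR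
  fin_cases k <;> simp [gen9, tA_eq, tB_eq, det_tp, ha, hb]

theorem det_sw' : ((sw' : G9) : M9).det = 1 := by
  have : Equiv.Perm.sign (Equiv.prodComm (Fin 3) (Fin 3) : Equiv.Perm I9).symm = -1 := by
    clear * -; decide +kernel
  rw [sw', Units.val_neg, det_neg, sw, show ((pr (Equiv.prodComm (Fin 3) (Fin 3)) : G9) : M9) =
    (1 : M9).submatrix (Equiv.prodComm (Fin 3) (Fin 3) : Equiv.Perm I9).symm id from rfl, det_permute, det_one, this]
  norm_num

theorem S0_good {x : G9} (hx : x ∈ S0 hl) : x ∈ N9 hl ∧ (x : M9).det = 1 := by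
  have hsw : (sw' : G9) ∈ N9 hl := by
    have e : (sw' : G9) = SympNorm.sc (-1) (neg_ne_zero.2 one_ne_zero) * sw := Units.ext (by
      simp [sw', SympNorm.sc])
    rw [e]
    exact mul_mem (Subgroup.le_normalizer (scalars_le_R9 hl (SympNorm.sc_mem _ _))) (sw_mem_N9 hl)
  obtain ⟨q, hq, q', hq', rfl | rfl⟩ := hx
  · exact ⟨tp_mem_N9 hl (Q8_le hl hq).1 (Q8_le hl hq').1, by rw [det_tp, det_Q8 hl hq, det_Q8 hl hq']; simp⟩
  · refine ⟨mul_mem hsw (tp_mem_N9 hl (Q8_le hl hq).1 (Q8_le hl hq').1), ?_⟩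
    rw [Units.val_mul, det_mul, det_sw' hl, det_tp, det_Q8 hl hq, det_Q8 hl hq']; simp

theorem tau_order (h2 : (2 : F) ≠ 0) : orderOf (tp (jG hl, jG hl) : G9) = 2 := by
  refine orderOf_eq_prime ?_ ?_
  · rw [← map_pow, Prod.pow_mk, pow_two, (rels hl).2.2.2]; exact map_one _
  · intro e
    exact jEl_not_scalar (std hl) (tp_scalar (e ▸ one_mem (scalars I9 F) : (tp (jG hl, jG hl) : G9) ∈ scalars I9 F)).1

variable {M : Subgroup (GL I9 F)}

/-- The involution with scalar-free centre gives an element of the extraspecial group in the odd core. -/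
theorem exists_odd [Fintype F] (hp : (Fintype.card F).Prime) (hp3 : Fintype.card F % 3 = 1) (h2 : (2 : F) ≠ 0)
    (hN : ∀ g ∈ N9 hl, (g : M9).det = 1 → g ∈ M) (hMd : M ≤ specialLinear I9 F)
    (h : Ctx hl (M ⊔ scalars I9 F)) (hno : ¬ specialLinear I9 F ≤ M ⊔ scalars I9 F) :
    ∃ N : Subgroup ↥M, N.Normal ∧ Odd (Nat.card N) ∧ ∃ x ∈ N, (x : G9) ∈ R9 hl ∧ (x : G9) ∉ scalars I9 F := by
  classical
  haveI : Fact (Nat.Prime 2) := ⟨Nat.prime_two⟩
  haveI : Finite G9 := inferInstance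
  have hS : S0 hl ≤ M := fun x hx => hN x (S0_good hl hx).1 (S0_good hl hx).2
  have hS2 : IsPGroup 2 ((S0 hl).subgroupOf M) := fun x => ⟨3, Subtype.ext (Subtype.ext
    (by simpa using pow_eight hl (Subgroup.mem_subgroupOf.1 x.2)))⟩
  obtain ⟨P, hP⟩ := hS2.exists_le_sylow
  have hPle : (P : Subgroup ↥M).map M.subtype ≤ S0 hl := by
    refine h.two_group_le hl hp hp3 hno h2 (P.2.map _) ?_ ?_ ?_
    · rintro _ ⟨x, -, rfl⟩; exact Subgroup.mem_sup_left x.2
    · rintro _ ⟨x, -, rfl⟩; exact hMd x.2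
    · intro x hx; exact ⟨⟨x, hS hx⟩, hP (Subgroup.mem_subgroupOf.2 hx), rfl⟩
  have hτ : (tp (jG hl, jG hl) : G9) ∈ S0 hl := tp_mem_S0 hl (jG_Q8 hl) (jG_Q8 hl)
  set u : ↥M := ⟨tp (jG hl, jG hl), hS hτ⟩ with hu
  have htj : ((tp (jG hl, jG hl) : G9) : M9).trace = 1 := by
    rw [trace_tp, jG_val, Matrix.trace, Fin.sum_univ_three]; simp [jmat]
  have huo : orderOf u = 2 := by rw [← Subgroup.orderOf_coe]; exact tau_order hl h2
  have hiso : ∀ g : ↥M, g * u * g⁻¹ ∈ P → g * u * g⁻¹ = u := by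
    intro g hg
    refine Subtype.ext (involution_trace_one hl h2 (hPle ⟨_, hg, rfl⟩) ?_ ?_)
    · have : (g * u * g⁻¹) * (g * u * g⁻¹) = 1 := by
        rw [← pow_two, conj_pow, ← huo, pow_orderOf_eq_one, mul_one, mul_inv_cancel]
      exact congrArg Subtype.val this
    · show (((g : G9) * tp (jG hl, jG hl) * (g : G9)⁻¹ : G9) : M9).trace = 1
      rw [Units.val_mul, Units.val_mul, trace_mul_comm, ← mul_assoc, Units.inv_mul, one_mul, htj]
  refine ⟨Cfsg.oddCore ↥M, inferInstance, CfsgLib.ZStar.odd_card_oddCore _, ?_⟩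
  have hmem := CfsgLib.ZStar.mem_oddCore_of_sylow P huo (hP (Subgroup.mem_subgroupOf.2 hτ)) hiso
    (⟨tA (aG hl), hN _ (Subgroup.le_normalizer (gen9_mem hl 0)) (det_gen9 hl 0)⟩ : ↥M)
  refine ⟨_, hmem, ?_⟩
  have e : (tp (jG hl, jG hl) : G9) * tA (aG hl) * (tp (jG hl, jG hl))⁻¹ * (tA (aG hl))⁻¹ =
      tA (jG hl * aG hl * (jG hl)⁻¹ * (aG hl)⁻¹) := by
    simp only [tA_eq, ← map_inv, ← map_mul]; congr 1; simp
  show (tp (jG hl, jG hl) : G9) * tA (aG hl) * (tp (jG hl, jG hl))⁻¹ * (tA (aG hl))⁻¹ ∈ R9 hl ∧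
    (tp (jG hl, jG hl) : G9) * tA (aG hl) * (tp (jG hl, jG hl))⁻¹ * (tA (aG hl))⁻¹ ∉ scalars I9 F
  rw [e]
  have hv := (rel_av hl (jEl_mem (std hl) (h3_ne hl)).1 (rel_a (h := std hl))).mul (rel_a (h := std hl)).inv
  have hj : chiN hl ⟨jG hl, (jEl_mem (std hl) (h3_ne hl)).1⟩ = cf * cf := (chQ_vals hl).2.2
  rw [show chiN hl ⟨jEl (std hl), (jEl_mem (std hl) (h3_ne hl)).1⟩ = cf * cf from hj] at hv
  refine ⟨by rw [tA_eq, mem_R9_tp]; exact ⟨⟨_, hv⟩, inR_scalar hl (one_mem _)⟩, fun hs => ?_⟩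
  rw [tA_eq] at hs
  exact absurd (hv.unique (Rel.of_scalar (tp_scalar hs).1)) (by clear * -; decide +kernel)

/-- A group invariant under the overgroup, abelian modulo scalars, either gives the normaliser or is scalar. -/
theorem Ctx.le_normalizer_or [Fintype F] (hp : (Fintype.card F).Prime) (hp3 : Fintype.card F % 3 = 1)
    {X : Subgroup G9} (h : Ctx hl X) (hno : ¬ specialLinear I9 F ≤ X) {A : Subgroup G9} (hAX : A ≤ X)
    (hsA : scalars I9 F ≤ A) (hinv : ∀ g ∈ X, ∀ x ∈ A, g * x * g⁻¹ ∈ A)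
    (hab : ∀ x ∈ A, ∀ y ∈ A, x * y * x⁻¹ * y⁻¹ ∈ scalars I9 F) :
    X ≤ N9 hl ∨ A ≤ scalars I9 F := by
  classical
  have hgen : ∀ k, gen9 hl k ∈ X := fun k =>
    h.nn _ (Subgroup.le_normalizer (gen9_mem hl k)) (Or.inl (det_gen9 hl k))
  by_cases hex : ∃ x ∈ A, x ∈ R9 hl ∧ x ∉ scalars I9 F
  · left
    obtain ⟨x, hxA, hxR, hxs⟩ := hex
    obtain ⟨k, hk, -, e⟩ := h.to_tB hl hxR hxs
    have haA : (tB (aG hl) : G9) ∈ A := by
      have := mul_mem (inv_mem (hsA e)) (hinv k hk x hxA)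
      convert this using 1
      group
    have hRA : R9 hl ≤ A := fun y hy => by
      by_cases hys : y ∈ scalars I9 F
      · exact hsA hys
      obtain ⟨k', hk', -, e'⟩ := h.to_tB hl hy hys
      have := hinv k'⁻¹ (inv_mem hk') _ (mul_mem (hsA e') haA)
      convert this using 1
      group
    have hAR : A = R9 hl := le_antisymm (fun y hy => (mem_R9_iff hl).2 fun i => hab y hy _ (hRA (gen9_mem hl i))) hRA
    intro g hg
    refine mem_N9 hl fun i => ?_
    rw [← hAR]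
    exact hinv g hg _ (hRA (gen9_mem hl i))
  right
  have hAR : ∀ x ∈ A, x ∈ R9 hl → x ∈ scalars I9 F := fun x hx hr => by
    by_contra hs
    exact hex ⟨x, hx, hr, hs⟩
  have fixed : ∀ e ∈ R9 hl, e ∉ scalars I9 F → ∀ y ∈ A, y * e * y⁻¹ * e⁻¹ ∈ scalars I9 F → y ∈ scalars I9 F := by
    intro e he hes y hy hye
    obtain ⟨k, hk, hk9, hs⟩ := h.to_tB hl he hes
    set c := k * e * k⁻¹ * (tB (aG hl))⁻¹ with hc
    set x := k * y * k⁻¹ with hx
    have hxA : x ∈ A := hinv k hk y hy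
    have hxe : x * tB (aG hl) * x⁻¹ * (tB (aG hl))⁻¹ ∈ scalars I9 F := by
      have e1 : (tB (aG hl) : G9) = c⁻¹ * (k * e * k⁻¹) := by rw [hc]; group
      have e2 : x * tB (aG hl) * x⁻¹ * (tB (aG hl))⁻¹ = k * (y * e * y⁻¹ * e⁻¹) * k⁻¹ := by
        rw [e1, hx]
        calc k * y * k⁻¹ * (c⁻¹ * (k * e * k⁻¹)) * (k * y * k⁻¹)⁻¹ * (c⁻¹ * (k * e * k⁻¹))⁻¹
            = k * y * k⁻¹ * c⁻¹ * (k * e * y⁻¹ * e⁻¹ * k⁻¹) * c := by group
          _ = c⁻¹ * (k * y * k⁻¹) * (k * e * y⁻¹ * e⁻¹ * k⁻¹) * c := by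
              rw [← (commute_scalar (inv_mem hs) (k * y * k⁻¹)).eq]
          _ = c⁻¹ * (k * (y * e * y⁻¹ * e⁻¹) * k⁻¹) * c := by group
          _ = _ := by rw [(commute_scalar (inv_mem hs) _).eq, inv_mul_cancel_right]
      rw [e2]
      exact (scalars_normal (ι := I9) (F := F)).conj_mem _ hye k
    set z := x * tB (aG hl) * x⁻¹ * (tB (aG hl))⁻¹ with hz
    obtain ⟨d, hd⟩ := (mem_scalars_iff z).1 hxe
    have hd3 : (d : F) ^ 3 = 1 := by
      have e3 : (z * tB (aG hl)) ^ 3 = 1 := by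
        rw [hz, inv_mul_cancel_right, conj_pow, show (tB (aG hl) : G9) ^ 3 = 1 from gen9_cube hl 2, mul_one,
          mul_inv_cancel]
      rw [(commute_scalar hxe _).mul_pow, show (tB (aG hl) : G9) ^ 3 = 1 from gen9_cube hl 2, mul_one] at e3
      have := congrArg (fun g : G9 => (g : M9) ((0, 0) : I9) ((0, 0) : I9)) e3
      simpa [Units.val_pow_eq_pow_val, hd, smul_pow] using this
    obtain ⟨i, -, hi⟩ := Extra27.eq_pow_of_cube hl hd3
    have key : ∀ j : ℕ, (((tB (bG hl) : G9) ^ j * tB (aG hl) * ((tB (bG hl) : G9) ^ j)⁻¹ : G9) : M9) =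
        (l ^ (2 * j)) • ((tB (aG hl) : G9) : M9) := by
      intro j
      induction j with
      | zero => simp
      | succ j ih =>
        rw [show (tB (bG hl) : G9) ^ (j + 1) * tB (aG hl) * ((tB (bG hl) : G9) ^ (j + 1))⁻¹ =
          tB (bG hl) * ((tB (bG hl) : G9) ^ j * tB (aG hl) * ((tB (bG hl) : G9) ^ j)⁻¹) * (tB (bG hl))⁻¹ by
            rw [pow_succ']; group,
          Units.val_mul, Units.val_mul, ih, mul_smul_comm, smul_mul_assoc, ← Units.val_mul, ← Units.val_mul,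
          ← map_inv, ← map_mul, ← map_mul, tB_eq, tp_val, tB_eq, tp_val,
          show ((bG hl * aG hl * (bG hl)⁻¹ : G3) : M3) = l ^ 2 • (aG hl : M3) by
            rw [Units.val_mul, Units.val_mul,
              show (bG hl : M3) * (aG hl : M3) = l ^ 2 • ((aG hl : M3) * (bG hl : M3)) by
                rw [comm_ab hl, smul_smul, ← pow_succ, hl.pow_eq_one, one_smul],
              smul_mul_assoc, mul_assoc, Units.mul_inv, mul_one],
          kronecker_smul, smul_smul, ← pow_add]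
        ring_nf
    have hc' : Commute (x * (tB (bG hl) : G9) ^ i) (tB (aG hl)) := by
      refine Units.ext ?_
      have e4 : x * (tB (bG hl) : G9) ^ i * tB (aG hl) =
          x * ((tB (bG hl) : G9) ^ i * tB (aG hl) * ((tB (bG hl) : G9) ^ i)⁻¹) * (tB (bG hl) : G9) ^ i := by group
      have e5 : x * tB (aG hl) = z * tB (aG hl) * x := by rw [hz]; group
      rw [e4, Units.val_mul, Units.val_mul, key, mul_smul_comm, smul_mul_assoc, ← Units.val_mul x, e5, Units.val_mul,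
        Units.val_mul, hd, smul_mul_assoc, one_mul, smul_mul_assoc, smul_mul_assoc, smul_smul, ← hi, ← pow_add,
        show 2 * i + i = 3 * i by ring, pow_mul, hl.pow_eq_one, one_pow, one_smul, Units.val_mul, Units.val_mul,
        mul_assoc]
      simp only [hx, Units.val_mul, mul_assoc]
    have hns : (tB (aG hl) : G9) ∉ scalars I9 F := fun hs' => by
      rw [tB_eq] at hs'
      exact absurd (Rel.unique (Rel.of_scalar (h := std hl) (tp_scalar hs').2) rel_a) (by decide)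
    have hxN : x ∈ N9 hl := by
      have := h.centralizer_le hl hp hp3 hno (gen9_mem hl 2) hns
        (mul_mem (hAX hxA) (pow_mem (hgen 3) i) : x * (tB (bG hl) : G9) ^ i ∈ X) hc'
      exact (mul_mem_cancel_right (pow_mem (Subgroup.le_normalizer (gen9_mem hl 3)) i)).1 this
    have hxR : x ∈ R9 hl := (mem_R9_iff hl).2 fun j => by
      refine hAR _ ?_ ?_
      · have := hinv (gen9 hl j) (hgen j) _ (inv_mem hxA)
        convert mul_mem hxA this using 1
        group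
      · exact mul_mem ((Subgroup.mem_normalizer_iff.1 hxN _).1 (gen9_mem hl j)) (inv_mem (gen9_mem hl j))
    have := hAR x hxA hxR
    have h' := (scalars_normal (ι := I9) (F := F)).conj_mem _ this k⁻¹
    rw [hx] at h'
    convert h' using 1
    group
  haveI := scalars_normal (ι := I9) (F := F)
  set π := QuotientGroup.mk' (scalars I9 F) with hπ
  let B : Subgroup (G9 ⧸ scalars I9 F) := A.map π
  letI : CommGroup B :=
    { (inferInstance : Group B) with
      mul_comm := by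
        rintro ⟨_, x, hx, rfl⟩ ⟨_, y, hy, rfl⟩
        refine Subtype.ext ?_
        show π x * π y = π y * π x
        rw [← commutatorElement_eq_one_iff_mul_comm, ← map_commutatorElement, hπ, QuotientGroup.mk'_apply,
          QuotientGroup.eq_one_iff, commutatorElement_def]
        exact hab x hx y hy }
  let cj : ∀ g ∈ X, B →* B := fun g hg =>
    { toFun := fun b => ⟨π g * b * (π g)⁻¹, by
        obtain ⟨x, hx, e⟩ := b.2
        exact ⟨g * x * g⁻¹, hinv g hg x hx, by rw [map_mul, map_mul, map_inv, e]⟩⟩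
      map_one' := Subtype.ext (by simp)
      map_mul' := fun b b' => Subtype.ext (by simp [mul_assoc]) }
  set e1 : G9 := gen9 hl 0 with he1
  set e2 : G9 := gen9 hl 2 with he2
  have c12 : Commute e1 e2 := commute_tA_tB (aG hl) (aG hl)
  have fix1 : ∀ g ∈ R9 hl, g ∉ scalars I9 F → ∀ hg : g ∈ X, ∀ b : B, cj g hg b = b → b = 1 := by
    rintro g hgR hgs hg ⟨_, x, hx, rfl⟩ hb
    refine Subtype.ext ?_
    have hb' : π g * π x * (π g)⁻¹ = π x := congrArg Subtype.val hb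
    show π x = 1
    rw [hπ, QuotientGroup.mk'_apply, QuotientGroup.eq_one_iff]
    refine fixed g hgR hgs x hx ?_
    have : π (g * x * g⁻¹ * x⁻¹) = 1 := by rw [map_mul, map_mul, map_mul, map_inv, map_inv, hb', mul_inv_cancel]
    rw [hπ, QuotientGroup.mk'_apply, QuotientGroup.eq_one_iff] at this
    convert (scalars_normal (ι := I9) (F := F)).conj_mem _ (inv_mem this) 1 using 1
    group
  have hX1 : e1 ∈ X := hgen 0
  have hX2 : e2 ∈ X := hgen 2
  have norm1 : ∀ g : G9, g ∈ R9 hl → g ∉ scalars I9 F → ∀ hg : g ∈ X, g ^ 3 = 1 → ∀ b : B,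
      b * cj g hg b * cj g hg (cj g hg b) = 1 := by
    intro g hgR hgs hg hg3 b
    refine fix1 g hgR hgs hg _ ?_
    have e3 : cj g hg (cj g hg (cj g hg b)) = b := Subtype.ext (by
      show π g * (π g * (π g * (b : G9 ⧸ scalars I9 F) * (π g)⁻¹) * (π g)⁻¹) * (π g)⁻¹ = _
      have : π g ^ 3 = 1 := by rw [← map_pow, hg3, map_one]
      calc π g * (π g * (π g * (b : G9 ⧸ scalars I9 F) * (π g)⁻¹) * (π g)⁻¹) * (π g)⁻¹
          = π g ^ 3 * b * (π g ^ 3)⁻¹ := by simp only [pow_three, mul_assoc, _root_.mul_inv_rev]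
        _ = _ := by rw [this, one_mul, inv_one, mul_one])
    rw [map_mul, map_mul, e3]
    rw [mul_comm _ b, ← mul_assoc]
  have hw : ∀ i j : ℕ, e1 ^ i * e2 ^ j ∈ X := fun i j => mul_mem (pow_mem hX1 i) (pow_mem hX2 j)
  have cube : ∀ i j : ℕ, (e1 ^ i * e2 ^ j) ^ 3 = 1 := fun i j => by
    rw [(c12.pow_pow i j).mul_pow, ← pow_mul, ← pow_mul, mul_comm i, mul_comm j, pow_mul, pow_mul, gen9_cube,
      gen9_cube, one_pow, one_pow, mul_one]
  have compose : ∀ i j i' j' (b : B), cj _ (hw i j) (cj _ (hw i' j') b) = cj _ (hw (i + i') (j + j')) b := by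
    intro i j i' j' b
    refine Subtype.ext ?_
    show π (e1 ^ i * e2 ^ j) * (π (e1 ^ i' * e2 ^ j') * (b : G9 ⧸ scalars I9 F) * (π (e1 ^ i' * e2 ^ j'))⁻¹) *
      (π (e1 ^ i * e2 ^ j))⁻¹ = π (e1 ^ (i + i') * e2 ^ (j + j')) * (b : G9 ⧸ scalars I9 F) * (π (e1 ^ (i + i') * e2 ^ (j + j')))⁻¹
    have : e1 ^ (i + i') * e2 ^ (j + j') = (e1 ^ i * e2 ^ j) * (e1 ^ i' * e2 ^ j') := by
      rw [pow_add, pow_add, mul_assoc, ← mul_assoc (e1 ^ i'), (c12.pow_pow i' j).eq]; simp only [mul_assoc]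
    rw [this, map_mul π (e1 ^ i * e2 ^ j)]; group
  have nonsc : ∀ i j : Fin 3, ¬ (i = 0 ∧ j = 0) → e1 ^ (i : ℕ) * e2 ^ (j : ℕ) ∈ R9 hl ∧
      e1 ^ (i : ℕ) * e2 ^ (j : ℕ) ∉ scalars I9 F := by
    intro i j hij
    refine ⟨mul_mem (pow_mem (gen9_mem hl 0) _) (pow_mem (gen9_mem hl 2) _), fun hs => ?_⟩
    have e : e1 ^ (i : ℕ) * e2 ^ (j : ℕ) = tp (aG hl ^ (i : ℕ), aG hl ^ (j : ℕ)) := by
      rw [tp_eq, map_pow, map_pow]; rfl
    rw [e] at hs
    have r1 := ((rel_a (h := std hl)).pow (i : ℕ)).unique (Rel.of_scalar (tp_scalar hs).1)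
    have r2 := ((rel_a (h := std hl)).pow (j : ℕ)).unique (Rel.of_scalar (tp_scalar hs).2)
    have key : ∀ i : Fin 3, (i : ℕ) • ((0, 1) : ZMod 3 × ZMod 3) = 0 → i = 0 := by clear * -; decide +kernel
    exact hij ⟨key i r1, key j r2⟩
  intro x hx
  by_contra hxs
  set b₀ : B := ⟨π x, x, hx, rfl⟩ with hb₀
  have hb₀ne : b₀ ≠ 1 := fun e => hxs (by
    have := congrArg Subtype.val e
    change π x = 1 at this
    rwa [hπ, QuotientGroup.mk'_apply, QuotientGroup.eq_one_iff] at this)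
  have per : ∀ i j i' j' : ℕ, i % 3 = i' % 3 → j % 3 = j' % 3 → ∀ b : B, cj _ (hw i j) b = cj _ (hw i' j') b := by
    intro i j i' j' hi hj b
    refine Subtype.ext ?_
    show π (e1 ^ i * e2 ^ j) * (b : G9 ⧸ scalars I9 F) * _ = π (e1 ^ i' * e2 ^ j') * (b : G9 ⧸ scalars I9 F) * _
    have : e1 ^ i * e2 ^ j = e1 ^ i' * e2 ^ j' := by
      rw [pow_eq_pow_mod i (gen9_cube hl 0), pow_eq_pow_mod j (gen9_cube hl 2), pow_eq_pow_mod i' (gen9_cube hl 0),
        pow_eq_pow_mod j' (gen9_cube hl 2), hi, hj]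
    simp only [this]
    all_goals rfl
  have line : ∀ (di dj : Fin 3), ¬ (di = 0 ∧ dj = 0) → ∀ i j : ℕ, ∀ b : B,
      cj _ (hw i j) b * cj _ (hw (di + i) (dj + j)) b * cj _ (hw (di + (di + i)) (dj + (dj + j))) b = 1 := by
    intro di dj hd i j b
    have := norm1 _ (nonsc di dj hd).1 (nonsc di dj hd).2 (hw di dj) (cube di dj) (cj _ (hw i j) b)
    rwa [compose, compose] at this
  have exp3 : ∀ b : B, b ^ 3 = 1 := by
    intro b
    have h00 : cj _ (hw 0 0) b = b := Subtype.ext (by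
      show π (e1 ^ 0 * e2 ^ 0) * (b : G9 ⧸ scalars I9 F) * _ = _
      simp only [pow_zero, mul_one, map_one, one_mul]
      try simp)
    let t : Fin 3 → Fin 3 → B := fun i j => cj _ (hw i j) b
    have := norms_cube t (line 1 0 (by decide) 0 0 b) (line 0 1 (by decide) 0 0 b) (line 1 1 (by decide) 0 0 b)
      (by
        have e := line 1 2 (by decide) 0 0 b
        rwa [per ((1 : Fin 3) + ((1 : Fin 3) + 0) : ℕ) ((2 : Fin 3) + ((2 : Fin 3) + 0) : ℕ) 2 1 rfl rfl] at e)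
      (line 0 1 (by decide) 1 0 b) (line 0 1 (by decide) 2 0 b)
    rwa [show t 0 0 = b from h00] at this
  obtain ⟨y, hy1, hy⟩ := exists_fixed (cj _ (hw 1 0)) (fun b => by
    rw [compose, compose, per (1 + 1 + 1) (0 + 0 + 0) 0 0 rfl rfl]
    refine Subtype.ext ?_
    show π (e1 ^ 0 * e2 ^ 0) * (b : G9 ⧸ scalars I9 F) * _ = _
    simp only [pow_zero, mul_one, map_one, one_mul]
    try simp) exp3 hb₀ne
  exact hy1 (fix1 _ (nonsc 1 0 (by decide)).1 (nonsc 1 0 (by decide)).2 (hw 1 0) y hy)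

/-- Overgroups of the normaliser in the special linear group. -/
theorem overgroup [Fintype F] (hp : (Fintype.card F).Prime) (hp3 : Fintype.card F % 3 = 1)
    (hN : ∀ g ∈ N9 hl, (g : M9).det = 1 → g ∈ M) (hMd : M ≤ specialLinear I9 F)
    (hno : ¬ specialLinear I9 F ≤ M ⊔ scalars I9 F) : M ≤ N9 hl := by
  classical
  haveI : CharP F (Fintype.card F) := by haveI := Fact.mk hp; exact charP_of_card_eq_prime rfl
  have h2 : (2 : F) ≠ 0 := by
    intro e
    have hd := (CharP.cast_eq_zero_iff F (Fintype.card F) 2).1 (by simpa using e)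
    have := (Nat.prime_dvd_prime_iff_eq hp Nat.prime_two).1 hd
    omega
  set X := M ⊔ scalars I9 F with hX
  have h : Ctx hl X := by
    refine ⟨le_sup_right, fun g hg hd => ?_⟩
    rcases hd with hd | hd
    · exact Subgroup.mem_sup_left (hN g hg hd)
    · set m : G9 := SympNorm.sc (-1) (neg_ne_zero.2 one_ne_zero) with hm
      have hms : m ∈ scalars I9 F := SympNorm.sc_mem _ _
      have hmg : m * g ∈ M := by
        refine hN _ (mul_mem (Subgroup.le_normalizer (scalars_le_R9 hl hms)) hg) ?_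
        rw [Units.val_mul, det_mul, hd, hm]
        show ((-1 : F) • (1 : M9)).det * -1 = 1
        rw [det_smul, det_one, mul_one, Fintype.card_prod]
        norm_num
      rw [show g = m⁻¹ * (m * g) by group]
      exact mul_mem (Subgroup.mem_sup_right (inv_mem hms)) (Subgroup.mem_sup_left hmg)
  obtain ⟨N, hNn, hNodd, x₀, hx₀, hx₀R, hx₀s⟩ := exists_odd hl hp hp3 h2 hN hMd h hno
  haveI := hNn
  haveI : Finite G9 := inferInstance
  haveI : Group.IsSolvable ↥N := CfsgLib.OddLocal.FTFinal.odd_order_solvable hNodd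
  let D : ℕ → Subgroup G9 := fun k => (((derivedSeries ↥N k).map N.subtype).map M.subtype)
  have hD0 : (x₀ : G9) ∈ D 0 := ⟨x₀, ⟨⟨x₀, hx₀⟩, by simp, rfl⟩, rfl⟩
  obtain ⟨n, hn⟩ := (Group.isSolvable_def (G := ↥N)).1 inferInstance
  have hDn : D n ≤ scalars I9 F := by
    simp [D, hn]
  have hex : ∃ k, ¬ D k ≤ scalars I9 F ∧ D (k + 1) ≤ scalars I9 F := by
    by_contra hc
    have hall : ∀ k, ¬ D k ≤ scalars I9 F := by
      intro k
      induction k with
      | zero => exact fun hle => hx₀s (hle hD0)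
      | succ k ih => exact fun hle => hc ⟨k, ih, hle⟩
    exact hall n hDn
  obtain ⟨k, hk, hk1⟩ := hex
  haveI : ((derivedSeries ↥N k).map N.subtype).Normal := ConjAct.normal_of_characteristic_of_normal
  have hMinv : ∀ g ∈ M, ∀ y ∈ D k, g * y * g⁻¹ ∈ D k := by
    rintro g hg _ ⟨y, hy, rfl⟩
    exact ⟨⟨g, hg⟩ * y * ⟨g, hg⟩⁻¹, Subgroup.Normal.conj_mem inferInstance y hy _, rfl⟩
  have hDM : D k ≤ M := by rintro _ ⟨y, -, rfl⟩; exact y.2
  have hcomm : ∀ a ∈ D k, ∀ b ∈ D k, a * b * a⁻¹ * b⁻¹ ∈ scalars I9 F := by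
    rintro _ ⟨_, ⟨a, ha, rfl⟩, rfl⟩ _ ⟨_, ⟨b, hb, rfl⟩, rfl⟩
    refine hk1 ⟨_, ⟨⁅a, b⁆, ?_, rfl⟩, by simp [commutatorElement_def]⟩
    rw [derivedSeries_succ]
    exact Subgroup.commutator_mem_commutator ha hb
  set A := D k ⊔ scalars I9 F with hA
  haveI := scalars_normal (ι := I9) (F := F)
  have hAmem : ∀ y ∈ A, ∃ d ∈ D k, ∃ c ∈ scalars I9 F, y = d * c := fun y hy => by
    obtain ⟨d, hd, c, hc, e⟩ := Subgroup.mem_sup_of_normal_right.1 hy
    exact ⟨d, hd, c, hc, e.symm⟩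
  have hXmem : ∀ y ∈ X, ∃ m ∈ M, ∃ c ∈ scalars I9 F, y = m * c := fun y hy => by
    obtain ⟨d, hd, c, hc, e⟩ := Subgroup.mem_sup_of_normal_right.1 hy
    exact ⟨d, hd, c, hc, e.symm⟩
  have cj : ∀ {c : G9}, c ∈ scalars I9 F → ∀ w, c * w * c⁻¹ = w := fun hc w => by
    rw [(commute_scalar hc w).eq, mul_inv_cancel_right]
  have hres := h.le_normalizer_or hl hp hp3 hno (A := A) (sup_le_sup_right hDM _) le_sup_right ?_ ?_
  · rcases hres with hle | hle
    · exact le_sup_left.trans hle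
    · exact absurd (le_sup_left.trans hle) hk
  · intro g hg y hy
    obtain ⟨m, hm, c, hc, rfl⟩ := hXmem g hg
    obtain ⟨d, hd, c', hc', rfl⟩ := hAmem y hy
    rw [show m * c * (d * c') * (m * c)⁻¹ = m * (c * (d * c') * c⁻¹) * m⁻¹ by group, cj hc,
      show m * (d * c') * m⁻¹ = m * d * m⁻¹ * (m * c' * m⁻¹) by group]
    exact mul_mem (Subgroup.mem_sup_left (hMinv m hm d hd))
      (Subgroup.mem_sup_right ((scalars_normal (ι := I9) (F := F)).conj_mem _ hc' m))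
  · intro y hy y' hy'
    obtain ⟨d, hd, c, hc, rfl⟩ := hAmem y hy
    obtain ⟨d', hd', c', hc', rfl⟩ := hAmem y' hy'
    have e : d * c * (d' * c') * (d * c)⁻¹ * (d' * c')⁻¹ = d * d' * d⁻¹ * d'⁻¹ := by
      calc d * c * (d' * c') * (d * c)⁻¹ * (d' * c')⁻¹
          = d * (c * (d' * c') * c⁻¹) * d⁻¹ * (d' * c')⁻¹ := by group
        _ = d * d' * (c' * d⁻¹ * c'⁻¹) * d'⁻¹ := by rw [cj hc]; group
        _ = _ := by rw [cj hc']
    rw [e]
    exact hcomm d hd d' hd'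

end CfsgLib.Geo.Nine
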