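import Cfsg.Agent.Lib.Geo.Nine.Base

/-!
# Nine coordinates: tensor products, blocks, monomial elements and the group modulo scalars
-/

set_option autoImplicit false
set_option maxHeartbeats 1000000

namespace CfsgLib.Geo.Nine

open Matrix Cfsg.Geo
open scoped Kronecker
open CfsgLib.Geo.Extra27 (amat bmat jmat Heis)
open CfsgLib.Geo.SL3.Maximal
open CfsgLib.Geo.SympNorm (commute_scalar)

variable {F : Type*} [Field F] {l : F}

/-- The nine indices: position inside a block, block. -/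
abbrev I9 := Fin 3 × Fin 3

local notation "M3" => Matrix (Fin 3) (Fin 3) F
local notation "G3" => GL (Fin 3) F
local notation "V3" => ZMod 3 × ZMod 3
local notation "M9" => Matrix I9 I9 F
local notation "G9" => GL I9 F

/-- Tensor products of invertible matrices. -/
def tp : G3 × G3 →* G9 :=
  MonoidHom.mk'
    (fun p => ⟨(p.1 : M3) ⊗ₖ (p.2 : M3), ((p.1⁻¹ : G3) : M3) ⊗ₖ ((p.2⁻¹ : G3) : M3),
      by rw [← mul_kronecker_mul, Units.mul_inv, Units.mul_inv, one_kronecker_one],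
      by rw [← mul_kronecker_mul, Units.inv_mul, Units.inv_mul, one_kronecker_one]⟩)
    fun p q => Units.ext (by simp [mul_kronecker_mul])

theorem tp_val (x y : G3) : ((tp (x, y) : G9) : M9) = (x : M3) ⊗ₖ (y : M3) := rfl

theorem tp_apply (x y : G3) (r c : I9) : ((tp (x, y) : G9) : M9) r c = (x : M3) r.1 c.1 * (y : M3) r.2 c.2 := rfl

theorem det_tp (x y : G3) : ((tp (x, y) : G9) : M9).det = (x : M3).det ^ 3 * (y : M3).det ^ 3 := by
  rw [tp_val, det_kronecker, Fintype.card_fin]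

/-- Inside the blocks. -/
def tA : G3 →* G9 := tp.comp (MonoidHom.inl G3 G3)

/-- Across the blocks. -/
def tB : G3 →* G9 := tp.comp (MonoidHom.inr G3 G3)

theorem tA_eq (x : G3) : (tA x : G9) = tp (x, 1) := rfl

theorem tB_eq (y : G3) : (tB y : G9) = tp (1, y) := rfl

theorem tp_eq (x y : G3) : (tp (x, y) : G9) = tA x * tB y := by
  rw [tA_eq, tB_eq, ← map_mul]
  congr 1
  exact Prod.ext (mul_one x).symm (one_mul y).symm

theorem commute_tA_tB (x y : G3) : Commute (tA x : G9) (tB y) := by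
  show _ = _
  rw [tA_eq, tB_eq, ← map_mul, ← map_mul, Prod.mk_mul_mk, Prod.mk_mul_mk, mul_one, one_mul, one_mul, mul_one]

/-- Block diagonal elements. -/
def bd : (Fin 3 → G3) →* G9 :=
  (Units.map ((blockDiagonalRingHom (Fin 3) (Fin 3) F : (Fin 3 → M3) →+* M9) : (Fin 3 → M3) →* M9)).comp
    (MulEquiv.piUnits.symm.toMonoidHom)

theorem bd_apply (f : Fin 3 → G3) (r c : I9) :
    ((bd f : G9) : M9) r c = if r.2 = c.2 then (f r.2 : M3) r.1 c.1 else 0 := rfl

theorem bd_const (x : G3) : (bd fun _ => x : G9) = tA x := Units.ext (by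
  ext r c
  rw [bd_apply, tA_eq, tp_apply, Units.val_one, one_apply, mul_ite, mul_one, mul_zero])

theorem bd_injective : Function.Injective (bd : (Fin 3 → G3) → G9) := fun f f' e =>
  funext fun i => Units.ext (by
    ext j j'
    simpa [bd_apply] using congrArg (fun g : G9 => (g : M9) (j, i) (j', i)) e)

theorem det_bd (f : Fin 3 → G3) : ((bd f : G9) : M9).det = ∏ i, (f i : M3).det :=
  det_blockDiagonal _

/-- Permutation elements. -/
def pr : Equiv.Perm I9 →* G9 :=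
  ({ toFun := fun π : Equiv.Perm I9 => ((1 : M9).submatrix π.symm id)
     map_one' := by ext r c; simp [one_apply, Equiv.Perm.one_def]
     map_mul' := fun π ρ => by
      ext r c
      rw [Matrix.mul_apply, Finset.sum_eq_single (π.symm r)]
      · simp [one_apply, Equiv.Perm.mul_def]
      · intro x _ hx; simp [one_apply, Ne.symm hx]
      · simp } : Equiv.Perm I9 →* M9).toHomUnits

theorem pr_apply (π : Equiv.Perm I9) (r c : I9) : ((pr π : G9) : M9) r c = if π.symm r = c then 1 else 0 :=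
  show (1 : M9).submatrix π.symm id r c = _ by simp [one_apply]

theorem det_pr (π : Equiv.Perm I9) : ((pr π : G9) : M9).det = 1 ∨ ((pr π : G9) : M9).det = -1 := by
  rw [show ((pr π : G9) : M9) = (1 : M9).submatrix π.symm id from rfl, det_permute, det_one, mul_one]
  rcases Int.units_eq_one_or (Equiv.Perm.sign π.symm) with h | h <;> simp [h]

theorem pr_conj (π : Equiv.Perm I9) (X : G9) (r c : I9) :
    ((pr π * X * (pr π)⁻¹ : G9) : M9) r c = (X : M9) (π.symm r) (π.symm c) := by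
  rw [← map_inv, Units.val_mul, Units.val_mul, Matrix.mul_apply, Finset.sum_eq_single (π.symm c)]
  · rw [Matrix.mul_apply, Finset.sum_eq_single (π.symm r)]
    · simp [pr_apply, Equiv.Perm.inv_def]
    · intro x _ hx; simp [pr_apply, Ne.symm hx]
    · simp
  · intro x _ hx
    rw [pr_apply, if_neg, mul_zero]
    intro h
    exact hx (by rw [← h]; simp [Equiv.Perm.inv_def])
  · simp

/-- The exchange of the two factors. -/
def sw : G9 := pr (Equiv.prodComm (Fin 3) (Fin 3))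

theorem sw_conj_tp (x y : G3) : (sw * tp (x, y) * sw⁻¹ : G9) = tp (y, x) := Units.ext (by
  ext r c
  rw [sw, pr_conj, tp_apply, tp_apply, mul_comm]
  rfl)

theorem sw_sq : (sw * sw : G9) = 1 := by
  rw [sw, ← map_mul, show (Equiv.prodComm (Fin 3) (Fin 3) : Equiv.Perm I9) * Equiv.prodComm (Fin 3) (Fin 3) = 1 by
    ext x <;> rfl, map_one]

theorem sw_conj_tA (x : G3) : (sw * tA x * sw⁻¹ : G9) = tB x := sw_conj_tp x 1

theorem sw_conj_tB (x : G3) : (sw * tB x * sw⁻¹ : G9) = tA x := sw_conj_tp 1 x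

theorem tp_scalar {x y : G3} (h : (tp (x, y) : G9) ∈ scalars I9 F) :
    x ∈ scalars (Fin 3) F ∧ y ∈ scalars (Fin 3) F := by
  obtain ⟨c, hc⟩ := (mem_scalars_iff _).1 h
  have e : ∀ r s : I9, (x : M3) r.1 s.1 * (y : M3) r.2 s.2 = if r = s then (c : F) else 0 := fun r s => by
    rw [← tp_apply, hc]; simp [one_apply]
  have hx : ∀ j, (x : M3) j j ≠ 0 := fun j h0 => c.ne_zero (by simpa [h0] using (e (j, 0) (j, 0)).symm)
  have hy : ∀ j, (y : M3) j j ≠ 0 := fun j h0 => c.ne_zero (by simpa [h0] using (e (0, j) (0, j)).symm)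
  constructor
  · refine (mem_scalars_iff x).2 ⟨Units.mk0 _ (hx 0), ?_⟩
    ext i j
    by_cases hij : i = j
    · subst hij
      have h1 := e (i, 0) (i, 0); have h2 := e (0, 0) (0, 0)
      simp at h1 h2
      have := mul_right_cancel₀ (hy 0) (h1.trans h2.symm)
      simpa using this
    · have h1 := e (i, 0) (j, 0)
      simp [hij] at h1
      simpa [one_apply_ne hij] using h1.resolve_right (hy 0)
  · refine (mem_scalars_iff y).2 ⟨Units.mk0 _ (hy 0), ?_⟩
    ext i j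
    by_cases hij : i = j
    · subst hij
      have h1 := e (0, i) (0, i); have h2 := e (0, 0) (0, 0)
      simp at h1 h2
      have := mul_left_cancel₀ (hx 0) (h1.trans h2.symm)
      simpa using this
    · have h1 := e (0, i) (0, j)
      simp [hij] at h1
      simpa [one_apply_ne hij] using h1.resolve_left (hx 0)

theorem tA_scalars {c : G3} (hc : c ∈ scalars (Fin 3) F) : (tA c : G9) ∈ scalars I9 F := by
  obtain ⟨d, hd⟩ := (mem_scalars_iff c).1 hc
  exact (mem_scalars_iff _).2 ⟨d, by rw [tA_eq, tp_val, hd, Units.val_one, smul_kronecker, one_kronecker_one]⟩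

theorem tB_scalars {c : G3} (hc : c ∈ scalars (Fin 3) F) : (tB c : G9) ∈ scalars I9 F := by
  rw [← sw_conj_tA]
  exact (scalars_normal (ι := I9) (F := F)).conj_mem _ (tA_scalars hc) _

variable (hl : IsPrimitiveRoot l 3)
include hl

/-- The four generators. -/
def gen9 : Fin 4 → G9 := ![tA (aG hl), tA (bG hl), tB (aG hl), tB (bG hl)]

/-- The elements commuting with the generators up to scalars. -/
def R9 : Subgroup G9 :=
  (Subgroup.centralizer (QuotientGroup.mk' (scalars I9 F) '' Set.range (gen9 hl))).comap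
    (QuotientGroup.mk' (scalars I9 F))

/-- Its normaliser. -/
abbrev N9 : Subgroup G9 := subgroupNormalizer (R9 hl)

theorem mem_R9_iff {g : G9} : g ∈ R9 hl ↔ ∀ k, g * gen9 hl k * g⁻¹ * (gen9 hl k)⁻¹ ∈ scalars I9 F := by
  rw [R9, Subgroup.mem_comap, Subgroup.mem_centralizer_iff]
  simp only [Set.forall_mem_image, Set.forall_mem_range]
  refine forall_congr' fun k => ?_
  rw [← QuotientGroup.eq_one_iff]
  show (QuotientGroup.mk' _ (gen9 hl k)) * QuotientGroup.mk' _ g = QuotientGroup.mk' _ g * QuotientGroup.mk' _ (gen9 hl k) ↔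
    QuotientGroup.mk' (scalars I9 F) (g * gen9 hl k * g⁻¹ * (gen9 hl k)⁻¹) = 1
  rw [map_mul, map_mul, map_mul, map_inv, map_inv, mul_inv_eq_one, mul_inv_eq_iff_eq_mul, eq_comm]

theorem scalars_le_R9 : scalars I9 F ≤ R9 hl := fun c hc => by
  rw [mem_R9_iff]
  intro k
  rw [show c * gen9 hl k * c⁻¹ = gen9 hl k by rw [(commute_scalar hc _).eq, mul_inv_cancel_right], mul_inv_cancel]
  exact one_mem _

variable [Finite F]

theorem inR_iff {x : G3} :
    InR hl x ↔ x * aG hl * x⁻¹ * (aG hl)⁻¹ ∈ scalars (Fin 3) F ∧ x * bG hl * x⁻¹ * (bG hl)⁻¹ ∈ scalars (Fin 3) F := by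
  constructor
  · rintro ⟨v, hv⟩
    refine ⟨Rel.scalar (h := std hl) ?_, Rel.scalar (h := std hl) ?_⟩
    · have e := ((hv.mul (rel_a (h := std hl))).mul hv.inv).mul (rel_a (h := std hl)).inv
      simp at e
      exact e
    · have e := ((hv.mul (rel_b (h := std hl))).mul hv.inv).mul (rel_b (h := std hl)).inv
      simp at e
      exact e
  · rintro ⟨ha, hb⟩
    have key : ∀ y : G3, (y : M3).det = 1 → x * y * x⁻¹ * y⁻¹ ∈ scalars (Fin 3) F →
        ∃ i, (x : M3) * (y : M3) = SL3.Maximal.lp l i • ((y : M3) * (x : M3)) := by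
      intro y hy h
      obtain ⟨c, hc⟩ := (mem_scalars_iff _).1 h
      have hy' : Matrix.GeneralLinearGroup.det y = 1 := Units.ext hy
      have hd : Matrix.GeneralLinearGroup.det (x * y * x⁻¹ * y⁻¹) = 1 := by simp [hy']
      have hc3 : (c : F) ^ 3 = 1 := by
        have := congrArg Units.val hd
        rw [Matrix.GeneralLinearGroup.val_det_apply, hc, det_smul, det_one, mul_one, Fintype.card_fin] at this
        exact this
      obtain ⟨k, hk, hkc⟩ := Extra27.eq_pow_of_cube hl hc3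
      refine ⟨(k : ZMod 3), ?_⟩
      rw [SL3.Maximal.lp, ZMod.val_natCast, Nat.mod_eq_of_lt hk, hkc, ← Units.val_mul,
        show x * y = x * y * x⁻¹ * y⁻¹ * (y * x) by group, Units.val_mul, hc, smul_mul_assoc, one_mul, Units.val_mul]
    obtain ⟨i, hi⟩ := key _ (Extra27.det_amat hl.pow_eq_one) ha
    obtain ⟨j, hj⟩ := key _ Extra27.det_bmat hb
    exact ⟨(i, j), hi, hj⟩

theorem mem_R9_tp {x y : G3} : (tp (x, y) : G9) ∈ R9 hl ↔ InR hl x ∧ InR hl y := by
  rw [mem_R9_iff, inR_iff, inR_iff]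
  have e1 : ∀ z : G3, tp (x, y) * tA z * (tp (x, y))⁻¹ * (tA z)⁻¹ = (tA (x * z * x⁻¹ * z⁻¹) : G9) := fun z => by
    rw [tA_eq, tA_eq, ← map_inv, ← map_inv, ← map_mul, ← map_mul, ← map_mul]
    congr 1
    simp
  have e2 : ∀ z : G3, tp (x, y) * tB z * (tp (x, y))⁻¹ * (tB z)⁻¹ = (tB (y * z * y⁻¹ * z⁻¹) : G9) := fun z => by
    rw [tB_eq, tB_eq, ← map_inv, ← map_inv, ← map_mul, ← map_mul, ← map_mul]
    congr 1
    simp
  constructor
  · intro h
    have h0 : (tA (x * aG hl * x⁻¹ * (aG hl)⁻¹) : G9) ∈ scalars I9 F := e1 (aG hl) ▸ h 0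
    have h1 : (tA (x * bG hl * x⁻¹ * (bG hl)⁻¹) : G9) ∈ scalars I9 F := e1 (bG hl) ▸ h 1
    have h2 : (tB (y * aG hl * y⁻¹ * (aG hl)⁻¹) : G9) ∈ scalars I9 F := e2 (aG hl) ▸ h 2
    have h3 : (tB (y * bG hl * y⁻¹ * (bG hl)⁻¹) : G9) ∈ scalars I9 F := e2 (bG hl) ▸ h 3
    exact ⟨⟨(tp_scalar h0).1, (tp_scalar h1).1⟩, (tp_scalar h2).2, (tp_scalar h3).2⟩
  · rintro ⟨⟨ha, hb⟩, hc, hd⟩ k
    fin_cases k
    · exact (e1 (aG hl)).symm ▸ tA_scalars ha
    · exact (e1 (bG hl)).symm ▸ tA_scalars hb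
    · exact (e2 (aG hl)).symm ▸ tB_scalars hc
    · exact (e2 (bG hl)).symm ▸ tB_scalars hd

theorem gen9_mem (k : Fin 4) : gen9 hl k ∈ R9 hl := by
  have ia : InR hl (aG hl) := ⟨_, rel_a⟩
  have ib : InR hl (bG hl) := ⟨_, rel_b⟩
  have i1 : InR hl (1 : G3) := inR_scalar hl (one_mem _)
  fin_cases k <;> simp [gen9, tA_eq, tB_eq, mem_R9_tp, ia, ib, i1]

omit [Finite F] in
theorem scalar_of_commute_gens {g : G9} (h : ∀ k, Commute g (gen9 hl k)) : g ∈ scalars I9 F := by
  have ha := congrArg (fun u : G9 => (u : M9)) (h 0).eq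
  have hb := congrArg (fun u : G9 => (u : M9)) (h 1).eq
  have hc := congrArg (fun u : G9 => (u : M9)) (h 2).eq
  have hd := congrArg (fun u : G9 => (u : M9)) (h 3).eq
  simp only [gen9, Matrix.cons_val_zero, Matrix.cons_val_one, Matrix.cons_val, tA_eq, tB_eq, Units.val_mul,
    tp_val] at ha hb hc hd
  change _ * (amat l ⊗ₖ (1 : M3)) = (amat l ⊗ₖ (1 : M3)) * _ at ha
  change _ * (bmat ⊗ₖ (1 : M3)) = (bmat ⊗ₖ (1 : M3)) * _ at hb
  change _ * ((1 : M3) ⊗ₖ amat l) = ((1 : M3) ⊗ₖ amat l) * _ at hc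
  change _ * ((1 : M3) ⊗ₖ bmat) = ((1 : M3) ⊗ₖ bmat) * _ at hd
  have slice : ∀ (X : M3) (u v : Fin 3),
      (∀ r s : I9, ((g : M9) * (X ⊗ₖ (1 : M3))) r s = ((X ⊗ₖ (1 : M3)) * (g : M9)) r s) →
      (Matrix.of fun j j' => (g : M9) (j, u) (j', v)) * X = X * Matrix.of fun j j' => (g : M9) (j, u) (j', v) := by
    intro X u v e
    ext j j'
    simpa [Matrix.mul_apply, Fintype.sum_prod_type, one_apply, mul_comm] using e (j, u) (j', v)
  have hdiag : ∀ u v, ∃ c : F, ∀ j j', (g : M9) (j, u) (j', v) = if j = j' then c else 0 := by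
    intro u v
    obtain ⟨c, hc'⟩ := (std hl).scalar_of_comm (X := Matrix.of fun j j' => (g : M9) (j, u) (j', v))
      (by rw [co_std]; exact slice _ u v fun r s => congrFun₂ ha r s)
      (by rw [co_std]; exact slice _ u v fun r s => congrFun₂ hb r s)
    refine ⟨c, fun j j' => ?_⟩
    simpa [one_apply] using congrFun₂ hc' j j'
  choose c hc' using hdiag
  obtain ⟨e, he⟩ := (std hl).scalar_of_comm (X := Matrix.of fun u v => c u v)
    (by
      rw [co_std]; ext u v
      have := congrFun₂ hc (0, u) (0, v)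
      simp [Matrix.mul_apply, Fintype.sum_prod_type, one_apply, hc'] at this
      simp only [Matrix.mul_apply, Matrix.of_apply]
      exact this)
    (by
      rw [co_std]; ext u v
      have := congrFun₂ hd (0, u) (0, v)
      simpa [Matrix.mul_apply, Fintype.sum_prod_type, one_apply, hc'] using this)
  have hg : (g : M9) = e • (1 : M9) := by
    ext r s
    obtain ⟨j, u⟩ := r; obtain ⟨j', v⟩ := s
    have := congrFun₂ he u v
    simp [one_apply] at this
    rw [hc', this]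
    by_cases h1 : j = j' <;> by_cases h2 : u = v <;> simp [h1, h2]
  have he0 : e ≠ 0 := fun e0 => g.ne_zero (by rw [hg, e0, zero_smul])
  exact (mem_scalars_iff g).2 ⟨Units.mk0 e he0, hg⟩

theorem R9_cases {g : G9} (hg : g ∈ R9 hl) : ∃ c ∈ scalars I9 F, ∃ v w : V3, g = c * tp (wd hl v, wd hl w) := by
  have hpow : ∀ k, (gen9 hl k) ^ 3 = 1 := by
    intro k
    have ha : (aG hl : G3) ^ 3 = 1 := Units.ext (by
      rw [Units.val_pow_eq_pow_val]
      show amat l ^ 3 = 1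
      rw [amat, diagonal_pow, ← diagonal_one]
      congr 1
      funext i
      fin_cases i <;> simp [hl.pow_eq_one, show (l ^ 2) ^ 3 = 1 by rw [← pow_mul, mul_comm, pow_mul, hl.pow_eq_one, one_pow]])
    have hb : (bG hl : G3) ^ 3 = 1 := Units.ext (by
      rw [Units.val_pow_eq_pow_val]
      show (bmat : M3) ^ 3 = 1
      rw [pow_three]
      ext r s; fin_cases r <;> fin_cases s <;> simp [bmat, Matrix.mul_apply, Fin.sum_univ_three])
    fin_cases k <;> simp [gen9, ← map_pow, ha, hb]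
  have key : ∀ k, ∃ i : ZMod 3, ((g * gen9 hl k * g⁻¹ * (gen9 hl k)⁻¹ : G9) : M9) = SL3.Maximal.lp l i • 1 := by
    intro k
    obtain ⟨c, hc⟩ := (mem_scalars_iff _).1 ((mem_R9_iff hl).1 hg k)
    set z := g * gen9 hl k * g⁻¹ * (gen9 hl k)⁻¹ with hz
    have hz3 : z ^ 3 = 1 := by
      have hzs : z ∈ scalars I9 F := (mem_R9_iff hl).1 hg k
      have e : (g * gen9 hl k * g⁻¹) ^ 3 = 1 := by rw [conj_pow, hpow, mul_one, mul_inv_cancel]
      have h2 : g * gen9 hl k * g⁻¹ = z * gen9 hl k := by rw [hz]; group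
      rw [h2, (commute_scalar hzs _).mul_pow, hpow, mul_one] at e
      exact e
    have hc3 : (c : F) ^ 3 = 1 := by
      have := congrArg (fun u : G9 => (u : M9) ((0, 0) : I9) ((0, 0) : I9)) hz3
      simpa [hc, smul_pow] using this
    obtain ⟨n, hn, hnc⟩ := Extra27.eq_pow_of_cube hl hc3
    exact ⟨(n : ZMod 3), by rw [hc, SL3.Maximal.lp, ZMod.val_natCast, Nat.mod_eq_of_lt hn, hnc]⟩
  choose i hi using key
  set w := tp (wd hl (i 0, i 1), wd hl (i 2, i 3)) with hw
  have hwR : w ∈ R9 hl := (mem_R9_tp hl).2 ⟨inR_wd hl _, inR_wd hl _⟩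
  have hwi : ∀ k, ((w * gen9 hl k * w⁻¹ * (gen9 hl k)⁻¹ : G9) : M9) = SL3.Maximal.lp l (i k) • 1 := by
    have key3 : ∀ (x z : G3) (t : ZMod 3), (x : M3) * (z : M3) = SL3.Maximal.lp l t • ((z : M3) * x) →
        ((x * z * x⁻¹ * z⁻¹ : G3) : M3) = SL3.Maximal.lp l t • 1 := by
      intro x z t e
      rw [Units.val_mul, Units.val_mul, Units.val_mul, e, smul_mul_assoc, smul_mul_assoc, mul_assoc (z : M3),
        Units.mul_inv, mul_one, Units.mul_inv]
    have hA : ∀ (v1 v2 : V3) (z : G3) (t : ZMod 3),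
        ((wd hl v1 * z * (wd hl v1)⁻¹ * z⁻¹ : G3) : M3) = SL3.Maximal.lp l t • 1 →
        ((tp (wd hl v1, wd hl v2) * tA z * (tp (wd hl v1, wd hl v2))⁻¹ * (tA z)⁻¹ : G9) : M9) =
          SL3.Maximal.lp l t • 1 := by
      intro v1 v2 z t e
      rw [tA_eq, ← map_inv, ← map_inv, ← map_mul, ← map_mul, ← map_mul,
        show ((wd hl v1, wd hl v2) * (z, 1) * (wd hl v1, wd hl v2)⁻¹ * (z, 1)⁻¹ : G3 × G3) =
          (wd hl v1 * z * (wd hl v1)⁻¹ * z⁻¹, 1) by simp, tp_val, e, Units.val_one, smul_kronecker, one_kronecker_one]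
    have hB : ∀ (v1 v2 : V3) (z : G3) (t : ZMod 3),
        ((wd hl v2 * z * (wd hl v2)⁻¹ * z⁻¹ : G3) : M3) = SL3.Maximal.lp l t • 1 →
        ((tp (wd hl v1, wd hl v2) * tB z * (tp (wd hl v1, wd hl v2))⁻¹ * (tB z)⁻¹ : G9) : M9) =
          SL3.Maximal.lp l t • 1 := by
      intro v1 v2 z t e
      rw [tB_eq, ← map_inv, ← map_inv, ← map_mul, ← map_mul, ← map_mul,
        show ((wd hl v1, wd hl v2) * (1, z) * (wd hl v1, wd hl v2)⁻¹ * (1, z)⁻¹ : G3 × G3) =
          (1, wd hl v2 * z * (wd hl v2)⁻¹ * z⁻¹) by simp, tp_val, e, Units.val_one, kronecker_smul, one_kronecker_one]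
    intro k
    fin_cases k
    · exact hA _ _ _ _ (key3 _ _ _ (rel_wd hl (i 0, i 1)).1)
    · exact hA _ _ _ _ (key3 _ _ _ (rel_wd hl (i 0, i 1)).2)
    · exact hB _ _ _ _ (key3 _ _ _ (rel_wd hl (i 2, i 3)).1)
    · exact hB _ _ _ _ (key3 _ _ _ (rel_wd hl (i 2, i 3)).2)
  refine ⟨g * w⁻¹, scalar_of_commute_gens hl fun k => ?_, (i 0, i 1), (i 2, i 3), by rw [← hw]; group⟩
  have e : g * gen9 hl k * g⁻¹ * (gen9 hl k)⁻¹ = w * gen9 hl k * w⁻¹ * (gen9 hl k)⁻¹ :=
    Units.ext ((hi k).trans (hwi k).symm)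
  have e' := mul_right_cancel e
  have hs := (mem_R9_iff hl).1 hwR k
  set A := gen9 hl k
  show g * w⁻¹ * A = A * (g * w⁻¹)
  have hsw : w⁻¹ * A * w = (w * A * w⁻¹ * A⁻¹)⁻¹ * A := by
    set s := w * A * w⁻¹ * A⁻¹ with hs'
    calc w⁻¹ * A * w = w⁻¹ * (s⁻¹ * (w * A * w⁻¹)) * w := by rw [hs']; group
      _ = s⁻¹ * (w⁻¹ * (w * A * w⁻¹) * w) := by
          rw [← mul_assoc w⁻¹, ← (commute_scalar (inv_mem hs) w⁻¹).eq]; group
      _ = s⁻¹ * A := by group
  calc g * w⁻¹ * A = g * (w⁻¹ * A * w) * w⁻¹ := by group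
    _ = (w * A * w⁻¹ * A⁻¹)⁻¹ * (g * A * g⁻¹) * g * w⁻¹ := by
        rw [hsw, ← mul_assoc g, ← (commute_scalar (inv_mem hs) g).eq]; group
    _ = A * (g * w⁻¹) := by rw [e']; group

theorem mem_N9 {g : G9} (h : ∀ k, g * gen9 hl k * g⁻¹ ∈ R9 hl) : g ∈ N9 hl := by
  have hm : ∀ k, gen9 hl k ∈ (R9 hl).comap (MulAut.conj g).toMonoidHom := h
  have hw : ∀ v : V3, tA (wd hl v) ∈ (R9 hl).comap (MulAut.conj g).toMonoidHom := fun v => by
    rw [wd, word, map_mul, map_pow, map_pow]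
    exact mul_mem (pow_mem (hm 0) _) (pow_mem (hm 1) _)
  have hw' : ∀ v : V3, tB (wd hl v) ∈ (R9 hl).comap (MulAut.conj g).toMonoidHom := fun v => by
    rw [wd, word, map_mul, map_pow, map_pow]
    exact mul_mem (pow_mem (hm 2) _) (pow_mem (hm 3) _)
  have hle : R9 hl ≤ (R9 hl).comap (MulAut.conj g).toMonoidHom := fun x hx => by
    obtain ⟨c, hc, v, w, rfl⟩ := R9_cases hl hx
    rw [tp_eq]
    refine mul_mem ?_ (mul_mem (hw v) (hw' w))
    show g * c * g⁻¹ ∈ R9 hl
    exact scalars_le_R9 hl ((scalars_normal (ι := I9) (F := F)).conj_mem _ hc g)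
  haveI : Finite G9 := inferInstance
  rw [← Subgroup.map_le_iff_le_comap] at hle
  have heq := Subgroup.eq_of_le_of_card_ge hle
    (Nat.card_congr ((R9 hl).equivMapOfInjective _ (MulAut.conj g).injective).toEquiv).le
  refine Subgroup.mem_normalizer_iff.2 fun x => ⟨fun hx => ?_, fun hx => ?_⟩
  · exact hle ⟨x, hx, rfl⟩
  · rw [← heq] at hx
    obtain ⟨y, hy, e⟩ := hx
    exact (MulAut.conj g).injective e ▸ hy

theorem tp_mem_N9 {x y : G3} (hx : x ∈ subgroupNormalizer (H3 hl)) (hy : y ∈ subgroupNormalizer (H3 hl)) :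
    (tp (x, y) : G9) ∈ N9 hl := by
  refine mem_N9 hl fun k => ?_
  have ia : InR hl (aG hl) := ⟨_, rel_a⟩
  have ib : InR hl (bG hl) := ⟨_, rel_b⟩
  have i1 : InR hl (1 : G3) := inR_scalar hl (one_mem _)
  fin_cases k <;> simp only [gen9] <;> simp [tA_eq, tB_eq, ← map_inv, ← map_mul, mem_R9_tp, i1, conj_gens hl hx ia,
    conj_gens hl hx ib, conj_gens hl hy ia, conj_gens hl hy ib]

theorem sw_mem_N9 : (sw : G9) ∈ N9 hl := by
  refine mem_N9 hl fun k => ?_
  fin_cases k <;> simp [gen9, sw_conj_tA, sw_conj_tB]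
  exacts [gen9_mem hl 2, gen9_mem hl 3, gen9_mem hl 0, gen9_mem hl 1]

end CfsgLib.Geo.Nine
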