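import Cfsg.Agent.Lib.Geo.Nine.Frame

/-!
# Monomial elements: diagonal phases and affine permutations of the nine coordinates
-/

set_option autoImplicit false
set_option maxHeartbeats 1000000

namespace CfsgLib.Geo.Nine

open Matrix Cfsg.Geo
open scoped Kronecker
open CfsgLib.Geo.Extra27 (amat bmat Heis)
open CfsgLib.Geo.SL3.Maximal

variable {F : Type*} [Field F] {l : F}

local notation "M9" => Matrix I9 I9 F
local notation "G9" => GL I9 F

/-- An affine map on the nine indices. -/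
def IsAff {A : Type*} [AddCommGroup A] (f : I9 → A) : Prop := ∀ x y, f (x + y) + f 0 = f x + f y

theorem IsAff.symm {π : Equiv.Perm I9} (h : IsAff π) : IsAff π.symm := fun x y => by
  have key : ∀ s t, π (s + t) = π s + π t - π 0 := fun s t => eq_sub_of_add_eq (h s t)
  apply π.injective
  rw [key, key, Equiv.apply_symm_apply, Equiv.apply_symm_apply, Equiv.apply_symm_apply, Equiv.apply_symm_apply]
  abel

theorem IsAff.comp {A : Type*} [AddCommGroup A] {f : I9 → A} (hf : IsAff f) {π : Equiv.Perm I9} (h : IsAff π) :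
    IsAff (f ∘ π) := fun x y => by
  have key : ∀ s t, f (s + t) = f s + f t - f 0 := fun s t => eq_sub_of_add_eq (hf s t)
  have e := congrArg f (h x y)
  rw [key, key] at e
  exact sub_left_inj.1 e

/-- The affine permutation with given origin and columns. -/
def affFun (P d e x : I9) : I9 := (P.1 + x.1 * d.1 + x.2 * e.1, P.2 + x.1 * d.2 + x.2 * e.2)

theorem fin3_aff : ∀ P d e a b a' b' : Fin 3,
    P + (a + a') * d + (b + b') * e + (P + 0 * d + 0 * e) = P + a * d + b * e + (P + a' * d + b' * e) := by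
  decide +kernel

theorem isAff_affFun (P d e : I9) : IsAff (affFun P d e) := fun x y =>
  Prod.ext (fin3_aff _ _ _ _ _ _ _) (fin3_aff _ _ _ _ _ _ _)

theorem affFun_bijective (P d e : I9) (h : d.1 * e.2 - d.2 * e.1 ≠ 0) : Function.Bijective (affFun P d e) := by
  have key : ∀ d1 d2 e1 e2 a b : Fin 3, d1 * e2 - d2 * e1 ≠ 0 → a * d1 + b * e1 = 0 → a * d2 + b * e2 = 0 →
      a = 0 ∧ b = 0 := by decide +kernel
  have inj : Function.Injective (affFun P d e) := by
    intro x y hxy
    have h1 := congrArg Prod.fst hxy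
    have h2 := congrArg Prod.snd hxy
    simp only [affFun] at h1 h2
    have lin : ∀ P a b a' b' d e : Fin 3, P + a * d + b * e = P + a' * d + b' * e →
        (a - a') * d + (b - b') * e = 0 := by decide +kernel
    obtain ⟨u, v⟩ := key _ _ _ _ _ _ h (lin _ _ _ _ _ _ _ h1) (lin _ _ _ _ _ _ _ h2)
    exact Prod.ext (sub_eq_zero.1 u) (sub_eq_zero.1 v)
  exact Finite.injective_iff_bijective.1 inj

/-- The affine permutation. -/
noncomputable def aff (P d e : I9) (h : d.1 * e.2 - d.2 * e.1 ≠ 0) : Equiv.Perm I9 :=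
  Equiv.ofBijective _ (affFun_bijective P d e h)

theorem aff_apply (P d e x : I9) (h : d.1 * e.2 - d.2 * e.1 ≠ 0) : aff P d e h x = affFun P d e x := rfl

theorem isAff_aff (P d e : I9) (h : d.1 * e.2 - d.2 * e.1 ≠ 0) : IsAff (aff P d e h) := isAff_affFun P d e

theorem exists_aff {P Q : I9} (hPQ : P ≠ Q) :
    ∃ π : Equiv.Perm I9, IsAff π ∧ π (0, 0) = P ∧ π (1, 0) = Q := by
  have key : ∀ d : I9, d ≠ 0 → ∃ e : I9, d.1 * e.2 - d.2 * e.1 ≠ 0 := by decide +kernel
  obtain ⟨e, he⟩ := key (Q - P) (sub_ne_zero.2 hPQ.symm)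
  have h0 : ∀ P d e : Fin 3, P + 0 * d + 0 * e = P ∧ P + 1 * (d - P) + 0 * e = d := by decide +kernel
  refine ⟨aff P (Q - P) e he, isAff_aff _ _ _ he, ?_, ?_⟩
  · exact Prod.ext (h0 _ _ _).1 (h0 _ _ _).1
  · exact Prod.ext (h0 _ _ _).2 (h0 _ _ _).2

variable (hl : IsPrimitiveRoot l 3)
include hl

/-- A diagonal element with entries powers of the root. -/
def dg (f : I9 → Fin 3) : G9 :=
  ⟨diagonal fun x => l ^ (f x : ℕ), diagonal fun x => l ^ ((-f x : Fin 3) : ℕ), by
    rw [diagonal_mul_diagonal, ← diagonal_one]; congr 1; funext x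
    rw [← pow_add]
    generalize f x = i
    rw [show ((i : ℕ) + ((-i : Fin 3) : ℕ)) = 3 * (if i = 0 then 0 else 1) by revert i; decide, pow_mul,
      hl.pow_eq_one, one_pow], by
    rw [diagonal_mul_diagonal, ← diagonal_one]; congr 1; funext x
    rw [← pow_add]
    generalize f x = i
    rw [show (((-i : Fin 3) : ℕ) + (i : ℕ)) = 3 * (if i = 0 then 0 else 1) by revert i; decide, pow_mul,
      hl.pow_eq_one, one_pow]⟩

theorem dg_apply (f : I9 → Fin 3) (r c : I9) :
    ((dg hl f : G9) : M9) r c = if r = c then l ^ (f r : ℕ) else 0 := by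
  show diagonal _ r c = _
  rw [diagonal_apply]

theorem dg_add (f g : I9 → Fin 3) : (dg hl (f + g) : G9) = dg hl f * dg hl g := Units.ext (by
  rw [Units.val_mul]
  show diagonal _ = diagonal _ * diagonal _
  rw [diagonal_mul_diagonal]
  congr 1; funext x
  rw [Pi.add_apply, ← pow_add, Fin.val_add, ← pow_eq_pow_mod _ hl.pow_eq_one])

theorem dg_neg (f : I9 → Fin 3) : (dg hl (-f) : G9) = (dg hl f)⁻¹ := by
  rw [eq_inv_iff_mul_eq_one, ← dg_add, neg_add_cancel]
  exact Units.ext (by show diagonal _ = _; rw [Units.val_one, ← diagonal_one]; congr 1; funext x; simp)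

theorem dg_sub (f g : I9 → Fin 3) : (dg hl (f - g) : G9) = dg hl f * (dg hl g)⁻¹ := by
  rw [sub_eq_add_neg, dg_add, dg_neg]

theorem dg_const (c : Fin 3) : (dg hl fun _ => c : G9) ∈ scalars I9 F :=
  (mem_scalars_iff _).2 ⟨Units.mk0 (l ^ (c : ℕ)) (pow_ne_zero _ (hl.ne_zero (by norm_num))),
    by rw [smul_one_eq_diagonal]; rfl⟩

theorem pr_conj_dg (π : Equiv.Perm I9) (f : I9 → Fin 3) : (pr π * dg hl f * (pr π)⁻¹ : G9) = dg hl (f ∘ π.symm) :=
  Units.ext (by
    ext r c
    rw [pr_conj, dg_apply, dg_apply]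
    simp)

theorem tA_aG : (tA (aG hl) : G9) = dg hl fun x => x.1 := Units.ext (by
  ext r c
  rw [tA_eq, tp_apply, dg_apply, Units.val_one]
  show amat l r.1 c.1 * (1 : Matrix (Fin 3) (Fin 3) F) r.2 c.2 = _
  obtain ⟨j, u⟩ := r; obtain ⟨j', v⟩ := c
  by_cases h2 : u = v
  · subst h2; fin_cases j <;> fin_cases j' <;> simp [amat, one_apply]
  · simp [h2, one_apply])

theorem tA_bG : (tA (bG hl) : G9) = pr (Equiv.addRight ((1, 0) : I9)) := Units.ext (by
  ext r c
  rw [tA_eq, tp_apply, pr_apply, Units.val_one]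
  show (bmat : Matrix (Fin 3) (Fin 3) F) r.1 c.1 * (1 : Matrix (Fin 3) (Fin 3) F) r.2 c.2 = _
  obtain ⟨j, u⟩ := r; obtain ⟨j', v⟩ := c
  fin_cases j <;> fin_cases j' <;> fin_cases u <;> fin_cases v <;> simp [bmat, Prod.ext_iff] <;> decide)

theorem tB_aG : (tB (aG hl) : G9) = dg hl fun x => x.2 := by
  rw [← sw_conj_tA, tA_aG, sw, pr_conj_dg]
  rfl

theorem tB_bG : (tB (bG hl) : G9) = pr (Equiv.addRight ((0, 1) : I9)) := by
  rw [← sw_conj_tA, tA_bG, sw, ← map_inv, ← map_mul, ← map_mul]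
  congr 1

variable [Finite F]

omit [Finite F] in
theorem dg_comm (f g : I9 → Fin 3) : Commute (dg hl f : G9) (dg hl g) := by
  show _ = _
  rw [← dg_add, ← dg_add, add_comm]

theorem dg_mem_R9 {f : I9 → Fin 3} (hf : IsAff f) : (dg hl f : G9) ∈ R9 hl := by
  have hd : ∀ g, dg hl f * dg hl g * (dg hl f)⁻¹ * (dg hl g)⁻¹ ∈ scalars I9 F := fun g => by
    rw [(dg_comm hl f g).eq, mul_inv_cancel_right, mul_inv_cancel]; exact one_mem _
  have ht : ∀ u, dg hl f * pr (Equiv.addRight u) * (dg hl f)⁻¹ * (pr (Equiv.addRight u))⁻¹ ∈ scalars I9 F := fun u => by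
    rw [show dg hl f * pr (Equiv.addRight u) * (dg hl f)⁻¹ * (pr (Equiv.addRight u))⁻¹ =
      dg hl f * (pr (Equiv.addRight u) * dg hl f * (pr (Equiv.addRight u))⁻¹)⁻¹ by group, pr_conj_dg, ← dg_sub]
    convert dg_const hl (f u - f 0) using 2
    funext x
    have := hf (x + -u) u
    simp only [Pi.sub_apply, Function.comp_apply, Equiv.addRight_symm, Equiv.coe_addRight]
    rw [neg_add_cancel_right] at this
    linear_combination (norm := abel) this
  rw [mem_R9_iff]
  intro k
  fin_cases k <;> simp [gen9, tA_aG, tA_bG, tB_aG, tB_bG, hd, ht]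

theorem tr_mem_R9 (u : I9) : (pr (Equiv.addRight u) : G9) ∈ R9 hl := by
  have hd : ∀ g : I9 → Fin 3, IsAff g →
      pr (Equiv.addRight u) * dg hl g * (pr (Equiv.addRight u))⁻¹ * (dg hl g)⁻¹ ∈ scalars I9 F := fun g hg => by
    rw [pr_conj_dg, ← dg_sub]
    convert dg_const hl (g 0 - g u) using 2
    funext x
    have := hg (x + -u) u
    simp only [Pi.sub_apply, Function.comp_apply, Equiv.addRight_symm, Equiv.coe_addRight]
    rw [neg_add_cancel_right] at this
    linear_combination (norm := abel) -this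
  have ht : ∀ v, pr (Equiv.addRight u) * pr (Equiv.addRight v) * (pr (Equiv.addRight u))⁻¹ *
      (pr (Equiv.addRight v))⁻¹ ∈ scalars I9 F := fun v => by
    rw [← map_inv, ← map_inv, ← map_mul, ← map_mul, ← map_mul,
      show Equiv.addRight u * Equiv.addRight v * (Equiv.addRight u)⁻¹ * (Equiv.addRight v)⁻¹ = 1 by
        ext x <;> simp [Equiv.Perm.inv_def] <;> abel, map_one]
    exact one_mem _
  rw [mem_R9_iff]
  intro k
  fin_cases k
  · simpa [gen9, tA_aG] using hd _ (fun x y => by simp)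
  · simpa [gen9, tA_bG] using ht _
  · simpa [gen9, tB_aG] using hd _ (fun x y => by simp)
  · simpa [gen9, tB_bG] using ht _

theorem pr_mem_N9 {π : Equiv.Perm I9} (hπ : IsAff π) : (pr π : G9) ∈ N9 hl := by
  have ht : ∀ u, pr π * pr (Equiv.addRight u) * (pr π)⁻¹ = (pr (Equiv.addRight (π u - π 0)) : G9) := fun u => by
    rw [← map_inv, ← map_mul, ← map_mul]
    congr 1
    refine Equiv.ext fun x => ?_
    have := hπ (π.symm x) u
    rw [Equiv.apply_symm_apply] at this
    simp only [Equiv.Perm.mul_apply, Equiv.Perm.inv_def, Equiv.coe_addRight]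
    linear_combination (norm := abel) this
  refine mem_N9 hl fun k => ?_
  fin_cases k
  · simpa [gen9, tA_aG, pr_conj_dg] using dg_mem_R9 hl ((show IsAff (fun x : I9 => x.1) from fun x y => by simp).comp hπ.symm)
  · simpa [gen9, tA_bG, ht] using tr_mem_R9 hl _
  · simpa [gen9, tB_aG, pr_conj_dg] using dg_mem_R9 hl ((show IsAff (fun x : I9 => x.2) from fun x y => by simp).comp hπ.symm)
  · simpa [gen9, tB_bG, ht] using tr_mem_R9 hl _

end CfsgLib.Geo.Nine
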