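import Cfsg.Agent.Lib.Geo.Nine.Mono
import Cfsg.Agent.Lib.Classical.SLGroup

/-!
# Overgroups of the normaliser containing independent block elements
-/

set_option autoImplicit false
set_option maxHeartbeats 1000000

namespace CfsgLib.Geo.Nine

open Matrix Cfsg.Geo
open scoped Kronecker
open CfsgLib.Geo.Extra27 (amat bmat jmat Heis)
open CfsgLib.Geo.SL3.Maximal
open CfsgLib.Geo.SympNorm (commute_scalar)

variable {F : Type*} [Field F] {l : F}

local notation "M3" => Matrix (Fin 3) (Fin 3) F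
local notation "G3" => GL (Fin 3) F
local notation "V3" => ZMod 3 × ZMod 3
local notation "M9" => Matrix I9 I9 F
local notation "G9" => GL I9 F

/-- A root element. -/
def tv (r c : I9) (h : r ≠ c) (t : F) : G9 :=
  Matrix.SpecialLinearGroup.toGL ⟨Matrix.transvection r c t, Matrix.det_transvection_of_ne r c h t⟩

theorem tv_apply {r c : I9} (h : r ≠ c) (t : F) (x y : I9) :
    ((tv r c h t : G9) : M9) x y = (if x = y then 1 else 0) + if x = r ∧ y = c then t else 0 := by
  show Matrix.transvection r c t x y = _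
  simp [Matrix.transvection, Matrix.single_apply, one_apply, eq_comm (a := r), eq_comm (a := c)]

theorem pr_conj_tv (π : Equiv.Perm I9) {r c : I9} (h : r ≠ c) (t : F) :
    (pr π * tv r c h t * (pr π)⁻¹ : G9) = tv (π r) (π c) (π.injective.ne h) t := Units.ext (by
  ext x y
  rw [pr_conj, tv_apply, tv_apply]
  simp [Equiv.symm_apply_eq])

theorem exists_aff2 {P Q P' Q' : I9} (h : P ≠ Q) (h' : P' ≠ Q') :
    ∃ π : Equiv.Perm I9, IsAff π ∧ π P = P' ∧ π Q = Q' := by
  obtain ⟨π₁, h1, a1, b1⟩ := exists_aff h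
  obtain ⟨π₂, h2, a2, b2⟩ := exists_aff h'
  exact ⟨π₁.symm.trans π₂, h2.comp h1.symm, by simp [← a1, a2], by simp [← b1, b2]⟩

variable (hl : IsPrimitiveRoot l 3)

/-- The hypotheses on the overgroup. -/
structure Ctx (M : Subgroup G9) : Prop where
  /-- It contains the scalars. -/
  sc : scalars I9 F ≤ M
  /-- It contains the normaliser elements of determinant one up to sign. -/
  nn : ∀ g ∈ N9 hl, (g : M9).det = 1 ∨ (g : M9).det = -1 → g ∈ M

include hl
variable [Finite F] {M : Subgroup (GL I9 F)}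

theorem Ctx.pr_mem (h : Ctx hl M) {π : Equiv.Perm I9} (hπ : IsAff π) : (pr π : G9) ∈ M :=
  h.nn _ (pr_mem_N9 hl hπ) (det_pr π)

theorem Ctx.sw_mem (h : Ctx hl M) : (sw : G9) ∈ M := h.nn _ (sw_mem_N9 hl) (det_pr _)

theorem good_of_closure {k : G3} (hk : k ∈ Subgroup.closure {fG hl, dG hl}) :
    k ∈ subgroupNormalizer (H3 hl) ∧ (k : M3).det ^ 3 = 1 := by
  have hle : Subgroup.closure ({fG hl, dG hl} : Set G3) ≤
      subgroupNormalizer (H3 hl) ⊓ ((powMonoidHom 3).comp (Matrix.GeneralLinearGroup.det (n := Fin 3) (R := F))).ker := by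
    rw [Subgroup.closure_le]
    rintro x (rfl | rfl)
    · refine ⟨(fG_mem hl).1, MonoidHom.mem_ker.2 ?_⟩
      simp [MonoidHom.mem_ker.1 (fG_mem hl).2]
    · exact ⟨dG_mem hl, MonoidHom.mem_ker.2 (Units.ext (by simpa using det_dG hl))⟩
  obtain ⟨h1, h2⟩ := hle hk
  exact ⟨h1, by simpa using congrArg Units.val (MonoidHom.mem_ker.1 h2)⟩

theorem Ctx.tp_mem (h : Ctx hl M) {x y : G3} (hx : x ∈ subgroupNormalizer (H3 hl))
    (hy : y ∈ subgroupNormalizer (H3 hl)) (dx : (x : M3).det ^ 3 = 1) (dy : (y : M3).det ^ 3 = 1) :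
    (tp (x, y) : G9) ∈ M :=
  h.nn _ (tp_mem_N9 hl hx hy) (Or.inl (by rw [det_tp, dx, dy, one_mul]))

theorem Ctx.tA_mem (h : Ctx hl M) {x : G3} (hx : x ∈ subgroupNormalizer (H3 hl)) (dx : (x : M3).det ^ 3 = 1) :
    (tA x : G9) ∈ M := h.tp_mem hl hx (one_mem _) dx (by simp)

theorem Ctx.tB_mem (h : Ctx hl M) {x : G3} (hx : x ∈ subgroupNormalizer (H3 hl)) (dx : (x : M3).det ^ 3 = 1) :
    (tB x : G9) ∈ M := h.tp_mem hl (one_mem _) hx (by simp) dx

theorem h3_le : H3 hl ≤ subgroupNormalizer (H3 hl) := Subgroup.le_normalizer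

theorem det_H3 {x : G3} (hx : x ∈ H3 hl) : (x : M3).det = 1 := (std hl).det_eq_one x hx

/-- A subgroup containing the lifts, the two generators and the scalars contains the normaliser. -/
theorem normalizer_le {H : Subgroup G3} (hf : fG hl ∈ H) (hd : dG hl ∈ H) (ha : aG hl ∈ H) (hb : bG hl ∈ H)
    (hs : scalars (Fin 3) F ≤ H) : subgroupNormalizer (H3 hl) ≤ H := fun g hg => by
  obtain ⟨k, hk, e, hkc⟩ := exists_lift hl (chiN hl ⟨g, hg⟩)
  have hi : InR hl (g * k⁻¹) := by
    refine inR_of_chi hl (mul_mem hg (inv_mem hk)) ?_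
    show chiN hl (⟨g, hg⟩ * ⟨k, hk⟩⁻¹) = 1
    rw [map_mul, map_inv, e, mul_inv_cancel]
  obtain ⟨v, hv⟩ := hi
  obtain ⟨c, hc, e'⟩ := exists_scalar_wd hl hv
  have hwd : wd hl v ∈ H := mul_mem (pow_mem ha _) (pow_mem hb _)
  rw [show g = g * k⁻¹ * k by group, e']
  exact mul_mem (mul_mem (hs hc) hwd) ((Subgroup.closure_le H).2 (by rintro x (rfl | rfl) <;> assumption) hkc)

/-- A group containing the normaliser but not inside it contains the special linear group. -/
theorem big [Fintype F] (hp : (Fintype.card F).Prime) (hp3 : Fintype.card F % 3 = 1) {H : Subgroup G3}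
    (hN : subgroupNormalizer (H3 hl) ≤ H) (hne : ¬ H ≤ subgroupNormalizer (H3 hl)) :
    specialLinear (Fin 3) F ≤ H := by
  obtain ⟨-, hmax⟩ := hess_max hl hp hp3
  rcases hmax (H ⊓ specialLinear (Fin 3) F) (inf_le_inf_right _ hN) inf_le_right with e | e
  · exfalso
    refine hne fun g hg => ?_
    have hnorm : ∀ k ∈ subgroupNormalizer (H3 hl) ⊓ specialLinear (Fin 3) F, ∀ h ∈ H,
        h * k * h⁻¹ ∈ subgroupNormalizer (H3 hl) ⊓ specialLinear (Fin 3) F := fun k hk h hh => by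
      rw [← e] at hk ⊢
      exact Subgroup.mem_inf.2 ⟨mul_mem (mul_mem hh hk.1) (inv_mem hh), (MonoidHom.normal_ker _).conj_mem _ hk.2 h⟩
    have key : ∀ x ∈ H3 hl, InR hl (g * x * g⁻¹) := by
      intro x hx
      have hy : g * x * g⁻¹ ∈ subgroupNormalizer (H3 hl) :=
        (hnorm x ⟨h3_le hl hx, le_specialLinear (std hl) hx⟩ g hg).1
      have hy3 : InR hl ((g * x * g⁻¹) ^ 3) := by
        rw [conj_pow]
        obtain ⟨v, hv⟩ := exists_rel (h := std hl) hx
        have h3v := hv.pow 3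
        rw [v3_three] at h3v
        exact inR_scalar hl ((scalars_normal (ι := Fin 3) (F := F)).conj_mem _ h3v.scalar g)
      have hc : ∀ k ∈ subgroupNormalizer (H3 hl) ⊓ specialLinear (Fin 3) F,
          InR hl (g * x * g⁻¹ * (k * (g * x * g⁻¹) * k⁻¹) * (g * x * g⁻¹)⁻¹ * (k * (g * x * g⁻¹) * k⁻¹)⁻¹) := by
        intro k hk
        have hk' := (hnorm k hk g⁻¹ (inv_mem hg)).1
        obtain ⟨v, hv⟩ := exists_rel (h := std hl) hx
        have hw : Rel (std hl) (g⁻¹ * k * g⁻¹⁻¹ * x * (g⁻¹ * k * g⁻¹⁻¹)⁻¹) _ := rel_conj_chi hl hk' hv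
        have h0 := ((hv.mul hw).mul hv.inv).mul hw.inv
        rw [add_neg_cancel_comm, add_neg_cancel] at h0
        refine inR_scalar hl ?_
        convert (scalars_normal (ι := Fin 3) (F := F)).conj_mem _ h0.scalar g using 1
        group
      exact inR_of_abelian hl hy hy3 (hc _ (fG_mem hl)) (hc _ (gG_mem hl))
    exact mem_normalizer hl (key _ (std hl).aR) (key _ (std hl).bR)
  · exact e.ge.trans inf_le_left

/-- One root group gives the special linear group. -/
theorem Ctx.sl_of_root (h : Ctx hl M) {P Q : I9} (hPQ : P ≠ Q) (hr : ∀ t, (tv P Q hPQ t : G9) ∈ M) :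
    specialLinear I9 F ≤ M := by
  intro g hg
  have htop := CfsgLib.Classical.closure_transvection_eq_top
    (M.comap (Matrix.SpecialLinearGroup.toGL (n := I9) (R := F))) fun a b hab t => by
      obtain ⟨π, hπ, rfl, rfl⟩ := exists_aff2 hPQ hab
      rw [Subgroup.mem_comap]
      have := mul_mem (mul_mem (h.pr_mem hl hπ) (hr t)) (inv_mem (h.pr_mem hl hπ))
      rw [pr_conj_tv] at this
      exact this
  have hdet : (g : M9).det = 1 := by
    have := congrArg Units.val (MonoidHom.mem_ker.1 hg)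
    simpa using this
  let g' : Matrix.SpecialLinearGroup I9 F := ⟨(g : M9), hdet⟩
  have hm : g' ∈ M.comap (Matrix.SpecialLinearGroup.toGL (n := I9) (R := F)) := htop ▸ Subgroup.mem_top _
  convert Subgroup.mem_comap.1 hm using 1
  exact Units.ext rfl

/-- A unipotent element of rank one. -/
def El (M : Subgroup G9) (u v : I9 → F) : Prop := ∃ y ∈ M, ((y : G9) : M9) = 1 + Matrix.vecMulVec u v

omit hl [Finite F] in
theorem El.div {u u' v v' : I9 → F} (h : El M u v) (h' : El M u' v') (h0 : v ⬝ᵥ u' = 0) (h0' : v' ⬝ᵥ u' = 0) :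
    ∃ y ∈ M, ((y : G9) : M9) = 1 + Matrix.vecMulVec u v - Matrix.vecMulVec u' v' := by
  obtain ⟨y, hy, e⟩ := h
  obtain ⟨y', hy', e'⟩ := h'
  refine ⟨y * y'⁻¹, mul_mem hy (inv_mem hy'), ?_⟩
  have hi : ((y'⁻¹ : G9) : M9) = 1 - Matrix.vecMulVec u' v' := by
    refine Units.inv_eq_of_mul_eq_one_right ?_
    rw [e', mul_sub, mul_one, add_mul, one_mul, vecMulVec_mul_vecMulVec, h0']
    simp
  rw [Units.val_mul, e, hi, mul_sub, mul_one, add_mul, one_mul, vecMulVec_mul_vecMulVec, h0]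
  simp

omit [Finite F] in
theorem El.dg_conj {u v : I9 → F} (h : El M u v) {f : I9 → Fin 3} (hf : dg hl f ∈ M) :
    El M (fun x => l ^ (f x : ℕ) * u x) (fun x => v x * l ^ ((-f x : Fin 3) : ℕ)) := by
  obtain ⟨y, hy, e⟩ := h
  refine ⟨dg hl f * y * (dg hl f)⁻¹, mul_mem (mul_mem hf hy) (inv_mem hf), ?_⟩
  rw [← dg_neg, Units.val_mul, Units.val_mul, e, mul_add, mul_one, add_mul, ← Units.val_mul, ← dg_add, add_neg_cancel]
  congr 1
  · show diagonal _ = _
    rw [← diagonal_one]; congr 1; funext x; simp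
  · ext r c
    show ((diagonal fun x => l ^ (f x : ℕ)) * vecMulVec u v * diagonal fun x => l ^ ((-f x : Fin 3) : ℕ) : M9) r c = _
    rw [mul_diagonal, diagonal_mul, vecMulVec_apply, vecMulVec_apply]
    ring

theorem update_prod (f : Fin 3 → G3) :
    f = Function.update (1 : Fin 3 → G3) 0 (f 0) * Function.update (1 : Fin 3 → G3) 1 (f 1) * Function.update (1 : Fin 3 → G3) 2 (f 2) := by
  funext i
  fin_cases i <;> simp

/-- A three cycle. -/
def cyc3 (a b c : I9) : Equiv.Perm I9 := Equiv.swap a b * Equiv.swap b c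

/-- The cycle on the first block. -/
def cyc0 : Equiv.Perm I9 := cyc3 (0, 0) (1, 0) (2, 0)

/-- The two reflections. -/
def dperm : Equiv.Perm I9 := Equiv.swap (0, 1) (0, 2) * Equiv.swap (1, 1) (2, 2)

omit hl [Finite F] in
theorem dperm_eq : dperm = cyc3 (0, 0) (0, 1) (0, 2) * cyc3 (0, 0) (1, 0) (2, 0) * cyc3 (0, 2) (2, 0) (1, 1) *
    cyc3 (0, 0) (2, 0) (1, 0) * cyc3 (0, 0) (1, 1) (2, 2) := Equiv.ext fun x => by
  clear * - x
  revert x
  decide +kernel

/-- The integral entries of the twisted embedding. -/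
def oI (x : I9) (k : Fin 3) : ℤ := (if x = (k, 1) then 1 else 0) - (if x = (-k, 2) then 1 else 0)

/-- The twisted embedding. -/
def oU : Matrix I9 (Fin 3) F := Matrix.of fun x k => (oI x k : F)

local notation "U9" => (oU : Matrix I9 (Fin 3) F)

omit hl [Finite F] in
theorem oU_sq : U9ᵀ * U9 = (2 : F) • 1 := by
  ext i j
  have key : ∀ i j : Fin 3, ∑ x : I9, oI x i * oI x j = if i = j then 2 else 0 := by clear * -; decide +kernel
  have h := congrArg (fun z : ℤ => (z : F)) (key i j)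
  simp only [Int.cast_sum, Int.cast_mul, Int.cast_ite, Int.cast_ofNat, Int.cast_zero] at h
  simpa [Matrix.mul_apply, oU, one_apply] using h

omit hl [Finite F] in
theorem psiM_mul (h2 : (2 : F) ≠ 0) (x y : M3) :
    (1 + (2⁻¹ : F) • (U9 * (x * y - 1) * U9ᵀ) : M9) =
      (1 + (2⁻¹ : F) • (U9 * (x - 1) * U9ᵀ)) * (1 + (2⁻¹ : F) • (U9 * (y - 1) * U9ᵀ)) := by
  have e : ∀ A B : M3, (U9 * A * U9ᵀ : M9) * (U9 * B * U9ᵀ) = (2 : F) • (U9 * (A * B) * U9ᵀ) := fun A B => by
    calc (U9 * A * U9ᵀ : M9) * (U9 * B * U9ᵀ) = U9 * A * (U9ᵀ * U9) * (B * U9ᵀ) := by simp only [Matrix.mul_assoc]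
      _ = _ := by rw [oU_sq]; simp [Matrix.mul_assoc]
  rw [mul_add, mul_one, add_mul, one_mul, smul_mul_smul_comm, e, smul_smul, mul_assoc, inv_mul_cancel₀ h2, mul_one,
    add_assoc, ← smul_add, ← smul_add, ← Matrix.add_mul, ← Matrix.add_mul, ← Matrix.mul_add, ← Matrix.mul_add]
  congr 5
  noncomm_ring

/-- The elements of the twisted three dimensional group. -/
noncomputable def psi (h2 : (2 : F) ≠ 0) : G3 →* G9 :=
  Units.map { toFun := fun x : M3 => (1 + (2⁻¹ : F) • (U9 * (x - 1) * U9ᵀ) : M9)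
              map_one' := by simp
              map_mul' := psiM_mul h2 }

omit hl [Finite F] in
theorem psi_val (h2 : (2 : F) ≠ 0) (x : G3) :
    ((psi h2 x : G9) : M9) = 1 + (2⁻¹ : F) • (U9 * ((x : M3) - 1) * U9ᵀ) := rfl

omit [Finite F] in
theorem intertwine {f : Fin 3 → G3} (hf : ∀ j k, (f 2 : M3) (-j) (-k) = (f 1 : M3) j k) :
    ((bd f : G9) : M9) * U9 = U9 * (f 1 : M3) ∧ U9ᵀ * ((bd f : G9) : M9) = (f 1 : M3) * U9ᵀ := by
  have e1 : ∀ (G : M3) (x : I9) (k : Fin 3), (U9 * G : Matrix I9 (Fin 3) F) x k =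
      if x.2 = 1 then G x.1 k else if x.2 = 2 then -G (-x.1) k else 0 := by
    rintro G ⟨j, i⟩ k
    fin_cases j <;> fin_cases i <;> simp [Matrix.mul_apply, oU, oI, Fin.sum_univ_three, Prod.ext_iff,
      show -(1 : Fin 3) = 2 by decide, show -(2 : Fin 3) = 1 by decide]
  have e2 : ∀ (G : M3) (k : Fin 3) (x : I9), (G * U9ᵀ : Matrix (Fin 3) I9 F) k x =
      if x.2 = 1 then G k x.1 else if x.2 = 2 then -G k (-x.1) else 0 := by
    rintro G k ⟨j, i⟩
    fin_cases j <;> fin_cases i <;> simp [Matrix.mul_apply, oU, oI, Fin.sum_univ_three, Prod.ext_iff,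
      show -(1 : Fin 3) = 2 by decide, show -(2 : Fin 3) = 1 by decide]
  constructor
  · ext x k
    rw [e1]
    have : (((bd f : G9) : M9) * U9 : Matrix I9 (Fin 3) F) x k =
        ((bd f : G9) : M9) x (k, 1) - ((bd f : G9) : M9) x (-k, 2) := by
      simp [Matrix.mul_apply, oU, oI, Int.cast_sub, Int.cast_ite, mul_sub, Finset.sum_sub_distrib]
    rw [this, bd_apply, bd_apply]
    obtain ⟨j, i⟩ := x
    fin_cases i <;> simp
    rw [← hf, neg_neg]
  · ext k x
    rw [e2]
    have : (U9ᵀ * ((bd f : G9) : M9) : Matrix (Fin 3) I9 F) k x =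
        ((bd f : G9) : M9) (k, 1) x - ((bd f : G9) : M9) (-k, 2) x := by
      simp [Matrix.mul_apply, oU, oI, Int.cast_sub, Int.cast_ite, sub_mul, Finset.sum_sub_distrib]
    rw [this, bd_apply, bd_apply]
    obtain ⟨j, i⟩ := x
    fin_cases i <;> simp
    rw [← hf, neg_neg]

omit [Finite F] in
theorem psi_conj (h2 : (2 : F) ≠ 0) {f : Fin 3 → G3} (hf : ∀ j k, (f 2 : M3) (-j) (-k) = (f 1 : M3) j k)
    (x : G3) : (bd f * psi h2 x * (bd f)⁻¹ : G9) = psi h2 (f 1 * x * (f 1)⁻¹) := by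
  obtain ⟨h1, h1'⟩ := intertwine hl hf
  rw [mul_inv_eq_iff_eq_mul]
  refine Units.ext ?_
  simp only [Units.val_mul, psi_val]
  rw [mul_add, mul_one, add_mul, one_mul, mul_smul_comm, smul_mul_assoc]
  congr 2
  rw [← Matrix.mul_assoc, ← Matrix.mul_assoc, h1, Matrix.mul_assoc (U9 * _) U9ᵀ, h1']
  simp only [Matrix.mul_assoc]
  congr 1
  rw [← Matrix.mul_assoc, ← Matrix.mul_assoc, mul_sub, sub_mul, mul_one, one_mul]
  congr 1
  simp only [Matrix.mul_assoc, Units.inv_mul, mul_one]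

omit [Finite F] in
theorem update_bd_eq_pr : (bd (Function.update (1 : Fin 3 → G3) 0 (bG hl)) : G9) = pr cyc0 := Units.ext (by
  ext r c
  rw [pr_apply, bd_apply]
  obtain ⟨j, i⟩ := r
  obtain ⟨j', i'⟩ := c
  show (if i = i' then _ else _) = _
  fin_cases i <;> fin_cases i' <;> fin_cases j <;> fin_cases j' <;>
    simp [cyc0, cyc3, bG, bmat, Equiv.swap_apply_def, Prod.ext_iff, Equiv.Perm.mul_def])

theorem Ctx.cyc_mem (h : Ctx hl M) (hc : (pr cyc0 : G9) ∈ M) (P d e : I9) (hde : d.1 * e.2 - d.2 * e.1 ≠ 0)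
    (hx : ∀ x, affFun P d e (cyc0 x) =
      cyc3 (affFun P d e (0, 0)) (affFun P d e (1, 0)) (affFun P d e (2, 0)) (affFun P d e x)) :
    (pr (cyc3 (affFun P d e (0, 0)) (affFun P d e (1, 0)) (affFun P d e (2, 0))) : G9) ∈ M := by
  have := mul_mem (mul_mem (h.pr_mem hl (isAff_aff P d e hde)) hc) (inv_mem (h.pr_mem hl (isAff_aff P d e hde)))
  rwa [← map_inv, ← map_mul, ← map_mul, show aff P d e hde * cyc0 * (aff P d e hde)⁻¹ =
    cyc3 (affFun P d e (0, 0)) (affFun P d e (1, 0)) (affFun P d e (2, 0)) by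
      rw [mul_inv_eq_iff_eq_mul]
      exact Equiv.ext fun x => hx x] at this

theorem Ctx.dperm_mem (h : Ctx hl M) (hc : (pr cyc0 : G9) ∈ M) : (pr dperm : G9) ∈ M := by
  rw [dperm_eq, map_mul, map_mul, map_mul, map_mul]
  refine mul_mem (mul_mem (mul_mem (mul_mem ?_ ?_) ?_) ?_) ?_
  · exact h.cyc_mem hl hc (0, 0) (0, 1) (1, 0) (by decide) (by clear * -; decide +kernel)
  · exact h.cyc_mem hl hc (0, 0) (1, 0) (0, 1) (by decide) (by clear * -; decide +kernel)
  · exact h.cyc_mem hl hc (0, 2) (2, 1) (0, 1) (by decide) (by clear * -; decide +kernel)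
  · exact h.cyc_mem hl hc (0, 0) (2, 0) (0, 1) (by decide) (by clear * -; decide +kernel)
  · exact h.cyc_mem hl hc (0, 0) (1, 1) (0, 1) (by decide) (by clear * -; decide +kernel)

/-- The diagonal involution used below. -/
def dD3 (_hl : IsPrimitiveRoot l 3) : G3 :=
  Matrix.GeneralLinearGroup.mkOfDetNeZero (diagonal ![-1, -1, 1] : M3) (by simp [det_diagonal, Fin.prod_univ_three])

omit [Finite F] in
theorem psi_dD3 (h2 : (2 : F) ≠ 0) : (psi h2 (dD3 hl) : G9) = pr dperm := Units.ext (by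
  ext r c
  have key : ∀ r c : I9, (if r = c then (1 : ℤ) else 0) - oI r 0 * oI c 0 - oI r 1 * oI c 1 =
      if dperm r = c then 1 else 0 := by clear * -; decide +kernel
  have inv : ∀ r : I9, dperm (dperm r) = r := by clear * -; decide +kernel
  rw [psi_val, pr_apply, show dperm.symm r = dperm r from (Equiv.symm_apply_eq _).2 (inv r).symm]
  have hk := congrArg (fun z : ℤ => (z : F)) (key r c)
  simp only [Int.cast_sub, Int.cast_mul, Int.cast_ite, Int.cast_one, Int.cast_zero] at hk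
  rw [← hk]
  have e : ((dD3 hl : G3) : M3) - 1 = diagonal ![-2, -2, 0] := by
    show (diagonal ![-1, -1, 1] : M3) - 1 = _
    rw [← diagonal_one, diagonal_sub]
    congr 1; funext i
    fin_cases i <;> norm_num
  rw [e, Matrix.add_apply, Matrix.smul_apply, Matrix.mul_apply, one_apply]
  simp only [mul_diagonal, transpose_apply, Fin.sum_univ_three, oU, Matrix.of_apply, smul_eq_mul]
  simp
  field_simp
  ring)

omit [Finite F] in
theorem psi_transvection (h2 : (2 : F) ≠ 0) (t : F) (y : G3) (hy : (y : M3) = 1 + Matrix.single 0 2 (2 * t)) :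
    ((psi h2 y : G9) : M9) = 1 + vecMulVec (fun x => t * (oI x 0 : F)) (fun x => (oI x 2 : F)) := by
  rw [psi_val, hy, add_sub_cancel_left]
  congr 1
  ext r c
  simp [Matrix.mul_apply, oU, Matrix.single_apply, Fin.sum_univ_three, vecMulVec_apply]
  field_simp

theorem dD3_not_mem (h20 : (2 : F) ≠ 0) : dD3 hl * bG hl * (dD3 hl)⁻¹ ∉ H3 hl := fun hm => by
  obtain ⟨v, hv⟩ := exists_rel (h := std hl) hm
  have h2 := hv.2
  have e : ((dD3 hl * bG hl * (dD3 hl)⁻¹ : G3) : M3) = diagonal ![-1, -1, 1] * bmat * diagonal ![-1, -1, 1] := by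
    rw [Units.val_mul, Units.val_mul]
    congr 1
    refine Units.inv_eq_of_mul_eq_one_right ?_
    show (diagonal ![-1, -1, 1] : M3) * diagonal ![-1, -1, 1] = 1
    rw [diagonal_mul_diagonal, ← diagonal_one]
    congr 1
    funext i
    fin_cases i <;> simp
  rw [e] at h2
  change diagonal ![-1, -1, 1] * bmat * diagonal ![-1, -1, 1] * bmat = SL3.Maximal.lp l v.2 • (bmat * _) at h2
  have a := congrFun₂ h2 0 1
  have b := congrFun₂ h2 1 2
  have c := congrFun₂ h2 2 0
  simp [bmat, Matrix.mul_apply, Matrix.vecMul, dotProduct, Fin.sum_univ_three, diagonal] at a b c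
  have h3' : (SL3.Maximal.lp l v.2) ^ 3 = 1 := by
    rw [SL3.Maximal.lp, ← pow_mul, mul_comm, pow_mul, hl.pow_eq_one, one_pow]
  exact h20 (by linear_combination a + b)

theorem Ctx.normalizer_twisted [Fintype F] (hp : (Fintype.card F).Prime) (hp3 : Fintype.card F % 3 = 1) (h : Ctx hl M)
    (h2 : (2 : F) ≠ 0) (hbd : ∀ f : Fin 3 → G3, (∀ i, f i ∈ H3 hl) → (bd f : G9) ∈ M)
    (hd : dD3 hl ∈ M.comap (psi h2)) : specialLinear (Fin 3) F ≤ subgroupNormalizer (M.comap (psi h2)) := by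
  have hnrm : ∀ f : Fin 3 → G3, bd f ∈ M → (∀ j k, (f 2 : M3) (-j) (-k) = (f 1 : M3) j k) →
      f 1 ∈ subgroupNormalizer (M.comap (psi h2)) := fun f hfM hf => by
    refine Subgroup.mem_normalizer_iff.2 fun x => ?_
    rw [Subgroup.mem_comap, Subgroup.mem_comap, ← psi_conj hl h2 hf, mul_mem_cancel_right (inv_mem hfM),
      mul_mem_cancel_left hfM]
  have hconst : ∀ k : G3, k ∈ subgroupNormalizer (H3 hl) → (k : M3).det ^ 3 = 1 →
      (∀ i j, (k : M3) (-i) (-j) = (k : M3) i j) → k ∈ subgroupNormalizer (M.comap (psi h2)) := fun k hk dk hkj =>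
    hnrm (fun _ => k) ((bd_const (F := F) k).symm ▸ h.tA_mem hl hk dk) hkj
  refine big hl hp hp3 (normalizer_le hl ?_ ?_ ?_ ?_ fun c hc => Subgroup.mem_normalizer_iff.2 fun x => by
      rw [(commute_scalar hc x).eq, mul_inv_cancel_right]) fun hle => ?_
  · refine hconst _ (fG_mem hl).1 (by simp [det_one_of_mem (fG_mem hl).2]) ?_
    intro i j; rw [fG_val]
    fin_cases i <;> fin_cases j <;> simp [fmat, show -(1 : Fin 3) = 2 by decide, show -(2 : Fin 3) = 1 by decide]
  · refine hconst _ (dG_mem hl) (det_dG hl) ?_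
    intro i j
    show dmat l _ _ = dmat l _ _
    fin_cases i <;> fin_cases j <;> simp [dmat, show -(1 : Fin 3) = 2 by decide, show -(2 : Fin 3) = 1 by decide]
  · refine hnrm ![1, aG hl, aG hl * aG hl] (hbd _ fun i => ?_) ?_
    · fin_cases i <;> simp <;> first | exact one_mem _ | exact (std hl).aR | exact mul_mem (std hl).aR (std hl).aR
    · intro i j
      show ((amat l * amat l : M3)) _ _ = amat l _ _
      fin_cases i <;> fin_cases j <;> simp [amat, show -(1 : Fin 3) = 2 by decide, show -(2 : Fin 3) = 1 by decide] <;>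
        (have := hl.pow_eq_one; grind)
  · refine hnrm ![1, bG hl, bG hl * bG hl] (hbd _ fun i => ?_) ?_
    · fin_cases i <;> simp <;> first | exact one_mem _ | exact (std hl).bR | exact mul_mem (std hl).bR (std hl).bR
    · intro i j
      show ((bmat * bmat : M3)) _ _ = bmat _ _
      fin_cases i <;> fin_cases j <;> simp [bmat, show -(1 : Fin 3) = 2 by decide, show -(2 : Fin 3) = 1 by decide]
  · exact dD3_not_mem hl h2 ((Subgroup.mem_normalizer_iff.1 (hle (Subgroup.le_normalizer hd)) _).1 (std hl).bR)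

/-- The twisted root element. -/
theorem Ctx.twisted_root [Fintype F] (hp : (Fintype.card F).Prime) (hp3 : Fintype.card F % 3 = 1) (h : Ctx hl M)
    (hb : ∀ i : Fin 3, ∀ x ∈ H3 hl, (bd (Function.update (1 : Fin 3 → G3) i x) : G9) ∈ M) (t : F) :
    El M (fun x => t * (oI x 0 : F)) (fun x => (oI x 2 : F)) := by
  haveI : CharP F (Fintype.card F) := by haveI := Fact.mk hp; exact charP_of_card_eq_prime rfl
  have h2 : (2 : F) ≠ 0 := by
    intro e
    have hd := (CharP.cast_eq_zero_iff F (Fintype.card F) 2).1 (by simpa using e)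
    have := (Nat.prime_dvd_prime_iff_eq hp Nat.prime_two).1 hd
    omega
  have hbd : ∀ f : Fin 3 → G3, (∀ i, f i ∈ H3 hl) → (bd f : G9) ∈ M := fun f hf => by
    rw [update_prod hl f, map_mul, map_mul]
    exact mul_mem (mul_mem (hb _ _ (hf _)) (hb _ _ (hf _))) (hb _ _ (hf _))
  have hd : dD3 hl ∈ M.comap (psi h2) := by
    rw [Subgroup.mem_comap, psi_dD3 hl h2]
    exact h.dperm_mem hl (update_bd_eq_pr hl ▸ hb 0 _ (std hl).bR)
  have hSL := h.normalizer_twisted hl hp hp3 h2 hbd hd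
  let x02 : G3 := Matrix.SpecialLinearGroup.toGL ⟨Matrix.transvection 0 2 t, Matrix.det_transvection_of_ne _ _ (by decide) _⟩
  have hx : x02 ∈ subgroupNormalizer (M.comap (psi h2)) := hSL (MonoidHom.mem_ker.2 (Units.ext
    (Matrix.det_transvection_of_ne (0 : Fin 3) 2 (by decide) t)))
  have hc : x02 * dD3 hl * x02⁻¹ * (dD3 hl)⁻¹ ∈ M.comap (psi h2) :=
    mul_mem ((Subgroup.mem_normalizer_iff.1 hx _).1 hd) (inv_mem hd)
  refine ⟨_, hc, psi_transvection hl h2 t _ ?_⟩
  have he : x02 * dD3 hl * x02⁻¹ * (dD3 hl)⁻¹ = x02 * x02 := by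
    rw [mul_inv_eq_iff_eq_mul, mul_inv_eq_iff_eq_mul]
    refine Units.ext ?_
    show (Matrix.transvection 0 2 t * diagonal ![-1, -1, 1] : M3) =
      Matrix.transvection 0 2 t * Matrix.transvection 0 2 t * diagonal ![-1, -1, 1] * Matrix.transvection 0 2 t
    rw [Matrix.transvection_mul_transvection_same _ _ (by decide)]
    ext i j
    fin_cases i <;> fin_cases j <;>
      simp [Matrix.transvection, Matrix.mul_apply, Fin.sum_univ_three, Matrix.single_apply] <;> ring
  rw [he]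
  show (Matrix.transvection 0 2 t * Matrix.transvection 0 2 t : M3) = _
  rw [Matrix.transvection_mul_transvection_same _ _ (by decide), ← two_mul]
  rfl

theorem Ctx.phase_mem (h : Ctx hl M)
    (hb : ∀ i : Fin 3, ∀ x ∈ H3 hl, (bd (Function.update (1 : Fin 3 → G3) i x) : G9) ∈ M) {P Q : I9} (hPQ : P ≠ Q) :
    (dg hl (fun x => if x = P then 1 else if x = Q then 2 else 0) : G9) ∈ M := by
  have hline : (dg hl (fun x => if x.2 = 0 then x.1 else 0) : G9) ∈ M := by
    convert hb 0 _ (std hl).aR using 1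
    refine Units.ext ?_
    ext r c
    rw [dg_apply, bd_apply]
    obtain ⟨j, u⟩ := r
    obtain ⟨j', u'⟩ := c
    by_cases hu : u = u'
    · subst hu
      by_cases hui : u = 0
      · subst hui
        fin_cases j <;> fin_cases j' <;> simp [std, aG, amat, Prod.ext_iff]
      · simp [hui, one_apply, Prod.ext_iff]
    · simp [hu, Prod.ext_iff]
  obtain ⟨π, hπ, hP, hQ⟩ := exists_aff2 (show ((1, 0) : I9) ≠ (2, 0) by decide) hPQ
  have := mul_mem (mul_mem (h.pr_mem hl hπ) hline) (inv_mem (h.pr_mem hl hπ))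
  rw [pr_conj_dg] at this
  convert this using 2
  funext x
  have key : ∀ y : I9, (if y = (1, 0) then (1 : Fin 3) else if y = (2, 0) then 2 else 0) =
      if y.2 = 0 then y.1 else 0 := by clear * -; decide +kernel
  rw [Function.comp_apply, ← key, ← hP, ← hQ]
  simp [Equiv.symm_apply_eq]

/-- Independent block elements give the special linear group. -/
theorem Ctx.sl_of_blocks [Fintype F] (hp : (Fintype.card F).Prime) (hp3 : Fintype.card F % 3 = 1) (h : Ctx hl M)
    (hb : ∀ i : Fin 3, ∀ x ∈ H3 hl, (bd (Function.update (1 : Fin 3 → G3) i x) : G9) ∈ M) :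
    specialLinear I9 F ≤ M := by
  have hT := fun t => h.twisted_root hl hp hp3 hb t
  have hl1 : (1 : F) - l ^ 2 ≠ 0 := sub_ne_zero.2 fun e => hl.pow_ne_one_of_pos_of_lt (by norm_num) (by norm_num) e.symm
  have hl2 : (1 : F) - l ≠ 0 := sub_ne_zero.2 fun e => hl.ne_one (by norm_num) e.symm
  have o0 : ∀ x : I9, (oI x 0 : F) = (if x = (0, 1) then 1 else 0) - (if x = (0, 2) then 1 else 0) := fun x => by
    simp [oI]
  have o2 : ∀ x : I9, (oI x 2 : F) = (if x = (2, 1) then 1 else 0) - (if x = (1, 2) then 1 else 0) := fun x => by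
    rw [oI, show (-2 : Fin 3) = 1 by decide]
    simp
  have hS : ∀ t : F, El M (fun x => t * ((if x = (0, 1) then 1 else 0) - (if x = (0, 2) then 1 else 0)))
      (fun x => if x = (2, 1) then 1 - l ^ 2 else 0) := by
    intro t
    obtain ⟨y, hy, e⟩ := (hT t).div ((hT t).dg_conj hl (h.phase_mem hl hb (P := (2, 1)) (Q := (0, 0)) (by decide)))
      (by simp [dotProduct, o0, o2, Fintype.sum_prod_type, Fin.sum_univ_three, Prod.ext_iff])
      (by simp [dotProduct, o0, o2, Fintype.sum_prod_type, Fin.sum_univ_three, Prod.ext_iff])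
    refine ⟨y, hy, ?_⟩
    rw [e, add_sub_assoc]
    congr 1
    ext r c
    simp only [Matrix.sub_apply, vecMulVec_apply, o0, o2]
    by_cases h1 : r = (0, 1)
    · subst h1; by_cases h3 : c = (2, 1)
      · subst h3; simp [Prod.ext_iff]; ring
      by_cases h4 : c = (1, 2)
      · subst h4; simp [Prod.ext_iff]
      simp [h3, h4]
    by_cases h2 : r = (0, 2)
    · subst h2; by_cases h3 : c = (2, 1)
      · subst h3; simp [Prod.ext_iff]; ring
      by_cases h4 : c = (1, 2)
      · subst h4; simp [Prod.ext_iff]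
      simp [h3, h4]
    simp [h1, h2]
  refine h.sl_of_root hl (show ((0, 1) : I9) ≠ (2, 1) by decide) fun t => ?_
  obtain ⟨y, hy, e⟩ := (hS (t / ((1 - l ^ 2) * (1 - l)))).div
    ((hS (t / ((1 - l ^ 2) * (1 - l)))).dg_conj hl (h.phase_mem hl hb (P := (0, 1)) (Q := (0, 0)) (by decide)))
    (by simp [dotProduct, Fintype.sum_prod_type, Fin.sum_univ_three, Prod.ext_iff])
    (by simp [dotProduct, Fintype.sum_prod_type, Fin.sum_univ_three, Prod.ext_iff])
  convert hy using 1
  refine Units.ext ?_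
  rw [e, add_sub_assoc]
  ext r c
  rw [tv_apply, Matrix.add_apply, one_apply, Matrix.sub_apply, vecMulVec_apply, vecMulVec_apply]
  congr 1
  by_cases h3 : c = (2, 1)
  · subst h3
    by_cases h1 : r = (0, 1)
    · subst h1; simp [Prod.ext_iff]; field_simp
    by_cases h2 : r = (0, 2)
    · subst h2; simp [Prod.ext_iff]
    simp [h1, h2]
  · simp [h3]

end CfsgLib.Geo.Nine
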