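import Cfsg.Agent.Lib.Geo.Nine.Roots

/-!
# Centralisers of the elements of the extraspecial group
-/

set_option autoImplicit false
set_option maxHeartbeats 1000000

namespace CfsgLib.Geo.Nine

open Matrix Cfsg.Geo
open scoped Kronecker
open CfsgLib.Geo.Extra27 (amat bmat jmat Heis)
open CfsgLib.Geo.SL3.Maximal
open CfsgLib.Geo.SympNorm (commute_scalar)

variable {F : Type*} [Field F] {l : F}

local notation "M3" => Matrix (Fin 3) (Fin 3) F
local notation "G3" => GL (Fin 3) F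
local notation "V3" => ZMod 3 × ZMod 3
local notation "M9" => Matrix I9 I9 F
local notation "G9" => GL I9 F

variable (hl : IsPrimitiveRoot l 3)
include hl
variable [Finite F] {M : Subgroup (GL I9 F)}

/-- The action of a two by two matrix on exponent vectors. -/
def av (A : SL23) (v : ZMod 3 × ZMod 3) : ZMod 3 × ZMod 3 :=
  (A.1 0 0 * v.1 + A.1 0 1 * v.2, A.1 1 0 * v.1 + A.1 1 1 * v.2)

theorem rel_av {g : G3} (hg : g ∈ subgroupNormalizer (H3 hl)) {x : G3} {v : V3} (hx : Rel (std hl) x v) :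
    Rel (std hl) (g * x * g⁻¹) (av (chiN hl ⟨g, hg⟩) v) := rel_conj_chi hl hg hx

omit hl [Finite F] in
theorem av_ext {A B : SL23} (h1 : av A (1, 0) = av B (1, 0)) (h2 : av A (0, 1) = av B (0, 1)) : A = B := by
  simp [av] at h1 h2
  refine Subtype.ext ?_
  ext i j
  fin_cases i <;> fin_cases j <;> simp [h1.1, h1.2, h2.1, h2.2]

theorem exists_move {v w : V3} (hv : v ≠ 0) (hw : w ≠ 0) :
    ∃ k, k ∈ Subgroup.closure ({fG hl, dG hl} : Set G3) ∧ ∀ x, Rel (std hl) x v → Rel (std hl) (k * x * k⁻¹) w := by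
  have key : ∀ v w : ZMod 3 × ZMod 3, v ≠ 0 → w ≠ 0 → ∃ a b c d : ZMod 3, a * d - b * c = 1 ∧
      a * v.1 + b * v.2 = w.1 ∧ c * v.1 + d * v.2 = w.2 := by clear * -; decide +kernel
  obtain ⟨a, b, c, d, hd, e1, e2⟩ := key v w hv hw
  obtain ⟨k, hk, e, hkc⟩ := exists_lift hl (mk23 a b c d)
  refine ⟨k, hkc, fun x hx => ?_⟩
  have := rel_av hl hk hx
  rw [e] at this
  have hm : (mk23 a b c d : SL23).1 = !![a, b; c, d] := by
    unfold mk23; exact congrArg Subtype.val (dif_pos hd)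
  convert this using 1
  simp [av, hm, e1, e2]

theorem wd_a : wd hl (0, 1) = aG hl := by simp [wd, word, std, ZMod.val_one]

theorem wd_b : wd hl (2, 0) = bG hl := by
  simp [wd, word, std, show (-2 : ZMod 3) = 1 by decide, ZMod.val_one]

theorem inR_rel {x y : G3} {v : V3} (hx : Rel (std hl) x v) (hy : Rel (std hl) y v) :
    x * y⁻¹ ∈ scalars (Fin 3) F := Rel.scalar (h := std hl) (by simpa using hx.mul hy.inv)

theorem det_aG : ((aG hl : G3) : M3).det = 1 := Extra27.det_amat hl.pow_eq_one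

/-- Being conjugate up to scalars by a good element. -/
def Tw (M : Subgroup G9) (x y : G9) : Prop := ∃ k ∈ M, k ∈ N9 hl ∧ k * x * k⁻¹ * y⁻¹ ∈ scalars I9 F

theorem Tw.trans {x y z : G9} (h : Tw hl M x y) (h' : Tw hl M y z) : Tw hl M x z := by
  obtain ⟨k, hk, hk9, e⟩ := h
  obtain ⟨k', hk', hk9', e'⟩ := h'
  refine ⟨k' * k, mul_mem hk' hk, mul_mem hk9' hk9, ?_⟩
  have := mul_mem ((scalars_normal (ι := I9) (F := F)).conj_mem _ e k') e'
  convert this using 1
  group

omit [Finite F] in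
theorem tp_scalars {c d : G3} (hc : c ∈ scalars (Fin 3) F) (hd : d ∈ scalars (Fin 3) F) :
    (tp (c, d) : G9) ∈ scalars I9 F := by
  rw [tp_eq]; exact mul_mem (tA_scalars hc) (tB_scalars hd)

/-- Every element outside the scalars can be moved to the diagonal element across the blocks. -/
theorem Ctx.to_tB (h : Ctx hl M) {x : G9} (hx : x ∈ R9 hl) (hns : x ∉ scalars I9 F) :
    Tw hl M x (tB (aG hl)) := by
  obtain ⟨c, hc, v, w, rfl⟩ := R9_cases hl hx
  have h0 : Tw hl M (c * tp (wd hl v, wd hl w)) (tp (wd hl v, wd hl w)) :=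
    ⟨1, one_mem _, one_mem _, by simpa using hc⟩
  refine h0.trans hl ?_
  have std_form : ∀ u : V3, ∃ k, k ∈ Subgroup.closure ({fG hl, dG hl} : Set G3) ∧
      k * wd hl u * k⁻¹ * (if u = 0 then 1 else aG hl)⁻¹ ∈ scalars (Fin 3) F := fun u => by
    by_cases hu : u = 0
    · refine ⟨1, one_mem _, ?_⟩
      subst hu
      simpa using Rel.scalar (h := std hl) (rel_wd hl (0 : V3))
    · obtain ⟨k, hk, hkr⟩ := exists_move hl hu (show ((0 : ZMod 3), (1 : ZMod 3)) ≠ 0 by decide)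
      exact ⟨k, hk, by rw [if_neg hu]; exact inR_rel hl (hkr _ (rel_wd hl u)) rel_a⟩
  obtain ⟨k1, hk1, e1⟩ := std_form v
  obtain ⟨k2, hk2, e2⟩ := std_form w
  obtain ⟨n1, d1⟩ := good_of_closure hl hk1
  obtain ⟨n2, d2⟩ := good_of_closure hl hk2
  refine Tw.trans hl (y := tp ((if v = 0 then 1 else aG hl), (if w = 0 then 1 else aG hl)))
    ⟨_, h.tp_mem hl n1 n2 d1 d2, tp_mem_N9 hl n1 n2, ?_⟩ ?_
  · rw [← map_inv, ← map_inv, ← map_mul, ← map_mul, ← map_mul]
    exact tp_scalars hl e1 e2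
  by_cases hv : v = 0 <;> by_cases hw : w = 0 <;> simp only [hv, hw, if_true, if_false]
  · subst hv hw
    exact absurd (mul_mem hc (tp_scalars hl (Rel.scalar (h := std hl) (rel_wd hl (0 : V3)))
      (Rel.scalar (h := std hl) (rel_wd hl (0 : V3))))) hns
  · exact ⟨1, one_mem _, one_mem _, by simp [tB_eq]⟩
  · exact ⟨sw, h.sw_mem hl, sw_mem_N9 hl, by rw [sw_conj_tp, ← tB_eq, mul_inv_cancel]; exact one_mem _⟩
  · have hd : ((1, 1) : I9).1 * ((0, 1) : I9).2 - ((1, 1) : I9).2 * ((0, 1) : I9).1 ≠ 0 := by decide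
    refine ⟨pr (aff (0, 0) (1, 1) (0, 1) hd), h.pr_mem hl (isAff_aff _ _ _ hd), pr_mem_N9 hl (isAff_aff _ _ _ hd), ?_⟩
    rw [tp_eq, tA_aG, tB_aG, ← dg_add, pr_conj_dg, ← dg_sub]
    convert dg_const hl 0 using 2
    funext x
    have key : ∀ y : I9, y.1 + y.2 = (affFun (0, 0) (1, 1) (0, 1) y).2 := by clear * -; decide +kernel
    simp only [Pi.sub_apply, Function.comp_apply, Pi.add_apply, key, ← aff_apply _ _ _ _ hd,
      Equiv.apply_symm_apply, sub_self]

/-- Block diagonal shape of an element commuting with the diagonal element across the blocks. -/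
theorem exists_bd {g : G9} (hg : Commute g (tB (aG hl))) : ∃ f : Fin 3 → G3, g = bd f := by
  have off : ∀ y : G9, Commute y (tB (aG hl)) → ∀ r c : I9, r.2 ≠ c.2 → (y : M9) r c = 0 := by
    intro y hy r c hrc
    have e := congrArg (fun u : G9 => (u : M9) r c) hy.eq
    rw [tB_aG] at e
    simp only [Units.val_mul] at e
    change ((y : M9) * (diagonal (fun x : I9 => l ^ (x.2 : ℕ)) : M9)) r c =
      ((diagonal (fun x : I9 => l ^ (x.2 : ℕ)) : M9) * (y : M9)) r c at e
    rw [mul_diagonal, diagonal_mul] at e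
    have hne : l ^ (c.2 : ℕ) - l ^ (r.2 : ℕ) ≠ 0 :=
      sub_ne_zero.2 fun e' => hrc (Fin.ext (hl.pow_inj c.2.2 r.2.2 e').symm)
    exact (mul_eq_zero.1 (show (y : M9) r c * (l ^ (c.2 : ℕ) - l ^ (r.2 : ℕ)) = 0 by
      rw [mul_sub]; linear_combination e)).resolve_right hne
  let blk : G9 → Fin 3 → M3 := fun y i => Matrix.of fun j j' => (y : M9) (j, i) (j', i)
  have hmul : ∀ y z : G9, Commute y (tB (aG hl)) → ∀ i, blk y i * blk z i = blk (y * z) i := by
    intro y z hy i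
    ext j j'
    simp only [blk, Matrix.mul_apply, Matrix.of_apply, Units.val_mul, Fintype.sum_prod_type]
    refine Finset.sum_congr rfl fun m _ => (Finset.sum_eq_single (f := fun n => (y : M9) (j, i) (m, n) * (z : M9) (m, n) (j', i))
      i (fun n _ hn => ?_) (by simp)).symm
    rw [off y hy _ _ (Ne.symm hn), zero_mul]
  have h1 : ∀ i, blk 1 i = 1 := fun i => by ext j j'; simp [blk, one_apply]
  refine ⟨fun i => ⟨blk g i, blk g⁻¹ i, by rw [hmul _ _ hg, mul_inv_cancel, h1],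
    by rw [hmul _ _ hg.inv_left, inv_mul_cancel, h1]⟩, ?_⟩
  refine Units.ext ?_
  ext r c
  rw [bd_apply]
  obtain ⟨j, i⟩ := r
  obtain ⟨j', i'⟩ := c
  split_ifs with hi
  · change i = i' at hi
    subst hi; rfl
  · exact off g hg _ _ hi

theorem Ctx.shift_mem (h : Ctx hl M) {f : Fin 3 → G3} (hf : (bd f : G9) ∈ M) (u : Fin 3) :
    (bd (fun i => f (i + u)) : G9) ∈ M := by
  have hp : (pr (Equiv.addRight ((0, -u) : I9)) : G9) ∈ M := h.pr_mem hl fun x y => by
    show x + y + _ + (0 + _) = x + _ + (y + _); abel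
  have := mul_mem (mul_mem hp hf) (inv_mem hp)
  convert this using 1
  refine Units.ext ?_
  ext r c
  rw [pr_conj, bd_apply, bd_apply]
  simp [Equiv.addRight_symm]

theorem dg_quad_mem_N9 {q : I9 → Fin 3} (hq : ∀ u, IsAff (q - q ∘ (Equiv.addRight u).symm)) :
    (dg hl q : G9) ∈ N9 hl := by
  have hd : ∀ f, dg hl q * dg hl f * (dg hl q)⁻¹ = (dg hl f : G9) := fun f => by
    rw [(dg_comm hl q f).eq, mul_inv_cancel_right]
  have ht : ∀ u, dg hl q * pr (Equiv.addRight u) * (dg hl q)⁻¹ ∈ R9 hl := fun u => by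
    have : dg hl q * pr (Equiv.addRight u) * (dg hl q)⁻¹ =
        dg hl (q - q ∘ (Equiv.addRight u).symm) * pr (Equiv.addRight u) := by
      rw [dg_sub, ← pr_conj_dg]; group
    rw [this]
    exact mul_mem (dg_mem_R9 hl (hq u)) (tr_mem_R9 hl u)
  refine mem_N9 hl fun k => ?_
  fin_cases k
  · simpa [gen9, tA_aG, hd] using dg_mem_R9 hl (f := fun x => x.1) (fun x y => by simp)
  · simpa [gen9, tA_bG] using ht _
  · simpa [gen9, tB_aG, hd] using dg_mem_R9 hl (f := fun x => x.2) (fun x y => by simp)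
  · simpa [gen9, tB_bG] using ht _

theorem Ctx.sa_mem (h : Ctx hl M) (i : Fin 3) :
    (bd fun j => aG hl ^ ((j - i : Fin 3) : ℕ) : G9) ∈ M ∧ (bd fun j => aG hl ^ ((j - i : Fin 3) : ℕ) : G9) ∈ N9 hl := by
  have e : (bd fun j => aG hl ^ ((j - i : Fin 3) : ℕ) : G9) = dg hl fun x => x.1 * (x.2 - i) := Units.ext (by
    ext r c
    rw [dg_apply, bd_apply]
    obtain ⟨j, u⟩ := r
    obtain ⟨j', u'⟩ := c
    by_cases hu : u = u'
    · subst hu
      show (if u = u then (((aG hl ^ ((u - i : Fin 3) : ℕ) : G3)) : M3) j j' else 0) = _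
      rw [if_pos rfl, Units.val_pow_eq_pow_val]
      show (amat l ^ ((u - i : Fin 3) : ℕ)) j j' = _
      rw [amat, diagonal_pow, diagonal_apply]
      have key : ∀ j w : Fin 3, ((j * w : Fin 3) : ℕ) ≡ (j : ℕ) * (w : ℕ) [MOD 3] := fun j w => by
        rw [Fin.val_mul]; exact Nat.mod_modEq _ _
      by_cases hj : j = j'
      · subst hj
        rw [if_pos rfl, if_pos rfl, Pi.pow_apply]
        rw [show (![1, l, l ^ 2] : Fin 3 → F) j = l ^ (j : ℕ) by fin_cases j <;> simp, ← pow_mul]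
        rw [pow_eq_pow_mod _ hl.pow_eq_one, pow_eq_pow_mod ((_ : Fin 3) : ℕ) hl.pow_eq_one, key j (u - i)]
      · simp [hj, Prod.ext_iff]
    · simp [hu, Prod.ext_iff])
  have hN : (bd fun j => aG hl ^ ((j - i : Fin 3) : ℕ) : G9) ∈ N9 hl := by
    rw [e]
    refine dg_quad_mem_N9 hl fun u x y => ?_
    have key : ∀ i a b c d : Fin 3, ∀ u : I9,
        (a + c) * (b + d - i) - (a + c + -u.1) * (b + d + -u.2 - i) + (0 * (0 - i) - (0 + -u.1) * (0 + -u.2 - i)) =
          a * (b - i) - (a + -u.1) * (b + -u.2 - i) + (c * (d - i) - (c + -u.1) * (d + -u.2 - i)) := by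
      clear * -; decide +kernel
    simpa using key i x.1 x.2 y.1 y.2 u
  refine ⟨h.nn _ hN (Or.inl ?_), hN⟩
  rw [det_bd]
  refine Finset.prod_eq_one fun j _ => ?_
  rw [Units.val_pow_eq_pow_val, det_pow, det_aG, one_pow]

/-- Twisting elements with every exponent vector. -/
theorem Ctx.exists_s (h : Ctx hl M) (v : V3) :
    ∃ r, Rel (std hl) r v ∧ (bd ![1, r, r * r] : G9) ∈ M ∧ (bd ![1, r, r * r] : G9) ∈ N9 hl := by
  by_cases hv : v = 0
  · subst hv
    refine ⟨1, Rel.of_scalar (one_mem _), ?_⟩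
    rw [show (![1, 1, 1 * 1] : Fin 3 → G3) = 1 by funext i; fin_cases i <;> simp, map_one]
    exact ⟨one_mem _, one_mem _⟩
  obtain ⟨k, hk, hkr⟩ := exists_move hl hv (show ((0 : ZMod 3), (1 : ZMod 3)) ≠ 0 by decide)
  obtain ⟨n, d⟩ := good_of_closure hl hk
  refine ⟨k⁻¹ * aG hl * k, ?_, ?_⟩
  · have := (scalars_normal (ι := Fin 3) (F := F)).conj_mem _ (inR_rel hl rel_a (hkr _ (rel_wd hl v))) k⁻¹
    have e := (Rel.of_scalar (h := std hl) this).mul (rel_wd hl v)
    rw [zero_add] at e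
    convert e using 1
    show _ = k⁻¹ * (aG hl * (k * wd hl v * k⁻¹)⁻¹) * k⁻¹⁻¹ * wd hl v
    group
  · have e : (bd ![1, k⁻¹ * aG hl * k, k⁻¹ * aG hl * k * (k⁻¹ * aG hl * k)] : G9) =
        (tA k)⁻¹ * (bd fun j => aG hl ^ ((j - 0 : Fin 3) : ℕ)) * tA k := by
      rw [← bd_const, ← map_inv, ← map_mul, ← map_mul]
      congr 1
      funext j
      fin_cases j <;> simp [pow_two] <;> group
    rw [e]
    exact ⟨mul_mem (mul_mem (inv_mem (h.tA_mem hl n d)) (h.sa_mem hl 0).1) (h.tA_mem hl n d),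
      mul_mem (mul_mem (inv_mem (tp_mem_N9 hl n (one_mem _))) (h.sa_mem hl 0).2) (tp_mem_N9 hl n (one_mem _))⟩

/-- A block element outside the small normaliser gives the special linear group. -/
theorem Ctx.sl_of_block_big [Fintype F] (hp : (Fintype.card F).Prime) (hp3 : Fintype.card F % 3 = 1) (h : Ctx hl M)
    {f₀ : Fin 3 → G3} (hf₀ : (bd f₀ : G9) ∈ M) (hne : f₀ 0 ∉ subgroupNormalizer (H3 hl)) :
    specialLinear I9 F ≤ M := by
  classical
  let P : Subgroup G3 := (M.comap bd).map (Pi.evalMonoidHom (fun _ : Fin 3 => G3) 0)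
  have memc : ∀ k : G3, k ∈ subgroupNormalizer (H3 hl) → (k : M3).det ^ 3 = 1 → k ∈ P := fun k hk dk =>
    ⟨fun _ => k, Subgroup.mem_comap.2 ((bd_const (F := F) k).symm ▸ h.tA_mem hl hk dk), rfl⟩
  have hN : subgroupNormalizer (H3 hl) ≤ P := normalizer_le hl
    (memc _ (fG_mem hl).1 (by simp [det_one_of_mem (fG_mem hl).2])) (memc _ (dG_mem hl) (det_dG hl))
    (memc _ (h3_le hl (std hl).aR) (by rw [show ((aG hl : G3) : M3).det = 1 from det_H3 hl (std hl).aR, one_pow]))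
    (memc _ (h3_le hl (std hl).bR) (by rw [show ((bG hl : G3) : M3).det = 1 from det_H3 hl (std hl).bR, one_pow]))
    fun c hc => ⟨fun _ => c, Subgroup.mem_comap.2 ((bd_const (F := F) c).symm ▸ h.sc (tA_scalars hc)), rfl⟩
  have hP : specialLinear (Fin 3) F ≤ P := big hl hp hp3 hN fun hle => hne (hle ⟨f₀, hf₀, rfl⟩)
  have hall : ∀ (k : Fin 3) (x : G3), x ∈ specialLinear (Fin 3) F → ∃ f, (bd f : G9) ∈ M ∧ f k = x := fun k x hx => by
    obtain ⟨f, hf, e⟩ := hP hx
    exact ⟨_, h.shift_mem hl (f := f) hf (-k), by simpa using e⟩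
  have hroot : ∀ (i k : Fin 3), i ≠ k → ∀ (p q : Fin 3) (hpq : p ≠ q) (t : F), ∃ f, (bd f : G9) ∈ M ∧
      f i ∈ scalars (Fin 3) F ∧ (f k : M3) = Matrix.transvection p q t := by
    intro i k hik p q hpq t
    set e := ((k - i : Fin 3) : ℕ) with he
    let d : Fin 3 → F := fun r => l ^ ((r : ℕ) * e)
    have hd : ((aG hl ^ e : G3) : M3) = diagonal d := by
      rw [Units.val_pow_eq_pow_val]
      show amat l ^ e = _
      rw [amat, diagonal_pow]
      congr 1
      funext r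
      fin_cases r <;> simp [d, ← pow_mul]
    have hd0 : ∀ r, d r ≠ 0 := fun r => pow_ne_zero _ (hl.ne_zero (by norm_num))
    have hdd : 1 - d p * (d q)⁻¹ ≠ 0 := by
      refine sub_ne_zero.2 fun e1 => hpq ?_
      have e2 : d p = d q := by
        rw [← mul_inv_eq_one₀ (hd0 q)]; exact e1.symm
      simp only [d] at e2
      rw [pow_eq_pow_mod _ hl.pow_eq_one, pow_eq_pow_mod ((q : ℕ) * e) hl.pow_eq_one] at e2
      have e3 := hl.pow_inj (Nat.mod_lt _ (by norm_num)) (Nat.mod_lt _ (by norm_num)) e2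
      have key : ∀ i k p q : Fin 3, i ≠ k → (p : ℕ) * ((k - i : Fin 3) : ℕ) % 3 = (q : ℕ) * ((k - i : Fin 3) : ℕ) % 3 →
          p = q := by clear * -; decide +kernel
      exact key i k p q hik e3
    set s := t / (1 - d p * (d q)⁻¹) with hs
    let x : G3 := Matrix.SpecialLinearGroup.toGL ⟨Matrix.transvection p q s, Matrix.det_transvection_of_ne _ _ hpq _⟩
    obtain ⟨f, hf, hfk⟩ := hall k x (MonoidHom.mem_ker.2 (Units.ext (Matrix.det_transvection_of_ne p q hpq s)))
    let g : Fin 3 → G3 := fun j => aG hl ^ ((j - i : Fin 3) : ℕ)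
    refine ⟨f * g * f⁻¹ * g⁻¹, ?_, ?_, ?_⟩
    · rw [map_mul, map_mul, map_mul, map_inv, map_inv]
      exact mul_mem (mul_mem (mul_mem hf (h.sa_mem hl i).1) (inv_mem hf)) (inv_mem (h.sa_mem hl i).1)
    · simp [g]
    · show ((f k * aG hl ^ e * (f k)⁻¹ * (aG hl ^ e)⁻¹ : G3) : M3) = _
      have hxinv : ((x⁻¹ : G3) : M3) = Matrix.transvection p q (-s) := by
        refine Units.inv_eq_of_mul_eq_one_right ?_
        show Matrix.transvection p q s * Matrix.transvection p q (-s) = 1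
        rw [Matrix.transvection_mul_transvection_same _ _ hpq, add_neg_cancel, Matrix.transvection_zero]
      have hdinv : (((aG hl ^ e)⁻¹ : G3) : M3) = diagonal fun r => (d r)⁻¹ := by
        refine Units.inv_eq_of_mul_eq_one_right ?_
        rw [hd, diagonal_mul_diagonal, ← diagonal_one]
        congr 1; funext r; exact mul_inv_cancel₀ (hd0 r)
      rw [hfk, Units.val_mul, Units.val_mul, Units.val_mul, hd, hdinv, hxinv]
      show Matrix.transvection p q s * diagonal d * Matrix.transvection p q (-s) * diagonal (fun r => (d r)⁻¹) = _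
      have e1 : diagonal d * Matrix.transvection p q (-s) * diagonal (fun r => (d r)⁻¹) =
          Matrix.transvection p q (-s * (d p * (d q)⁻¹)) := by
        ext a b
        rw [mul_diagonal, diagonal_mul]
        by_cases hab : a = p ∧ b = q
        · obtain ⟨rfl, rfl⟩ := hab
          simp [Matrix.transvection, one_apply_ne hpq]
          ring
        · have hn : ¬ (p = a ∧ q = b) := fun h' => hab ⟨h'.1.symm, h'.2.symm⟩
          simp only [Matrix.transvection, Matrix.add_apply, Matrix.single_apply, if_neg hn, add_zero, one_apply]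
          by_cases hab' : a = b
          · subst hab'
            rw [if_pos rfl, mul_one, mul_inv_cancel₀ (hd0 a)]
          · rw [if_neg hab', mul_zero, zero_mul]
      rw [mul_assoc (Matrix.transvection p q s), mul_assoc (Matrix.transvection p q s), e1,
        Matrix.transvection_mul_transvection_same _ _ hpq]
      congr 1
      rw [hs, div_eq_mul_inv]
      linear_combination t * mul_inv_cancel₀ hdd
  refine h.sl_of_root hl (show ((0, 1) : I9) ≠ (1, 1) by decide) fun t => ?_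
  obtain ⟨f, hf, hf0, hf1⟩ := hroot 0 1 (by decide) 0 2 (by decide) t
  obtain ⟨f', hf', hf2', hf1'⟩ := hroot 2 1 (by decide) 2 1 (by decide) 1
  have hm : (bd (f * f' * f⁻¹ * f'⁻¹) : G9) ∈ M := by
    rw [map_mul, map_mul, map_mul, map_inv, map_inv]
    exact mul_mem (mul_mem (mul_mem hf hf') (inv_mem hf)) (inv_mem hf')
  convert hm using 1
  have e0 : (f * f' * f⁻¹ * f'⁻¹) 0 = 1 := by simp [(commute_scalar hf0 (f' 0)).eq]
  have e2 : (f * f' * f⁻¹ * f'⁻¹) 2 = 1 := by simp [(commute_scalar hf2' (f 2)).symm.eq]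
  have e1 : (((f * f' * f⁻¹ * f'⁻¹) 1 : G3) : M3) = Matrix.transvection 0 1 t := by
    have i1 : (((f 1)⁻¹ : G3) : M3) = Matrix.transvection 0 2 (-t) := by
      refine Units.inv_eq_of_mul_eq_one_right ?_
      rw [hf1, Matrix.transvection_mul_transvection_same _ _ (by decide), add_neg_cancel, Matrix.transvection_zero]
    have i2 : (((f' 1)⁻¹ : G3) : M3) = Matrix.transvection 2 1 (-1) := by
      refine Units.inv_eq_of_mul_eq_one_right ?_
      rw [hf1', Matrix.transvection_mul_transvection_same _ _ (by decide), add_neg_cancel, Matrix.transvection_zero]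
    simp only [Pi.mul_apply, Pi.inv_apply, Units.val_mul, hf1, hf1', i1, i2]
    ext a b
    fin_cases a <;> fin_cases b <;>
      simp [Matrix.transvection, Matrix.mul_apply, Fin.sum_univ_three, Matrix.single_apply]
  refine Units.ext ?_
  ext r c
  rw [tv_apply, bd_apply]
  obtain ⟨j, u⟩ := r
  obtain ⟨j', u'⟩ := c
  by_cases hu : u = u'
  · subst hu
    rw [if_pos rfl]
    fin_cases u
    · show _ = (((f * f' * f⁻¹ * f'⁻¹) 0 : G3) : M3) j j'
      rw [e0]; simp [one_apply, Prod.ext_iff]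
    · show _ = (((f * f' * f⁻¹ * f'⁻¹) 1 : G3) : M3) j j'
      rw [e1]; simp [Matrix.transvection, Matrix.single_apply, one_apply, Prod.ext_iff, eq_comm (a := (0 : Fin 3)),
        eq_comm (a := (1 : Fin 3))]
    · show _ = (((f * f' * f⁻¹ * f'⁻¹) 2 : G3) : M3) j j'
      rw [e2]; simp [one_apply, Prod.ext_iff]
  · rw [if_neg hu, if_neg (fun e => hu (congrArg Prod.snd e))]
    have hne' : ¬ ((j, u) = ((0, 1) : I9) ∧ (j', u') = (1, 1)) := fun e =>
      hu ((congrArg Prod.snd e.1).trans (congrArg Prod.snd e.2).symm)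
    rw [if_neg hne', add_zero]

omit [Finite F] in
theorem comm_scalar_mul {c d x y : G3} (hc : c ∈ scalars (Fin 3) F) (hd : d ∈ scalars (Fin 3) F) :
    c * x * (d * y) * (c * x)⁻¹ * (d * y)⁻¹ = x * y * x⁻¹ * y⁻¹ := by
  have cj : ∀ {c : G3}, c ∈ scalars (Fin 3) F → ∀ w, c * w * c⁻¹ = w := fun hc w => by
    rw [(commute_scalar hc w).eq, mul_inv_cancel_right]
  calc c * x * (d * y) * (c * x)⁻¹ * (d * y)⁻¹ = c * (x * (d * y) * x⁻¹) * c⁻¹ * (d * y)⁻¹ := by group
    _ = x * d * (y * x⁻¹ * y⁻¹) * d⁻¹ := by rw [cj hc]; group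
    _ = d * (x * y * x⁻¹ * y⁻¹) * d⁻¹ := by rw [← (commute_scalar hd x).eq]; group
    _ = _ := cj hd _

/-- An element supported on one block gives the special linear group. -/
theorem Ctx.sl_of_split [Fintype F] (hp : (Fintype.card F).Prime) (hp3 : Fintype.card F % 3 = 1) (h : Ctx hl M)
    {f : Fin 3 → G3} (hf : (bd f : G9) ∈ M) (h0 : f 0 ∈ scalars (Fin 3) F) (h1 : f 1 ∈ scalars (Fin 3) F)
    {v : V3} (hv : Rel (std hl) (f 2) v) (hv0 : v ≠ 0) : specialLinear I9 F ≤ M := by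
  classical
  let E : Subgroup G3 := ((M.comap bd).comap (MonoidHom.mulSingle (fun _ : Fin 3 => G3) 2)) ⊓ specialLinear (Fin 3) F
  have hdiff : ∀ w : V3, w ≠ 0 → ∃ x ∈ E, Rel (std hl) x (w - v) := by
    intro w hw
    obtain ⟨k, hk, hkr⟩ := exists_move hl hv0 hw
    obtain ⟨n, d⟩ := good_of_closure hl hk
    refine ⟨k * f 2 * k⁻¹ * (f 2)⁻¹, Subgroup.mem_inf.2 ⟨?_, ?_⟩, by simpa [sub_eq_add_neg] using (hkr _ hv).mul hv.inv⟩
    · rw [Subgroup.mem_comap, Subgroup.mem_comap]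
      have hm : tA k * bd f * (tA k)⁻¹ * (bd f)⁻¹ ∈ M :=
        mul_mem (mul_mem (mul_mem (h.tA_mem hl n d) hf) (inv_mem (h.tA_mem hl n d))) (inv_mem hf)
      rw [← bd_const, ← map_inv, ← map_inv, ← map_mul, ← map_mul, ← map_mul] at hm
      convert hm using 2
      funext i
      fin_cases i <;> simp [(commute_scalar h0 _).symm.eq, (commute_scalar h1 _).symm.eq]
    · refine MonoidHom.mem_ker.2 ?_
      simp [map_mul]
  have hall : ∀ w : V3, ∃ x ∈ E, Rel (std hl) x w := by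
    intro w
    have key : ∀ u : ZMod 3 × ZMod 3, ∃ p q : ZMod 3 × ZMod 3, p ≠ 0 ∧ q ≠ 0 ∧ p + q = u := by
      clear * -; decide +kernel
    obtain ⟨p, q, hp', hq', e⟩ := key (w + v + v)
    obtain ⟨x, hx, rx⟩ := hdiff p hp'
    obtain ⟨y, hy, ry⟩ := hdiff q hq'
    refine ⟨x * y, mul_mem hx hy, ?_⟩
    convert rx.mul ry using 1
    rw [eq_sub_of_add_eq e]
    abel
  obtain ⟨x, hx, rx⟩ := hall (0, 1)
  obtain ⟨y, hy, ry⟩ := hall (2, 0)
  obtain ⟨cx, hcx, ex⟩ := exists_scalar_wd hl rx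
  obtain ⟨cy, hcy, ey⟩ := exists_scalar_wd hl ry
  rw [wd_a] at ex
  rw [wd_b] at ey
  set z := aG hl * bG hl * (aG hl)⁻¹ * (bG hl)⁻¹ with hz
  have hzE : z ∈ E := by
    have e : x * y * x⁻¹ * y⁻¹ = z := by rw [ex, ey, comm_scalar_mul hl hcx hcy, hz]
    exact e ▸ mul_mem (mul_mem (mul_mem hx hy) (inv_mem hx)) (inv_mem hy)
  have hzv : (z : M3) = l • 1 := by
    rw [hz, Units.val_mul, Units.val_mul, Units.val_mul, comm_ab hl, smul_mul_assoc, smul_mul_assoc,
      mul_assoc (bG hl : M3), Units.mul_inv, mul_one, Units.mul_inv]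
  have hscal : ∀ {c g : G3}, c ∈ scalars (Fin 3) F → (g : M3).det = 1 → c * g ∈ E → g ∈ E := fun {c g} hc hg hcg => by
    obtain ⟨d, hd⟩ := (mem_scalars_iff c).1 hc
    have hd3 : (d : F) ^ 3 = 1 := by
      have := det_one_of_mem (Subgroup.mem_inf.1 hcg).2
      rwa [Units.val_mul, det_mul, hg, mul_one, hd, det_smul, det_one, mul_one, Fintype.card_fin] at this
    obtain ⟨n, -, hn⟩ := Extra27.eq_pow_of_cube hl hd3
    have : c = z ^ n := Units.ext (by rw [hd, Units.val_pow_eq_pow_val, hzv, smul_pow, one_pow, hn])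
    rw [this] at hcg
    simpa using mul_mem (inv_mem (pow_mem hzE n)) hcg
  have hH : H3 hl ≤ E := by
    rw [H3, Subgroup.closure_le]
    rintro g (rfl | rfl)
    · exact hscal hcx (det_aG hl) (ex ▸ hx)
    · exact hscal hcy (det_H3 hl (std hl).bR) (ey ▸ hy)
  refine h.sl_of_blocks hl hp hp3 fun i g hg => ?_
  have := h.shift_mem hl (f := Pi.mulSingle 2 g) (Subgroup.mem_inf.1 (hH hg)).1 (2 - i)
  convert this using 2
  funext j
  show Function.update (1 : Fin 3 → G3) i g j = Function.update (1 : Fin 3 → G3) 2 g (j + (2 - i))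
  have key : ∀ i j : Fin 3, j + (2 - i) = 2 ↔ j = i := by clear * -; decide
  simp [Function.update_apply, key]

/-- The block elements lie in the normaliser, unless the special linear group is contained. -/
theorem Ctx.bd_mem_N9 [Fintype F] (hp : (Fintype.card F).Prime) (hp3 : Fintype.card F % 3 = 1) (h : Ctx hl M)
    (hno : ¬ specialLinear I9 F ≤ M) {f : Fin 3 → G3} (hf : (bd f : G9) ∈ M) : (bd f : G9) ∈ N9 hl := by
  classical
  have hB : ∀ g : Fin 3 → G3, (bd g : G9) ∈ M → ∀ i, g i ∈ subgroupNormalizer (H3 hl) := fun g hg i => by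
    by_contra hne
    exact hno (h.sl_of_block_big hl hp hp3 (h.shift_mem hl hg i) (by simpa using hne))
  have pair2 : ∀ g : Fin 3 → G3, (bd g : G9) ∈ M → g 0 ∈ scalars (Fin 3) F → ∀ v1 v2 : V3,
      Rel (std hl) (g 1) v1 → Rel (std hl) (g 2) v2 → v2 = v1 + v1 := by
    intro g hg g0 v1 v2 r1 r2
    by_contra hne
    obtain ⟨r, hr, hs, -⟩ := h.exists_s hl v1
    refine hno (h.sl_of_split hl hp hp3 (f := g * (![1, r, r * r] : Fin 3 → G3)⁻¹) ?_ ?_ ?_ (v := v2 - (v1 + v1))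
      ?_ (sub_ne_zero.2 hne))
    · rw [map_mul, map_inv]; exact mul_mem hg (inv_mem hs)
    · simpa using g0
    · exact inR_rel hl r1 hr
    · rw [sub_eq_add_neg]; exact r2.mul (hr.mul hr).inv
  have norm0 : ∀ g : Fin 3 → G3, (bd g : G9) ∈ M → ∃ m, m ∈ subgroupNormalizer (H3 hl) ∧ (tA m : G9) ∈ M ∧
      m⁻¹ * g 0 ∈ scalars (Fin 3) F := by
    intro g hg
    obtain ⟨k, hk, e, hkc⟩ := exists_lift hl (chiN hl ⟨g 0, hB g hg 0⟩)
    have hi : InR hl (k⁻¹ * g 0) := by
      refine inR_of_chi hl (mul_mem (inv_mem hk) (hB g hg 0)) ?_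
      show chiN hl (⟨k, hk⟩⁻¹ * ⟨g 0, hB g hg 0⟩) = 1
      rw [map_mul, map_inv, e, inv_mul_cancel]
    obtain ⟨u, hu⟩ := hi
    obtain ⟨c, hc, e'⟩ := exists_scalar_wd hl hu
    obtain ⟨n, d⟩ := good_of_closure hl hkc
    refine ⟨k * wd hl u, mul_mem n (h3_le hl (wd_mem hl u)), h.tA_mem hl (mul_mem n (h3_le hl (wd_mem hl u))) ?_, ?_⟩
    · rw [Units.val_mul, det_mul, det_wd, mul_one, d]
    · rw [_root_.mul_inv_rev, mul_assoc, e', (commute_scalar hc (wd hl u)).eq, inv_mul_cancel_left]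
      exact hc
  have chi12 : ∀ g : Fin 3 → G3, ∀ hg : (bd g : G9) ∈ M,
      chiN hl ⟨g 1, hB g hg 1⟩ = chiN hl ⟨g 2, hB g hg 2⟩ := by
    intro g hg
    obtain ⟨m, hm, hmM, hm0⟩ := norm0 g hg
    set g' : Fin 3 → G3 := (fun _ => m⁻¹) * g with hg'
    have hg'M : (bd g' : G9) ∈ M := by
      rw [hg', map_mul, bd_const, map_inv]; exact mul_mem (inv_mem hmM) hg
    have hb' := hB g' hg'M
    have heq : chiN hl ⟨g' 1, hb' 1⟩ = chiN hl ⟨g' 2, hb' 2⟩ := by
      have hw : ∀ w, av (chiN hl ⟨g' 1, hb' 1⟩) w = av (chiN hl ⟨g' 2, hb' 2⟩) w := by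
        intro w
        obtain ⟨r, hr, hs, -⟩ := h.exists_s hl w
        have hc : (bd (g' * ![1, r, r * r] * g'⁻¹ * (![1, r, r * r] : Fin 3 → G3)⁻¹) : G9) ∈ M := by
          rw [map_mul, map_mul, map_mul, map_inv, map_inv]
          exact mul_mem (mul_mem (mul_mem hg'M hs) (inv_mem hg'M)) (inv_mem hs)
        have e := pair2 _ hc (by simp) _ _ ((rel_av hl (hb' 1) hr).mul hr.inv)
          ((rel_av hl (hb' 2) (hr.mul hr)).mul (hr.mul hr).inv)
        have lin : ∀ A : SL23, av A (w + w) = av A w + av A w := fun A => by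
          simp [av, mul_add]; constructor <;> ring
        rw [lin] at e
        have key : ∀ a b w : ZMod 3 × ZMod 3, a + a + -(w + w) = b + -w + (b + -w) → b = a := by
          clear * -; decide +kernel
        exact key _ _ _ e
      exact av_ext (hw _) (hw _)
    have e : ∀ i, chiN hl ⟨g' i, hb' i⟩ = (chiN hl ⟨m, hm⟩)⁻¹ * chiN hl ⟨g i, hB g hg i⟩ := fun i => by
      rw [← map_inv, ← map_mul]; rfl
    rw [e, e] at heq
    exact mul_left_cancel heq
  have chi_all : ∀ i, chiN hl ⟨f i, hB f hf i⟩ = chiN hl ⟨f 0, hB f hf 0⟩ := by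
    have h12 := chi12 f hf
    have h20 := chi12 _ (h.shift_mem hl hf 1)
    simp only [show (1 : Fin 3) + 1 = 2 by decide, show (2 : Fin 3) + 1 = 0 by decide] at h20
    intro i
    fin_cases i
    · rfl
    · exact h12.trans h20
    · exact h20
  obtain ⟨m, hm, hmM, hm0⟩ := norm0 f hf
  set g : Fin 3 → G3 := (fun _ => m⁻¹) * f with hg
  have hgM : (bd g : G9) ∈ M := by
    rw [hg, map_mul, bd_const, map_inv]; exact mul_mem (inv_mem hmM) hf
  have hgi : ∀ i, InR hl (g i) := by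
    intro i
    refine inR_of_chi hl (hB g hgM i) ?_
    have e : ∀ j, chiN hl ⟨g j, hB g hgM j⟩ = (chiN hl ⟨m, hm⟩)⁻¹ * chiN hl ⟨f j, hB f hf j⟩ := fun j => by
      rw [← map_inv, ← map_mul]; rfl
    have e0 : chiN hl ⟨g 0, hB g hgM 0⟩ = 1 := chi_of_inR hl (inR_scalar hl hm0)
    rw [e] at e0
    rw [e, chi_all, e0]
  obtain ⟨v1, r1⟩ := hgi 1
  obtain ⟨v2, r2⟩ := hgi 2
  have hv := pair2 g hgM hm0 _ _ r1 r2
  obtain ⟨r, hr, hs, hs9⟩ := h.exists_s hl v1
  set c : Fin 3 → G3 := g * (![1, r, r * r] : Fin 3 → G3)⁻¹ with hc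
  have hcM : (bd c : G9) ∈ M := by rw [hc, map_mul, map_inv]; exact mul_mem hgM (inv_mem hs)
  have hcs : ∀ i, c i ∈ scalars (Fin 3) F := by
    intro i
    fin_cases i
    · simpa [hc, hg] using hm0
    · exact inR_rel hl r1 hr
    · exact inR_rel hl r2 (hv ▸ hr.mul hr)
  choose d hd using fun i => (mem_scalars_iff _).1 (hcs i)
  let D : G3 := Matrix.GeneralLinearGroup.mkOfDetNeZero (diagonal fun i => (d i : F))
    (by rw [det_diagonal]; exact Finset.prod_ne_zero_iff.2 fun i _ => (d i).ne_zero)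
  have hδ : (tB D : G9) = bd c := Units.ext (by
    ext x y
    rw [bd_apply, tB_eq, tp_apply, Units.val_one]
    show _ * (diagonal fun i => (d i : F)) x.2 y.2 = _
    by_cases hu : x.2 = y.2
    · rw [if_pos hu, hd, ← hu, diagonal_apply_eq]; simp [mul_comm]
    · rw [if_neg hu, diagonal_apply_ne _ hu, mul_zero])
  have hD : D ∈ subgroupNormalizer (H3 hl) := by
    have hA : (tA D : G9) ∈ M := by
      have := mul_mem (mul_mem (h.sw_mem hl) (hδ ▸ hcM : (tB D : G9) ∈ M)) (inv_mem (h.sw_mem hl))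
      rwa [sw_conj_tB] at this
    exact hB (fun _ => D) (by rwa [bd_const]) 0
  have e : (bd f : G9) = tA m * (tB D * bd ![1, r, r * r]) := by
    rw [hδ, ← bd_const, ← map_mul, ← map_mul]
    congr 1
    rw [hc, inv_mul_cancel_right, hg]
    funext i
    simp
  rw [e]
  exact mul_mem (tp_mem_N9 hl hm (one_mem _)) (mul_mem (tp_mem_N9 hl (one_mem _) hD) hs9)

/-- Centralisers of non-scalar elements lie in the normaliser, unless the special linear group is contained. -/
theorem Ctx.centralizer_le [Fintype F] (hp : (Fintype.card F).Prime) (hp3 : Fintype.card F % 3 = 1) (h : Ctx hl M)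
    (hno : ¬ specialLinear I9 F ≤ M) {x g : G9} (hx : x ∈ R9 hl) (hns : x ∉ scalars I9 F) (hg : g ∈ M)
    (hc : Commute g x) : g ∈ N9 hl := by
  obtain ⟨k, hk, hk9, e⟩ := h.to_tB hl hx hns
  have hc' : Commute (k * g * k⁻¹) (tB (aG hl)) := by
    have h1 : Commute (k * g * k⁻¹) (k * x * k⁻¹) := hc.map (MulAut.conj k).toMonoidHom
    set y := k * x * k⁻¹
    have e' : (tB (aG hl) : G9) = (y * (tB (aG hl))⁻¹)⁻¹ * y := by group
    rw [e']
    exact ((commute_scalar (inv_mem e) _).symm).mul_right h1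
  obtain ⟨f, hf⟩ := exists_bd hl hc'
  have hm : k * g * k⁻¹ ∈ N9 hl := by
    rw [hf]
    exact h.bd_mem_N9 hl hp hp3 hno (hf ▸ mul_mem (mul_mem hk hg) (inv_mem hk))
  have := mul_mem (mul_mem (inv_mem hk9) hm) hk9
  convert this using 1
  group

end CfsgLib.Geo.Nine
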