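import Cfsg.Agent.Lib.Geo.Nine.Commutant

/-!
# The two-group of order 128 and its normaliser
-/

set_option autoImplicit false
set_option maxHeartbeats 1000000

namespace CfsgLib.Geo.Nine

open Matrix Cfsg.Geo
open scoped Kronecker
open CfsgLib.Geo.Extra27 (amat bmat jmat Heis)
open CfsgLib.Geo.SL3.Maximal
open CfsgLib.Geo.SympNorm (commute_scalar)

variable {F : Type*} [Field F] {l : F}

local notation "M3" => Matrix (Fin 3) (Fin 3) F
local notation "G3" => GL (Fin 3) F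
local notation "V3" => ZMod 3 × ZMod 3
local notation "M9" => Matrix I9 I9 F
local notation "G9" => GL I9 F

theorem tA_injective : Function.Injective (tA : G3 → G9) := fun x y e => Units.ext (Matrix.ext fun i j => by
  simpa [tA_eq, tp_apply] using congrArg (fun g : G9 => (g : M9) ((i, 0) : I9) ((j, 0) : I9)) e)

theorem tB_injective : Function.Injective (tB : G3 → G9) := fun x y e => tA_injective (by
  rw [← sw_conj_tA, ← sw_conj_tA] at e
  exact mul_left_cancel (mul_right_cancel e))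

theorem trace_tp (x y : G3) : ((tp (x, y) : G9) : M9).trace = (x : M3).trace * (y : M3).trace := by
  rw [tp_val, trace_kronecker]

/-- The exchange of the two factors, of determinant one. -/
def sw' : GL I9 F := -(sw : GL I9 F)

theorem sw'_sq : (sw' * sw' : G9) = 1 := by rw [sw', neg_mul_neg, sw_sq]

theorem sw'_conj (x y : G3) : (sw' * tp (x, y) * sw'⁻¹ : G9) = tp (y, x) := by
  rw [inv_eq_of_mul_eq_one_right sw'_sq, sw', neg_mul, neg_mul_neg]
  have := sw_conj_tp x y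
  rwa [inv_eq_of_mul_eq_one_right sw_sq] at this

theorem sw'_comm (x y : G3) : (sw' * tp (x, y) : G9) = tp (y, x) * sw' := by
  rw [← sw'_conj x y, inv_mul_cancel_right]

theorem sw'_conj' (x y : G3) : (sw' * tp (x, y) * sw' : G9) = tp (y, x) := by
  have := sw'_conj x y
  rwa [inv_eq_of_mul_eq_one_right sw'_sq] at this

theorem trace_sw'_tp (x y : G3) : ((sw' * tp (x, y) : G9) : M9).trace = -((x : M3) * (y : M3)).trace := by
  rw [sw', neg_mul, Units.val_neg, Matrix.trace_neg, neg_inj, Units.val_mul, Matrix.trace]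
  simp only [Matrix.diag, Matrix.mul_apply, sw, pr_apply, tp_apply, Fintype.sum_prod_type, Matrix.trace]
  simp [Fin.sum_univ_three, Prod.ext_iff]
  ring

theorem hom_sub_mul {G H : Type*} [Group G] [Group H] {K : Subgroup G} (φ : K →* H) {x y : G} (hx : x ∈ K)
    (hy : y ∈ K) : φ ⟨x * y, mul_mem hx hy⟩ = φ ⟨x, hx⟩ * φ ⟨y, hy⟩ := map_mul φ ⟨x, hx⟩ ⟨y, hy⟩

variable (hl : IsPrimitiveRoot l 3)
include hl
variable [Finite F]

/-- The quaternion group. -/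
noncomputable def Q8 : Subgroup (GL (Fin 3) F) := Subgroup.closure {fG hl, gG hl}

theorem rels : fG hl * fG hl = jG hl ∧ gG hl * gG hl = jG hl ∧ gG hl * fG hl = jG hl * (fG hl * gG hl) ∧
    jG hl * jG hl = 1 := by
  have h3 := h3_ne hl
  refine ⟨fEl_sq _ _, gEl_sq _ _, ?_, jEl_sq _⟩
  show gEl _ _ * fEl _ _ = jEl _ * (fEl _ _ * gEl _ _)
  rw [fEl_gEl, ← mul_assoc, jEl_sq, one_mul]

theorem Q8_cases {q : G3} (hq : q ∈ Q8 hl) :
    q = 1 ∨ q = jG hl ∨ q = fG hl ∨ q = jG hl * fG hl ∨ q = gG hl ∨ q = jG hl * gG hl ∨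
      q = fG hl * gG hl ∨ q = jG hl * (fG hl * gG hl) := by
  obtain ⟨ff, gg, gf, jj⟩ := rels hl
  have fj : fG hl * jG hl = jG hl * fG hl := by rw [← ff, mul_assoc]
  have gj : gG hl * jG hl = jG hl * gG hl := by rw [← gg, mul_assoc]
  have ff' : ∀ z, fG hl * (fG hl * z) = jG hl * z := fun z => by rw [← mul_assoc, ff]
  have gg' : ∀ z, gG hl * (gG hl * z) = jG hl * z := fun z => by rw [← mul_assoc, gg]
  have jj' : ∀ z, jG hl * (jG hl * z) = z := fun z => by rw [← mul_assoc, jj, one_mul]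
  have fj' : ∀ z, fG hl * (jG hl * z) = jG hl * (fG hl * z) := fun z => by rw [← mul_assoc, fj, mul_assoc]
  have gj' : ∀ z, gG hl * (jG hl * z) = jG hl * (gG hl * z) := fun z => by rw [← mul_assoc, gj, mul_assoc]
  have gf' : ∀ z, gG hl * (fG hl * z) = jG hl * (fG hl * (gG hl * z)) := fun z => by
    rw [← mul_assoc, gf, mul_assoc, mul_assoc]
  have fi : (fG hl)⁻¹ = jG hl * fG hl := inv_eq_of_mul_eq_one_right (by simp [fj', ff, jj])
  have gi : (gG hl)⁻¹ = jG hl * gG hl := inv_eq_of_mul_eq_one_right (by simp [gj', gg, jj])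
  induction hq using Subgroup.closure_induction_left with
  | one => exact Or.inl rfl
  | mul_left x hx y _ ih =>
    rcases hx with rfl | rfl <;> rcases ih with rfl | rfl | rfl | rfl | rfl | rfl | rfl | rfl <;>
      simp [fj, gj, fj', gj', ff, gg, ff', gg', gf, gf', jj, jj']
  | inv_mul_cancel x hx y _ ih =>
    rcases hx with rfl | rfl <;> rcases ih with rfl | rfl | rfl | rfl | rfl | rfl | rfl | rfl <;>
      simp [fi, gi, mul_assoc, fj, gj, fj', gj', ff, gg, ff', gg', gf, gf', jj, jj']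

theorem Q8_le : Q8 hl ≤ subgroupNormalizer (H3 hl) ⊓ specialLinear (Fin 3) F := by
  rw [Q8, Subgroup.closure_le]
  rintro x (rfl | rfl)
  exacts [fG_mem hl, gG_mem hl]

theorem fG_Q8 : fG hl ∈ Q8 hl := Subgroup.subset_closure (Set.mem_insert _ _)

theorem gG_Q8 : gG hl ∈ Q8 hl := Subgroup.subset_closure (Set.mem_insert_of_mem _ rfl)

theorem jG_Q8 : jG hl ∈ Q8 hl := (rels hl).1 ▸ mul_mem (fG_Q8 hl) (fG_Q8 hl)

/-- The action on exponent vectors of the quaternion group. -/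
noncomputable def chQ : Q8 hl →* SL23 :=
  (chiN hl).comp (Subgroup.inclusion ((Q8_le hl).trans inf_le_left))

theorem chQ_vals : chQ hl ⟨fG hl, fG_Q8 hl⟩ = cf ∧ chQ hl ⟨gG hl, gG_Q8 hl⟩ = cg ∧
    chQ hl ⟨jG hl, jG_Q8 hl⟩ = cf * cf := by
  have h1 : chQ hl ⟨fG hl, fG_Q8 hl⟩ = cf := chi_fG hl
  refine ⟨h1, chi_gG hl, ?_⟩
  rw [← h1, ← map_mul]
  congr 1
  exact Subtype.ext (rels hl).1.symm

theorem chQ_cases (q : Q8 hl) :
    (chQ hl q = 1 ∧ (q : G3) = 1) ∨ (chQ hl q = cf * cf ∧ (q : G3) = jG hl) ∨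
      ((chQ hl q * chQ hl q ≠ 1) ∧ ((q : G3) : M3).trace = 1) := by
  obtain ⟨h1, h2, h3⟩ := chQ_vals hl
  have hv := fun {x y : G3} (hx : x ∈ Q8 hl) (hy : y ∈ Q8 hl) => hom_sub_mul (chQ hl) hx hy
  have tf : ((fG hl : G3) : M3).trace = 1 := by
    rw [fG_val, fmat, Matrix.trace_smul, Matrix.trace, Fin.sum_univ_three]
    have := inv_mul_cancel₀ (sub_sq_ne hl (h3_ne hl))
    have := geom hl
    simp
    grind
  have tg : ((gG hl : G3) : M3).trace = 1 := by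
    rw [gG_eq, Units.val_mul, Units.val_mul, trace_mul_comm, ← mul_assoc, Units.inv_mul, one_mul, tf]
  have tfg : ((fG hl * gG hl : G3) : M3).trace = 1 := by
    rw [Units.val_mul, fG_val, gG_val]
    have hs := inv_sq_mul hl (h3_ne hl)
    have hp := hl.pow_eq_one
    have hg := geom hl
    simp only [gmat, fmat, smul_mul_assoc, mul_smul_comm, smul_smul]
    rw [Matrix.trace_smul, Matrix.trace, Fin.sum_univ_three]
    simp [dmat, Matrix.mul_apply, Fin.sum_univ_three, Matrix.vecMul, dotProduct]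
    grind
  obtain ⟨ff, gg, gf, jj⟩ := rels hl
  have tjf : ((jG hl * fG hl : G3) : M3).trace = 1 := by
    have e : jG hl * fG hl = gG hl * fG hl * (gG hl)⁻¹ := by
      rw [eq_mul_inv_iff_mul_eq, mul_assoc, ← gf]
    rw [e, Units.val_mul, Units.val_mul, trace_mul_comm, ← mul_assoc, Units.inv_mul, one_mul, tf]
  have tjg : ((jG hl * gG hl : G3) : M3).trace = 1 := by
    have e : jG hl * gG hl = fG hl * gG hl * (fG hl)⁻¹ := by
      rw [eq_mul_inv_iff_mul_eq, mul_assoc, gf, ← mul_assoc, jj, one_mul]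
    rw [e, Units.val_mul, Units.val_mul, trace_mul_comm, ← mul_assoc, Units.inv_mul, one_mul, tg]
  have tjfg : ((jG hl * (fG hl * gG hl) : G3) : M3).trace = 1 := by
    rw [← gf, Units.val_mul, trace_mul_comm, ← Units.val_mul, tfg]
  obtain ⟨x, hx⟩ := q
  rcases Q8_cases hl hx with rfl | rfl | rfl | rfl | rfl | rfl | rfl | rfl
  · exact Or.inl ⟨map_one _, rfl⟩
  · exact Or.inr (Or.inl ⟨h3, rfl⟩)
  · exact Or.inr (Or.inr ⟨by rw [h1]; clear * -; decide +kernel, tf⟩)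
  · exact Or.inr (Or.inr ⟨by rw [hv (jG_Q8 hl) (fG_Q8 hl), h1, h3]; clear * -; decide +kernel, tjf⟩)
  · exact Or.inr (Or.inr ⟨by rw [h2]; clear * -; decide +kernel, tg⟩)
  · exact Or.inr (Or.inr ⟨by rw [hv (jG_Q8 hl) (gG_Q8 hl), h2, h3]; clear * -; decide +kernel, tjg⟩)
  · exact Or.inr (Or.inr ⟨by rw [hv (fG_Q8 hl) (gG_Q8 hl), h1, h2]; clear * -; decide +kernel, tfg⟩)
  · exact Or.inr (Or.inr ⟨by
      rw [hv (jG_Q8 hl) (mul_mem (fG_Q8 hl) (gG_Q8 hl)), hv (fG_Q8 hl) (gG_Q8 hl), h1, h2, h3]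
      clear * -; decide +kernel, tjfg⟩)

theorem chQ_injective : Function.Injective (chQ hl) := by
  refine (injective_iff_map_eq_one _).2 fun q hq => ?_
  rcases chQ_cases hl q with ⟨-, e⟩ | ⟨e, -⟩ | ⟨e, -⟩
  · exact Subtype.ext e
  · rw [hq] at e; exact absurd e (by clear * -; decide +kernel)
  · exact absurd (by rw [hq, one_mul]) e

omit hl [Finite F] in
theorem sl23_four_aux : ∀ a b c d : ZMod 3, a * d - b * c = 1 → mk23 a b c d ^ 4 = 1 →
    ∃ i : Fin 4, ∃ j : Fin 4, cf ^ (i : ℕ) * cg ^ (j : ℕ) = mk23 a b c d := by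
  clear * -
  decide +kernel

omit hl [Finite F] in
theorem sl23_four_comm_aux : ∀ i j i' j' i'' j'' : Fin 4,
    Commute (cf ^ (i : ℕ) * cg ^ (j : ℕ)) (cf ^ (i' : ℕ) * cg ^ (j' : ℕ)) →
    Commute (cf ^ (i : ℕ) * cg ^ (j : ℕ)) (cf ^ (i'' : ℕ) * cg ^ (j'' : ℕ)) →
    ¬ Commute (cf ^ (i' : ℕ) * cg ^ (j' : ℕ)) (cf ^ (i'' : ℕ) * cg ^ (j'' : ℕ)) →
    (cf ^ (i : ℕ) * cg ^ (j : ℕ)) * (cf ^ (i : ℕ) * cg ^ (j : ℕ)) = 1 := by
  clear * -
  unfold Commute SemiconjBy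
  decide +kernel

theorem exists_q {A : SL23} (hA : A ^ 4 = 1) : ∃ q : Q8 hl, chQ hl q = A := by
  obtain ⟨i, j, e⟩ := sl23_cases (P := fun A => A ^ 4 = 1 → ∃ i : Fin 4, ∃ j : Fin 4, cf ^ (i : ℕ) * cg ^ (j : ℕ) = A)
    sl23_four_aux A hA
  exact ⟨⟨fG hl, fG_Q8 hl⟩ ^ (i : ℕ) * ⟨gG hl, gG_Q8 hl⟩ ^ (j : ℕ), by
    rw [map_mul, map_pow, map_pow, (chQ_vals hl).1, (chQ_vals hl).2.1, e]⟩

theorem chQ_pow (q : Q8 hl) : chQ hl q ^ 4 = 1 := by
  obtain ⟨h1, h2, h3⟩ := chQ_vals hl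
  obtain ⟨x, hx⟩ := q
  have hv := fun {x y : G3} (hx : x ∈ Q8 hl) (hy : y ∈ Q8 hl) => hom_sub_mul (chQ hl) hx hy
  rcases Q8_cases hl hx with rfl | rfl | rfl | rfl | rfl | rfl | rfl | rfl
  · rw [show (⟨1, hx⟩ : Q8 hl) = 1 from rfl, map_one, one_pow]
  · rw [h3]; clear * -; decide +kernel
  · rw [h1]; clear * -; decide +kernel
  · rw [hv (jG_Q8 hl) (fG_Q8 hl), h1, h3]; clear * -; decide +kernel
  · rw [h2]; clear * -; decide +kernel
  · rw [hv (jG_Q8 hl) (gG_Q8 hl), h2, h3]; clear * -; decide +kernel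
  · rw [hv (fG_Q8 hl) (gG_Q8 hl), h1, h2]; clear * -; decide +kernel
  · rw [hv (jG_Q8 hl) (mul_mem (fG_Q8 hl) (gG_Q8 hl)), hv (fG_Q8 hl) (gG_Q8 hl), h1, h2, h3]; clear * -; decide +kernel

theorem Q8_center {q q₁ q₂ : G3} (hq : q ∈ Q8 hl) (h₁ : q₁ ∈ Q8 hl) (h₂ : q₂ ∈ Q8 hl) (c₁ : Commute q q₁)
    (c₂ : Commute q q₂) (hne : ¬ Commute q₁ q₂) : q * q = 1 := by
  have four : ∀ A : SL23, A ^ 4 = 1 → ∃ i : Fin 4, ∃ j : Fin 4, cf ^ (i : ℕ) * cg ^ (j : ℕ) = A := fun A => by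
    clear * - A
    exact sl23_cases (P := fun A => A ^ 4 = 1 → ∃ i : Fin 4, ∃ j : Fin 4, cf ^ (i : ℕ) * cg ^ (j : ℕ) = A)
      sl23_four_aux A
  obtain ⟨i, j, e⟩ := four _ (chQ_pow hl ⟨q, hq⟩)
  obtain ⟨i', j', e'⟩ := four _ (chQ_pow hl ⟨q₁, h₁⟩)
  obtain ⟨i'', j'', e''⟩ := four _ (chQ_pow hl ⟨q₂, h₂⟩)
  have k1 : Commute (⟨q, hq⟩ : Q8 hl) ⟨q₁, h₁⟩ := Subtype.ext c₁.eq
  have k2 : Commute (⟨q, hq⟩ : Q8 hl) ⟨q₂, h₂⟩ := Subtype.ext c₂.eq
  have h := sl23_four_comm_aux i j i' j' i'' j'' (by rw [e, e']; exact k1.map (chQ hl))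
    (by rw [e, e'']; exact k2.map (chQ hl)) (by
      rw [e', e'']
      intro hc
      have hq : chQ hl (⟨q₁, h₁⟩ * ⟨q₂, h₂⟩) = chQ hl (⟨q₂, h₂⟩ * ⟨q₁, h₁⟩) := by rw [map_mul, map_mul, hc.eq]
      exact hne (congrArg Subtype.val (chQ_injective hl hq)))
  rw [e, ← map_mul, ← map_one (chQ hl)] at h
  exact congrArg Subtype.val (chQ_injective hl h)

/-- The two-group of order 128. -/
noncomputable def S0 : Subgroup (GL I9 F) where
  carrier := {x | ∃ q ∈ Q8 hl, ∃ q' ∈ Q8 hl, x = tp (q, q') ∨ x = sw' * tp (q, q')}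
  one_mem' := ⟨1, one_mem _, 1, one_mem _, Or.inl (by rw [show ((1 : G3), (1 : G3)) = 1 from rfl, map_one])⟩
  mul_mem' := by
    rintro _ _ ⟨q, hq, q', hq', rfl | rfl⟩ ⟨p, hp, p', hp', rfl | rfl⟩
    · exact ⟨q * p, mul_mem hq hp, q' * p', mul_mem hq' hp', Or.inl (by rw [← map_mul]; rfl)⟩
    · refine ⟨q' * p, mul_mem hq' hp, q * p', mul_mem hq hp', Or.inr ?_⟩
      rw [← mul_assoc, ← sw'_comm, mul_assoc, ← map_mul]; rfl
    · exact ⟨q * p, mul_mem hq hp, q' * p', mul_mem hq' hp', Or.inr (by rw [mul_assoc, ← map_mul]; rfl)⟩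
    · refine ⟨q' * p, mul_mem hq' hp, q * p', mul_mem hq hp', Or.inl ?_⟩
      rw [sw'_comm, mul_assoc, ← mul_assoc sw' sw', sw'_sq, one_mul, ← map_mul]; rfl
  inv_mem' := by
    rintro _ ⟨q, hq, q', hq', rfl | rfl⟩
    · exact ⟨q⁻¹, inv_mem hq, q'⁻¹, inv_mem hq', Or.inl (by rw [← map_inv]; rfl)⟩
    · refine ⟨q'⁻¹, inv_mem hq', q⁻¹, inv_mem hq, Or.inr ?_⟩
      rw [_root_.mul_inv_rev, inv_eq_of_mul_eq_one_right sw'_sq, ← map_inv, sw'_comm]; rfl

theorem sw'_mem_S0 : (sw' : G9) ∈ S0 hl :=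
  ⟨1, one_mem _, 1, one_mem _, Or.inr (by rw [show ((1 : G3), (1 : G3)) = 1 from rfl, map_one, mul_one])⟩

theorem tp_mem_S0 {q q' : G3} (hq : q ∈ Q8 hl) (hq' : q' ∈ Q8 hl) : (tp (q, q') : G9) ∈ S0 hl :=
  ⟨q, hq, q', hq', Or.inl rfl⟩

theorem trace_Q8 {q : G3} (hq : q ∈ Q8 hl) :
    (q = 1 ∧ (q : M3).trace = 3) ∨ (q = jG hl ∧ (q : M3).trace = -1) ∨ (q * q ≠ 1 ∧ (q : M3).trace = 1) := by
  rcases chQ_cases hl ⟨q, hq⟩ with ⟨-, e⟩ | ⟨-, e⟩ | ⟨hne, e⟩
  · left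
    change q = 1 at e
    subst e
    simp
  · right; left
    change q = jG hl at e
    subst e
    refine ⟨rfl, ?_⟩
    rw [jG_val, Matrix.trace, Fin.sum_univ_three]
    simp [jmat]
  · right; right
    refine ⟨fun h => hne ?_, e⟩
    rw [← map_mul, show (⟨q, hq⟩ * ⟨q, hq⟩ : Q8 hl) = 1 from Subtype.ext h, map_one]

/-- The six elements of order four in one of the two factors. -/
theorem trace_three (h2 : (2 : F) ≠ 0) {x : G9} (hx : x ∈ S0 hl) (ht : (x : M9).trace = 3) :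
    ∃ q ∈ Q8 hl, q * q ≠ 1 ∧ (x = tA q ∨ x = tB q) := by
  have h3 := h3_ne hl
  have h4 : (4 : F) ≠ 0 := by rw [show (4 : F) = 2 * 2 by norm_num]; exact mul_ne_zero h2 h2
  have h6 : (6 : F) ≠ 0 := by rw [show (6 : F) = 2 * 3 by norm_num]; exact mul_ne_zero h2 h3
  obtain ⟨q, hq, q', hq', rfl | rfl⟩ := hx
  · rw [trace_tp] at ht
    rcases trace_Q8 hl hq with ⟨rfl, e⟩ | ⟨rfl, e⟩ | ⟨hn, e⟩ <;>
      rcases trace_Q8 hl hq' with ⟨rfl, e'⟩ | ⟨rfl, e'⟩ | ⟨hn', e'⟩ <;> simp only [e, e'] at ht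
    · exact absurd (by linear_combination ht : (6 : F) = 0) h6
    · exact absurd (by linear_combination -ht : (6 : F) = 0) h6
    · exact ⟨q', hq', hn', Or.inr rfl⟩
    · exact absurd (by linear_combination -ht : (6 : F) = 0) h6
    · exact absurd (by linear_combination -ht : (2 : F) = 0) h2
    · exact absurd (by linear_combination -ht : (4 : F) = 0) h4
    · exact ⟨q, hq, hn, Or.inl rfl⟩
    · exact absurd (by linear_combination -ht : (4 : F) = 0) h4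
    · exact absurd (by linear_combination -ht : (2 : F) = 0) h2
  · rw [trace_sw'_tp, ← Units.val_mul] at ht
    rcases trace_Q8 hl (mul_mem hq hq') with ⟨-, e⟩ | ⟨-, e⟩ | ⟨-, e⟩ <;> rw [e] at ht
    · exact absurd (by linear_combination -ht : (6 : F) = 0) h6
    · exact absurd (by linear_combination -ht : (2 : F) = 0) h2
    · exact absurd (by linear_combination -ht : (4 : F) = 0) h4

/-- The only involution of trace one. -/
theorem involution_trace_one (h2 : (2 : F) ≠ 0) {x : G9} (hx : x ∈ S0 hl) (hx2 : x * x = 1)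
    (ht : (x : M9).trace = 1) : x = tp (jG hl, jG hl) := by
  have h4 : (4 : F) ≠ 0 := by rw [show (4 : F) = 2 * 2 by norm_num]; exact mul_ne_zero h2 h2
  have h8 : (8 : F) ≠ 0 := by rw [show (8 : F) = 2 * (2 * 2) by norm_num]; exact mul_ne_zero h2 (mul_ne_zero h2 h2)
  have hone : ∀ {q : G3}, q ∈ Q8 hl → q ∈ scalars (Fin 3) F → q = 1 := by
    intro q hq hs
    have e : chQ hl ⟨q, hq⟩ = 1 := chi_of_inR hl (inR_scalar hl hs)
    rw [← map_one (chQ hl)] at e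
    exact congrArg Subtype.val (chQ_injective hl e)
  have hscal : ∀ {a b : G3}, a ∈ Q8 hl → b ∈ Q8 hl → (tp (a, b) : G9) = 1 → a = 1 ∧ b = 1 := fun ha hb e => by
    obtain ⟨h1, h2⟩ := tp_scalar (e ▸ one_mem (scalars I9 F) : (tp (_, _) : G9) ∈ scalars I9 F)
    exact ⟨hone ha h1, hone hb h2⟩
  obtain ⟨q, hq, q', hq', rfl | rfl⟩ := hx
  · rw [← map_mul] at hx2
    obtain ⟨s, s'⟩ := hscal (mul_mem hq hq) (mul_mem hq' hq') hx2
    rw [trace_tp] at ht
    rcases trace_Q8 hl hq with ⟨rfl, e⟩ | ⟨rfl, e⟩ | ⟨hn, e⟩ <;>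
      rcases trace_Q8 hl hq' with ⟨rfl, e'⟩ | ⟨rfl, e'⟩ | ⟨hn', e'⟩ <;> simp only [e, e'] at ht <;>
      first
        | rfl
        | exact absurd s hn
        | exact absurd s' hn'
        | exact absurd (by linear_combination ht : (8 : F) = 0) h8
        | exact absurd (by linear_combination -ht : (4 : F) = 0) h4
  · rw [show sw' * tp (q, q') * (sw' * tp (q, q')) = tp (q' * q, q * q') by
      rw [← mul_assoc, sw'_conj', ← map_mul]; rfl] at hx2
    obtain ⟨-, s⟩ := hscal (mul_mem hq' hq) (mul_mem hq hq') hx2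
    rw [trace_sw'_tp, ← Units.val_mul, s, Units.val_one, Matrix.trace_one] at ht
    exact absurd (by simp at ht; linear_combination -ht : (4 : F) = 0) h4

variable {M : Subgroup (GL I9 F)}

/-- The shape of an element commuting with the quaternion group on the first factor. -/
theorem Ctx.commutant_form [Fintype F] (hp : (Fintype.card F).Prime) (hp3 : Fintype.card F % 3 = 1) (h : Ctx hl M)
    (hno : ¬ specialLinear I9 F ≤ M) (h2 : (2 : F) ≠ 0) {g : G9} (hg : g ∈ M) (h1 : Commute g (tA (fG hl)))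
    (h1' : Commute g (tA (gG hl))) :
    ∃ x ∈ subgroupNormalizer (H3 hl), g = tB x ∨ g = tp (jG hl, x) := by
  obtain ⟨x, y, rfl⟩ := exists_pm hl h2 h1 h1'
  obtain ⟨hx, hs⟩ := of_pm_mem_N9 hl h2 (h.pm_mem_N9 hl hp hp3 hno h2 hg)
  have hm : (pm h2 (1, x⁻¹ * y) : G9) ∈ M := by
    have := mul_mem (inv_mem (h.tB_mem_all hl hx)) hg
    rw [← pm_diag h2, ← map_inv, ← map_mul] at this
    simpa using this
  refine ⟨x, hx, ?_⟩
  rcases h.pm_one_cases hl hp hp3 hno h2 hm with e | e <;> rw [inv_mul_eq_iff_eq_mul] at e <;> subst e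
  · left; rw [mul_one, pm_diag]
  · right; rw [mul_neg, mul_one, pm_neg hl]

/-- An element preserving the quaternion groups on both factors sends the first factor to itself. -/
theorem Ctx.side_image [Fintype F] (hp : (Fintype.card F).Prime) (hp3 : Fintype.card F % 3 = 1) (h : Ctx hl M)
    (hno : ¬ specialLinear I9 F ≤ M) (h2 : (2 : F) ≠ 0) {k : G9} (hk : k ∈ M)
    (hB : ∀ t ∈ ({fG hl, gG hl} : Set G3), ∃ q ∈ Q8 hl, k * tB q * k⁻¹ = tB t)
    (hA : ∀ t ∈ ({fG hl, gG hl} : Set G3), ∃ q ∈ Q8 hl, k * tA q * k⁻¹ = tA t)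
    {z : G3} (hz : z ∈ H3 hl) : ∃ x, InR hl x ∧ k * tA z * k⁻¹ = tA x := by
  have hzN := h3_le hl hz
  set y := k * tA z * k⁻¹ with hy
  have hyM : sw * y * sw⁻¹ ∈ M :=
    mul_mem (mul_mem (h.sw_mem hl) (mul_mem (mul_mem hk (h.tA_mem_all hl hzN)) (inv_mem hk))) (inv_mem (h.sw_mem hl))
  have hcom : ∀ t ∈ ({fG hl, gG hl} : Set G3), Commute (sw * y * sw⁻¹) (tA t) := by
    intro t ht
    obtain ⟨q, -, e⟩ := hB t ht
    rw [← sw_conj_tB t]
    refine Commute.map ?_ (MulAut.conj sw).toMonoidHom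
    rw [← e]
    exact (commute_tA_tB z q).map (MulAut.conj k).toMonoidHom
  obtain ⟨x, hx, e | e⟩ := h.commutant_form hl hp hp3 hno h2 hyM (hcom _ (Set.mem_insert _ _))
    (hcom _ (Set.mem_insert_of_mem _ rfl))
  swap
  · exfalso
    obtain ⟨v, hv⟩ := exists_rel (h := std hl) hz
    have hz3 := hv.pow 3
    rw [v3_three] at hz3
    have hsc : (sw * y * sw⁻¹) ^ 3 ∈ scalars I9 F := by
      rw [conj_pow]
      refine (scalars_normal (ι := I9) (F := F)).conj_mem _ ?_ sw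
      rw [hy, conj_pow, ← map_pow]
      exact (scalars_normal (ι := I9) (F := F)).conj_mem _ (tA_scalars hz3.scalar) k
    rw [e, ← map_pow, Prod.pow_mk, pow_succ, pow_two, (rels hl).2.2.2, one_mul] at hsc
    exact jEl_not_scalar (std hl) (tp_scalar hsc).1
  have e' : y = tA x := by
    rw [← sw_conj_tA] at e
    exact mul_left_cancel (mul_right_cancel e)
  refine ⟨x, ?_, e'⟩
  obtain ⟨v, hv⟩ := exists_rel (h := std hl) hz
  have hx3 : InR hl (x ^ 3) := by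
    refine inR_scalar hl (tp_scalar (y := 1) ?_).1
    rw [← tA_eq, map_pow, ← e', hy, conj_pow, ← map_pow]
    have hz3 := hv.pow 3
    rw [v3_three] at hz3
    exact (scalars_normal (ι := I9) (F := F)).conj_mem _ (tA_scalars hz3.scalar) k
  have hcomm : ∀ t ∈ ({fG hl, gG hl} : Set G3), InR hl (x * (t * x * t⁻¹) * x⁻¹ * (t * x * t⁻¹)⁻¹) := by
    intro t ht
    obtain ⟨q, hq, eq⟩ := hA t ht
    refine inR_scalar hl (tp_scalar (y := 1) ?_).1
    rw [← tA_eq]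
    simp only [map_mul, map_inv, ← e', hy, ← eq]
    have hqz := rel_av hl ((Q8_le hl hq).1) hv
    have h0 := ((hv.mul hqz).mul hv.inv).mul hqz.inv
    rw [add_neg_cancel_comm, add_neg_cancel] at h0
    convert (scalars_normal (ι := I9) (F := F)).conj_mem _ (tA_scalars h0.scalar) k using 1
    simp only [map_mul, map_inv]
    group
  exact inR_of_abelian hl hx hx3 (hcomm _ (Set.mem_insert _ _)) (hcomm _ (Set.mem_insert_of_mem _ rfl))

/-- The component of an element preserving one factor. -/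
theorem exists_component {x x' : G3} (hx : InR hl x) (hx' : InR hl x') (hc : x * x' * x⁻¹ * x'⁻¹ =
    aG hl * bG hl * (aG hl)⁻¹ * (bG hl)⁻¹) : ∃ g ∈ subgroupNormalizer (H3 hl),
    g * aG hl * g⁻¹ * x⁻¹ ∈ scalars (Fin 3) F ∧ g * bG hl * g⁻¹ * x'⁻¹ ∈ scalars (Fin 3) F := by
  obtain ⟨v, hv⟩ := hx
  obtain ⟨v', hv'⟩ := hx'
  have hval : ((x * x' * x⁻¹ * x'⁻¹ : G3) : M3) = l • 1 := by
    rw [hc, Units.val_mul, Units.val_mul, Units.val_mul, comm_ab hl, smul_mul_assoc, smul_mul_assoc,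
      mul_assoc (bG hl : M3), Units.mul_inv, mul_one, Units.mul_inv]
  have hpair : pair v v' = 1 := by
    obtain ⟨c, hc', e⟩ := exists_scalar_wd hl hv'
    have hcp : (x : M3) * (wd hl v' : M3) = SL3.Maximal.lp l (pair v v') • ((wd hl v' : M3) * x) :=
      comm_pair (std hl) (wd_mem hl v') hv (rel_wd hl v')
    have e2 : x * x' * x⁻¹ * x'⁻¹ = x * wd hl v' * x⁻¹ * (wd hl v')⁻¹ := by
      rw [e]
      calc x * (c * wd hl v') * x⁻¹ * (c * wd hl v')⁻¹
          = x * c * (wd hl v' * x⁻¹ * (wd hl v')⁻¹) * c⁻¹ := by group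
        _ = c * (x * wd hl v' * x⁻¹ * (wd hl v')⁻¹) * c⁻¹ := by rw [← (commute_scalar hc' x).eq]; group
        _ = _ := by rw [(commute_scalar hc' _).eq, mul_inv_cancel_right]
    rw [e2, Units.val_mul, Units.val_mul, Units.val_mul, hcp, smul_mul_assoc, smul_mul_assoc,
      mul_assoc (wd hl v' : M3), Units.mul_inv, mul_one, Units.mul_inv] at hval
    refine SL3.Maximal.lp_inj hl ?_
    rw [SL3.Maximal.lp, SL3.Maximal.lp, ZMod.val_one, pow_one]
    simpa [SL3.Maximal.lp] using congrFun₂ hval 0 0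
  have key : ∀ v v' : ZMod 3 × ZMod 3, pair v v' = 1 → ∃ a b c d : ZMod 3, a * d - b * c = 1 ∧
      a * 0 + b * 1 = v.1 ∧ c * 0 + d * 1 = v.2 ∧ a * 2 + b * 0 = v'.1 ∧ c * 2 + d * 0 = v'.2 := by
    unfold pair; clear * -; decide +kernel
  obtain ⟨a, b, c, d, hd, e1, e2, e3, e4⟩ := key v v' hpair
  obtain ⟨g, hg, e, -⟩ := exists_lift hl (mk23 a b c d)
  have hm : (mk23 a b c d : SL23).1 = !![a, b; c, d] := by
    unfold mk23; exact congrArg Subtype.val (dif_pos hd)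
  have ha := rel_av hl hg (rel_a (h := std hl))
  have hb := rel_av hl hg (rel_b (h := std hl))
  rw [e] at ha hb
  refine ⟨g, hg, inR_rel hl ha ?_, inR_rel hl hb ?_⟩
  · convert hv using 1; simp [av, hm] at e1 e2 ⊢; exact Prod.ext e1 e2
  · convert hv' using 1; simp [av, hm] at e3 e4 ⊢; exact Prod.ext e3 e4

theorem pow_eight {x : G9} (hx : x ∈ S0 hl) : x ^ 8 = 1 := by
  have h4 : ∀ {q : G3}, q ∈ Q8 hl → q ^ 4 = 1 := by
    intro q hq
    have e := chQ_pow hl ⟨q, hq⟩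
    rw [← map_pow, ← map_one (chQ hl)] at e
    exact congrArg Subtype.val (chQ_injective hl e)
  have h4' : ∀ {q q' : G3}, q ∈ Q8 hl → q' ∈ Q8 hl → (tp (q, q') : G9) ^ 4 = 1 := fun hq hq' => by
    rw [← map_pow, Prod.pow_mk, h4 hq, h4 hq']; exact map_one _
  obtain ⟨q, hq, q', hq', rfl | rfl⟩ := hx
  · rw [show 8 = 4 * 2 from rfl, pow_mul, h4' hq hq', one_pow]
  · rw [show 8 = 2 * 4 from rfl, pow_mul, pow_two, ← mul_assoc, sw'_conj', ← map_mul, Prod.mk_mul_mk]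
    exact h4' (mul_mem hq' hq) (mul_mem hq hq')

theorem det_Q8 {q : G3} (hq : q ∈ Q8 hl) : (q : M3).det = 1 := det_one_of_mem (Q8_le hl hq).2

/-- An element normalising the two-group and both sides lies in it. -/
theorem Ctx.fixing_sides [Fintype F] (hp : (Fintype.card F).Prime) (hp3 : Fintype.card F % 3 = 1)
    (h : Ctx hl M) (hno : ¬ specialLinear I9 F ≤ M) (h2 : (2 : F) ≠ 0) {k : G9} (hk : k ∈ M)
    (hd : (k : M9).det = 1) {n : ℕ} (hn : k ^ 2 ^ n = 1) (hnorm : ∀ x ∈ S0 hl, k * x * k⁻¹ ∈ S0 hl)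
    (hside : ∀ t ∈ ({fG hl, gG hl} : Set G3), ∃ q ∈ Q8 hl, q * q ≠ 1 ∧ k * tA t * k⁻¹ = tA q) :
    k ∈ S0 hl := by
  classical
  obtain ⟨qf, hqf, hqf2, ef⟩ := hside _ (Set.mem_insert _ _)
  obtain ⟨qg, hqg, hqg2, eg⟩ := hside _ (Set.mem_insert_of_mem _ rfl)
  have hncfg : ¬ Commute (fG hl) (gG hl) := by
    intro hc
    have e : chQ hl (⟨fG hl, fG_Q8 hl⟩ * ⟨gG hl, gG_Q8 hl⟩) = chQ hl (⟨gG hl, gG_Q8 hl⟩ * ⟨fG hl, fG_Q8 hl⟩) :=
      congrArg (chQ hl) (Subtype.ext hc.eq)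
    rw [map_mul, map_mul, (chQ_vals hl).1, (chQ_vals hl).2.1] at e
    exact absurd e (by clear * -; decide +kernel)
  have hnc' : ¬ Commute qf qg := by
    intro hc
    refine hncfg ?_
    have e1 : Commute (k * tA (fG hl) * k⁻¹) (k * tA (gG hl) * k⁻¹) := by
      rw [ef, eg]; exact hc.map tA
    have e2 := e1.map (MulAut.conj k⁻¹).toMonoidHom
    simp only [MulEquiv.coe_toMonoidHom, MulAut.conj_apply, inv_inv, ← mul_assoc, inv_mul_cancel, one_mul,
      inv_mul_cancel_right] at e2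
    exact tA_injective ((map_mul tA _ _).trans (e2.eq.trans (map_mul tA _ _).symm))
  have trace_conj : ∀ x : G9, ((k * x * k⁻¹ : G9) : M9).trace = (x : M9).trace := fun x => by
    rw [Units.val_mul, Units.val_mul, trace_mul_comm, ← mul_assoc, Units.inv_mul, one_mul]
  have hBf : ∀ t ∈ ({fG hl, gG hl} : Set G3), ∃ q ∈ Q8 hl, q * q ≠ 1 ∧ k * tB t * k⁻¹ = tB q := by
    intro t ht
    have htQ : t ∈ Q8 hl := Subgroup.subset_closure ht
    have ht1 : (t : M3).trace = 1 := by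
      rcases trace_Q8 hl htQ with ⟨e, -⟩ | ⟨e, -⟩ | ⟨-, e⟩
      · rcases ht with rfl | rfl
        · exact absurd (by rw [e]; exact Commute.one_left _) hncfg
        · rw [Set.mem_singleton_iff.1 (rfl : gG hl ∈ ({gG hl} : Set G3))] at e
          exact absurd (by rw [e]; exact Commute.one_right _) hncfg
      · rcases ht with rfl | rfl
        · exact absurd (by rw [e, ← (rels hl).2.1]; exact (Commute.refl _).mul_left (Commute.refl _)) hncfg
        · change gG hl = jG hl at e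
          exact absurd (by rw [e, ← (rels hl).1]; exact (Commute.refl _).mul_right (Commute.refl _)) hncfg
      · exact e
    have hm : k * tB t * k⁻¹ ∈ S0 hl := hnorm _ (tp_mem_S0 hl (one_mem _) htQ)
    obtain ⟨q, hq, hq2, e | e⟩ := trace_three hl h2 hm (by
      rw [trace_conj, tB_eq, trace_tp, ht1, Units.val_one, Matrix.trace_one]; simp)
    · exfalso
      have hc : ∀ {a b : G3}, k * tA a * k⁻¹ = tA b → Commute q b := fun {a b} eb => by
        have h1 := (commute_tA_tB a t).symm.map (MulAut.conj k).toMonoidHom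
        simp only [MulEquiv.coe_toMonoidHom, MulAut.conj_apply] at h1
        rw [e, eb] at h1
        exact tA_injective ((map_mul tA _ _).trans (h1.eq.trans (map_mul tA _ _).symm))
      exact hq2 (Q8_center hl hq hqf hqg (hc ef) (hc eg) hnc')
    · exact ⟨q, hq, hq2, e⟩
  have back : ∀ (φ : G3 →* G9), (∀ t ∈ ({fG hl, gG hl} : Set G3), ∃ q ∈ Q8 hl, q * q ≠ 1 ∧ k * φ t * k⁻¹ = φ q) →
      ∀ t ∈ ({fG hl, gG hl} : Set G3), ∃ q ∈ Q8 hl, k * φ q * k⁻¹ = φ t := by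
    intro φ hφ t ht
    have hle : ((Q8 hl).map φ).map (MulAut.conj k).toMonoidHom ≤ (Q8 hl).map φ := by
      rw [Subgroup.map_map, Subgroup.map_le_iff_le_comap, Q8, Subgroup.closure_le]
      intro s hs
      obtain ⟨q, hq, -, e⟩ := hφ s hs
      exact ⟨q, hq, e.symm⟩
    haveI : Finite G9 := inferInstance
    have heq := Subgroup.eq_of_le_of_card_ge hle
      (Nat.card_congr (((Q8 hl).map φ).equivMapOfInjective _ (MulAut.conj k).injective).toEquiv).le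
    have : φ t ∈ ((Q8 hl).map φ).map (MulAut.conj k).toMonoidHom := by
      rw [heq]; exact ⟨t, Subgroup.subset_closure ht, rfl⟩
    obtain ⟨_, ⟨q, hq, rfl⟩, e⟩ := this
    exact ⟨q, hq, e⟩
  have hA := back tA hside
  have hB := back tB hBf
  have swM : (sw' : G9) ∈ M := by
    refine h.nn _ ?_ (Or.inl ?_)
    · have e : (sw' : G9) = SympNorm.sc (-1) (neg_ne_zero.2 one_ne_zero) * sw := Units.ext (by
        simp [sw', SympNorm.sc])
      rw [e]
      exact mul_mem (Subgroup.le_normalizer (scalars_le_R9 hl (SympNorm.sc_mem _ _))) (sw_mem_N9 hl)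
    · have : Equiv.Perm.sign (Equiv.prodComm (Fin 3) (Fin 3) : Equiv.Perm I9).symm = -1 := by clear * -; decide +kernel
      rw [sw', Units.val_neg, det_neg, sw, show ((pr (Equiv.prodComm (Fin 3) (Fin 3)) : G9) : M9) =
        (1 : M9).submatrix (Equiv.prodComm (Fin 3) (Fin 3) : Equiv.Perm I9).symm id from rfl, det_permute, det_one, this]
      norm_num
  set k' := sw' * k * sw'⁻¹ with hk'
  have hk'M : k' ∈ M := mul_mem (mul_mem swM hk) (inv_mem swM)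
  have cA : ∀ z : G3, (sw' * tA z * sw'⁻¹ : G9) = tB z := fun z => sw'_conj z 1
  have cB : ∀ z : G3, (sw' * tB z * sw'⁻¹ : G9) = tA z := fun z => sw'_conj 1 z
  have trans : ∀ a b : G9, k * a * k⁻¹ = b → k' * (sw' * a * sw'⁻¹) * k'⁻¹ = sw' * b * sw'⁻¹ := fun a b e => by
    rw [hk', ← e]; group
  have hA' : ∀ t ∈ ({fG hl, gG hl} : Set G3), ∃ q ∈ Q8 hl, k' * tA q * k'⁻¹ = tA t := fun t ht => by
    obtain ⟨q, hq, e⟩ := hB t ht
    exact ⟨q, hq, by simpa only [cA, cB] using trans _ _ e⟩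
  have hB' : ∀ t ∈ ({fG hl, gG hl} : Set G3), ∃ q ∈ Q8 hl, k' * tB q * k'⁻¹ = tB t := fun t ht => by
    obtain ⟨q, hq, e⟩ := hA t ht
    exact ⟨q, hq, by simpa only [cA, cB] using trans _ _ e⟩
  obtain ⟨x, hx, ex⟩ := h.side_image hl hp hp3 hno h2 hk hB hA (std hl).aR
  obtain ⟨x', hx', ex'⟩ := h.side_image hl hp hp3 hno h2 hk hB hA (std hl).bR
  obtain ⟨y, hy, ey⟩ := h.side_image hl hp hp3 hno h2 hk'M hB' hA' (std hl).aR
  obtain ⟨y', hy', ey'⟩ := h.side_image hl hp hp3 hno h2 hk'M hB' hA' (std hl).bR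
  change k * tA (aG hl) * k⁻¹ = tA x at ex
  change k * tA (bG hl) * k⁻¹ = tA x' at ex'
  change k' * tA (aG hl) * k'⁻¹ = tA y at ey
  change k' * tA (bG hl) * k'⁻¹ = tA y' at ey'
  have hz : aG hl * bG hl * (aG hl)⁻¹ * (bG hl)⁻¹ ∈ scalars (Fin 3) F := by
    refine (mem_scalars_iff _).2 ⟨Units.mk0 l (hl.ne_zero (by norm_num)), ?_⟩
    rw [Units.val_mul, Units.val_mul, Units.val_mul, comm_ab hl, smul_mul_assoc, smul_mul_assoc,
      mul_assoc (bG hl : M3), Units.mul_inv, mul_one, Units.mul_inv]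
    rfl
  have comm : ∀ (j : G9) (u u' : G3), j * tA (aG hl) * j⁻¹ = tA u → j * tA (bG hl) * j⁻¹ = tA u' →
      u * u' * u⁻¹ * u'⁻¹ = aG hl * bG hl * (aG hl)⁻¹ * (bG hl)⁻¹ := fun j u u' e e' => by
    refine tA_injective ?_
    have he : j * tA (aG hl * bG hl * (aG hl)⁻¹ * (bG hl)⁻¹) * j⁻¹ = tA (aG hl * bG hl * (aG hl)⁻¹ * (bG hl)⁻¹) := by
      rw [← (commute_scalar (tA_scalars hz) j).eq, mul_inv_cancel_right]
    rw [← he]
    simp only [map_mul, map_inv, ← e, ← e']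
    group
  obtain ⟨g1, hg1, a1, b1⟩ := exists_component hl hx hx' (comm k x x' ex ex')
  obtain ⟨g2, hg2, a2, b2⟩ := exists_component hl hy hy' (comm k' y y' ey ey')
  have eB : ∀ z w : G3, k' * tA z * k'⁻¹ = tA w → k * tB z * k⁻¹ = tB w := fun z w e => by
    have h1 : sw'⁻¹ * (k' * tA z * k'⁻¹) * sw' = sw'⁻¹ * tA w * sw' := by rw [e]
    rw [inv_eq_of_mul_eq_one_right sw'_sq] at h1
    have c1 : ∀ z : G3, (sw' * tA z * sw' : G9) = tB z := fun z => sw'_conj' z 1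
    rw [← c1 z, ← c1 w, ← h1, hk']
    simp only [inv_eq_of_mul_eq_one_right sw'_sq, _root_.mul_inv_rev, mul_assoc]
    simp only [← mul_assoc sw' sw', sw'_sq, one_mul, mul_one]
  have base : ∀ (g z w : G3), g * z * g⁻¹ * w⁻¹ ∈ scalars (Fin 3) F → g⁻¹ * w * g * z⁻¹ ∈ scalars (Fin 3) F := by
    intro g z w hs
    convert (scalars_normal (ι := Fin 3) (F := F)).conj_mem _ (inv_mem hs) g⁻¹ using 1
    group
  have gA : ∀ z w : G3, k * tA z * k⁻¹ = tA w → g1 * z * g1⁻¹ * w⁻¹ ∈ scalars (Fin 3) F →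
      (tp (g1, g2))⁻¹ * k * tA z * ((tp (g1, g2))⁻¹ * k)⁻¹ * (tA z)⁻¹ ∈ scalars I9 F := by
    intro z w e hs
    have e' : (tp (g1, g2))⁻¹ * k * tA z * ((tp (g1, g2))⁻¹ * k)⁻¹ * (tA z)⁻¹ = tA (g1⁻¹ * w * g1 * z⁻¹) := by
      rw [show (tp (g1, g2))⁻¹ * k * tA z * ((tp (g1, g2))⁻¹ * k)⁻¹ * (tA z)⁻¹ =
        (tp (g1, g2))⁻¹ * (k * tA z * k⁻¹) * tp (g1, g2) * (tA z)⁻¹ by group, e]
      simp only [tA_eq, ← map_inv, ← map_mul]
      congr 1; simp
    rw [e']; exact tA_scalars (base _ _ _ hs)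
  have gB : ∀ z w : G3, k * tB z * k⁻¹ = tB w → g2 * z * g2⁻¹ * w⁻¹ ∈ scalars (Fin 3) F →
      (tp (g1, g2))⁻¹ * k * tB z * ((tp (g1, g2))⁻¹ * k)⁻¹ * (tB z)⁻¹ ∈ scalars I9 F := by
    intro z w e hs
    have e' : (tp (g1, g2))⁻¹ * k * tB z * ((tp (g1, g2))⁻¹ * k)⁻¹ * (tB z)⁻¹ = tB (g2⁻¹ * w * g2 * z⁻¹) := by
      rw [show (tp (g1, g2))⁻¹ * k * tB z * ((tp (g1, g2))⁻¹ * k)⁻¹ * (tB z)⁻¹ =
        (tp (g1, g2))⁻¹ * (k * tB z * k⁻¹) * tp (g1, g2) * (tB z)⁻¹ by group, e]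
      simp only [tB_eq, ← map_inv, ← map_mul]
      congr 1; simp
    rw [e']; exact tB_scalars (base _ _ _ hs)
  have hdR : (tp (g1, g2))⁻¹ * k ∈ R9 hl := by
    rw [mem_R9_iff]
    intro i
    fin_cases i
    · exact gA _ _ ex a1
    · exact gA _ _ ex' b1
    · exact gB _ _ (eB _ _ ey) a2
    · exact gB _ _ (eB _ _ ey') b2
  obtain ⟨c, hc, v, w, e⟩ := R9_cases hl hdR
  set u1 := g1 * wd hl v with hu1d
  set u2 := g2 * wd hl w with hu2d
  have ek : k = c * tp (u1, u2) := by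
    rw [inv_mul_eq_iff_eq_mul] at e
    rw [e, ← mul_assoc, ← (commute_scalar hc _).eq, mul_assoc, ← map_mul]
    rfl
  have kA : ∀ z : G3, k * tA z * k⁻¹ = tA (u1 * z * u1⁻¹) := fun z => by
    rw [ek, show c * tp (u1, u2) * tA z * (c * tp (u1, u2))⁻¹ = c * (tp (u1, u2) * tA z * (tp (u1, u2))⁻¹) * c⁻¹ by group,
      (commute_scalar hc _).eq, mul_inv_cancel_right]
    simp only [tA_eq, ← map_inv, ← map_mul]
    congr 1; simp
  have kB : ∀ z : G3, k * tB z * k⁻¹ = tB (u2 * z * u2⁻¹) := fun z => by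
    rw [ek, show c * tp (u1, u2) * tB z * (c * tp (u1, u2))⁻¹ = c * (tp (u1, u2) * tB z * (tp (u1, u2))⁻¹) * c⁻¹ by group,
      (commute_scalar hc _).eq, mul_inv_cancel_right]
    simp only [tB_eq, ← map_inv, ← map_mul]
    congr 1; simp
  have hu1 : u1 ∈ subgroupNormalizer (H3 hl) := mul_mem hg1 (h3_le hl (wd_mem hl v))
  have hu2 : u2 ∈ subgroupNormalizer (H3 hl) := mul_mem hg2 (h3_le hl (wd_mem hl w))
  have hpk : (tp (u1 ^ 2 ^ n, u2 ^ 2 ^ n) : G9) ∈ scalars I9 F := by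
    have e1 := hn
    rw [ek, (commute_scalar hc _).mul_pow, ← map_pow, Prod.pow_mk] at e1
    rw [eq_inv_of_mul_eq_one_right e1]
    exact inv_mem (pow_mem hc _)
  have reduce : ∀ u (hu : u ∈ subgroupNormalizer (H3 hl)), u ^ 2 ^ n ∈ scalars (Fin 3) F →
      u * fG hl * u⁻¹ ∈ Q8 hl → ∃ q ∈ Q8 hl, ∃ s ∈ scalars (Fin 3) F, u = q * s := by
    intro u hu hus huf
    set A := chiN hl ⟨u, hu⟩ with hA
    have h12 : A ^ 12 = 1 := sl23_cases (P := fun A => A ^ 12 = 1) sl23_twelve_aux A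
    have hN : A ^ 2 ^ n = 1 := by
      rw [hA, ← map_pow]; exact chi_of_inR hl (inR_scalar hl hus)
    have hg : Nat.gcd 12 (2 ^ n) ∣ 4 := by
      have h1 : Nat.Coprime (Nat.gcd 12 (2 ^ n)) 3 :=
        Nat.Coprime.coprime_dvd_left (Nat.gcd_dvd_right _ _) (Nat.Coprime.pow_left n (by norm_num))
      exact h1.dvd_of_dvd_mul_right (Nat.gcd_dvd_left 12 (2 ^ n) : _ ∣ 4 * 3)
    obtain ⟨j, hj⟩ := hg
    have h4 : A ^ 4 = 1 := by rw [hj, pow_mul, pow_gcd_eq_one.2 ⟨h12, hN⟩, one_pow]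
    obtain ⟨⟨q, hq⟩, eq⟩ := exists_q hl h4
    have hqN := (Q8_le hl hq).1
    have hr : InR hl (q⁻¹ * u) := by
      refine inR_of_chi hl (mul_mem (inv_mem hqN) hu) ?_
      show chiN hl (⟨q, hqN⟩⁻¹ * ⟨u, hu⟩) = 1
      rw [map_mul, map_inv, ← hA, show chiN hl ⟨q, hqN⟩ = A from eq, inv_mul_cancel]
    obtain ⟨r, hr'⟩ := hr
    set s := q⁻¹ * u with hs
    have hsQ : s * fG hl * s⁻¹ ∈ Q8 hl := by
      rw [hs, show q⁻¹ * u * fG hl * (q⁻¹ * u)⁻¹ = q⁻¹ * (u * fG hl * u⁻¹) * q by group]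
      exact mul_mem (mul_mem (inv_mem hq) huf) hq
    have hsN : s ∈ subgroupNormalizer (H3 hl) := mul_mem (inv_mem hqN) hu
    have hfix : s * fG hl * s⁻¹ = fG hl := by
      refine congrArg Subtype.val (chQ_injective hl (a₁ := ⟨_, hsQ⟩) (a₂ := ⟨_, fG_Q8 hl⟩) ?_)
      show chiN hl ⟨_, _⟩ = chiN hl ⟨fG hl, (fG_mem hl).1⟩
      have e1 : chiN hl ⟨s, hsN⟩ = 1 := chi_of_inR hl ⟨r, hr'⟩
      rw [show (⟨s * fG hl * s⁻¹, (Q8_le hl hsQ).1⟩ : subgroupNormalizer (H3 hl)) =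
        ⟨s, hsN⟩ * ⟨fG hl, (fG_mem hl).1⟩ * ⟨s, hsN⟩⁻¹ from rfl, map_mul, map_mul, map_inv, e1]
      simp
    have hr0 : r = 0 := commute_fG_rel hl hr' (mul_inv_eq_iff_eq_mul.1 hfix).symm
    subst hr0
    exact ⟨q, hq, s, hr'.scalar, by rw [hs]; group⟩
  have huf1 : u1 * fG hl * u1⁻¹ ∈ Q8 hl := tA_injective ((kA _).symm.trans ef) ▸ hqf
  have huf2 : u2 * fG hl * u2⁻¹ ∈ Q8 hl := by
    obtain ⟨q, hq, -, e3⟩ := hBf _ (Set.mem_insert _ _)
    exact tB_injective ((kB _).symm.trans e3) ▸ hq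
  obtain ⟨q1, hq1, s1, hs1, eu1⟩ := reduce u1 hu1 (tp_scalar hpk).1 huf1
  obtain ⟨q2, hq2, s2, hs2, eu2⟩ := reduce u2 hu2 (tp_scalar hpk).2 huf2
  rw [eu1, eu2] at ek
  have ek' : k = c * tp (s1, s2) * tp (q1, q2) := by
    rw [ek, mul_assoc, ← map_mul, Prod.mk_mul_mk, (commute_scalar hs1 q1).eq, (commute_scalar hs2 q2).eq]
  set c' := c * tp (s1, s2) with hc'
  have hcs : c' ∈ scalars I9 F := mul_mem hc (tp_scalars hl hs1 hs2)
  obtain ⟨d, hd'⟩ := (mem_scalars_iff c').1 hcs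
  have hd9 : (d : F) ^ 9 = 1 := by
    have h1 := hd
    rw [ek', Units.val_mul, det_mul, det_tp, det_Q8 hl hq1, det_Q8 hl hq2, hd', det_smul, det_one] at h1
    simpa using h1
  have hq4 : (tp (q1, q2) : G9) ^ 8 = 1 := pow_eight hl (tp_mem_S0 hl hq1 hq2)
  have hdN : (d : F) ^ (2 ^ n * 8) = 1 := by
    have h1 : k ^ (2 ^ n * 8) = 1 := by rw [pow_mul, hn, one_pow]
    rw [ek', (commute_scalar hcs _).mul_pow, pow_mul' (tp (q1, q2)), hq4, one_pow, mul_one] at h1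
    have h3 := congrArg (fun g : G9 => (g : M9) ((0, 0) : I9) ((0, 0) : I9)) h1
    simpa [Units.val_pow_eq_pow_val, hd', smul_pow] using h3
  have hd1 : (d : F) = 1 := by
    have hcop : Nat.Coprime 9 (2 ^ n * 8) := by
      rw [show 2 ^ n * 8 = 2 ^ (n + 3) by rw [pow_add]; rfl]
      exact Nat.Coprime.pow_right _ (by norm_num)
    have := pow_gcd_eq_one.2 ⟨hd9, hdN⟩
    rwa [hcop, pow_one] at this
  have : c' = 1 := Units.ext (by rw [hd', hd1, one_smul, Units.val_one])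
  rw [ek', this, one_mul]
  exact tp_mem_S0 hl hq1 hq2

/-- A two-element normalising the two-group lies in it. -/
theorem Ctx.normalizing_two_element [Fintype F] (hp : (Fintype.card F).Prime) (hp3 : Fintype.card F % 3 = 1)
    (h : Ctx hl M) (hno : ¬ specialLinear I9 F ≤ M) (h2 : (2 : F) ≠ 0) (hS : S0 hl ≤ M) {h₀ : G9} (h0M : h₀ ∈ M)
    (h0d : (h₀ : M9).det = 1) {n : ℕ} (h0n : h₀ ^ 2 ^ n = 1) (hnorm : ∀ x ∈ S0 hl, h₀ * x * h₀⁻¹ ∈ S0 hl) :
    h₀ ∈ S0 hl := by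
  have trace_conj : ∀ x : G9, ((h₀ * x * h₀⁻¹ : G9) : M9).trace = (x : M9).trace := fun x => by
    rw [Units.val_mul, Units.val_mul, trace_mul_comm, ← mul_assoc, Units.inv_mul, one_mul]
  have img : ∀ t ∈ ({fG hl, gG hl} : Set G3),
      ∃ q ∈ Q8 hl, q * q ≠ 1 ∧ (h₀ * tA t * h₀⁻¹ = tA q ∨ h₀ * tA t * h₀⁻¹ = tB q) := by
    intro t ht
    have htQ : t ∈ Q8 hl := Subgroup.subset_closure ht
    refine trace_three hl h2 (hnorm _ (tp_mem_S0 hl htQ (one_mem _))) ?_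
    have ht1 : (t : M3).trace = 1 := by
      obtain ⟨v1, v2, -⟩ := chQ_vals hl
      rcases chQ_cases hl ⟨t, htQ⟩ with ⟨e, -⟩ | ⟨e, -⟩ | ⟨-, e⟩
      · rcases ht with rfl | rfl
        · rw [v1] at e; exact absurd e (by clear * -; decide +kernel)
        · change chQ hl ⟨gG hl, _⟩ = 1 at e
          rw [v2] at e; exact absurd e (by clear * -; decide +kernel)
      · rcases ht with rfl | rfl
        · rw [v1] at e; exact absurd e (by clear * -; decide +kernel)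
        · change chQ hl ⟨gG hl, _⟩ = cf * cf at e
          rw [v2] at e; exact absurd e (by clear * -; decide +kernel)
      · exact e
    rw [trace_conj, tA_eq, trace_tp, ht1, Units.val_one, Matrix.trace_one]; simp
  obtain ⟨a, ha, ha2, ea⟩ := img _ (Set.mem_insert _ _)
  obtain ⟨b, hb, hb2, eb⟩ := img _ (Set.mem_insert_of_mem _ rfl)
  have nocom : ∀ A B : G9, Commute A B → h₀ * tA (fG hl) * h₀⁻¹ = A → h₀ * tA (gG hl) * h₀⁻¹ = B → False := by
    intro A B hc eA eB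
    rw [← eA, ← eB] at hc
    have e2 := hc.map (MulAut.conj h₀⁻¹).toMonoidHom
    simp only [MulEquiv.coe_toMonoidHom, MulAut.conj_apply, inv_inv, ← mul_assoc, inv_mul_cancel, one_mul,
      inv_mul_cancel_right] at e2
    have e : chQ hl (⟨fG hl, fG_Q8 hl⟩ * ⟨gG hl, gG_Q8 hl⟩) = chQ hl (⟨gG hl, gG_Q8 hl⟩ * ⟨fG hl, fG_Q8 hl⟩) :=
      congrArg (chQ hl) (Subtype.ext (tA_injective ((map_mul tA _ _).trans (e2.eq.trans (map_mul tA _ _).symm))))
    rw [map_mul, map_mul, (chQ_vals hl).1, (chQ_vals hl).2.1] at e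
    exact absurd e (by clear * -; decide +kernel)
  rcases ea with ea | ea <;> rcases eb with eb | eb
  · refine h.fixing_sides hl hp hp3 hno h2 h0M h0d h0n hnorm fun t ht => ?_
    rcases ht with rfl | rfl
    exacts [⟨a, ha, ha2, ea⟩, ⟨b, hb, hb2, eb⟩]
  · exact (nocom _ _ (commute_tA_tB a b) ea eb).elim
  · exact (nocom _ _ (commute_tA_tB b a).symm ea eb).elim
  · have hs := sw'_mem_S0 hl
    have cB : ∀ z : G3, (sw' * tB z * sw'⁻¹ : G9) = tA z := fun z => sw'_conj 1 z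
    have hnormk : ∀ x ∈ S0 hl, sw' * h₀ * x * (sw' * h₀)⁻¹ ∈ S0 hl := fun x hx => by
      rw [show sw' * h₀ * x * (sw' * h₀)⁻¹ = sw' * (h₀ * x * h₀⁻¹) * sw'⁻¹ by group]
      exact mul_mem (mul_mem hs (hnorm x hx)) (inv_mem hs)
    have hpow : ∀ j : ℕ, (sw' * h₀) ^ j * (h₀ ^ j)⁻¹ ∈ S0 hl := by
      intro j
      induction j with
      | zero => simp
      | succ j ih =>
        have e' : (sw' * h₀) ^ (j + 1) * (h₀ ^ (j + 1))⁻¹ = sw' * (h₀ * ((sw' * h₀) ^ j * (h₀ ^ j)⁻¹) * h₀⁻¹) := by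
          rw [pow_succ', pow_succ']; group
        rw [e']
        exact mul_mem hs (hnorm _ ih)
    have hn' : (sw' * h₀) ^ 2 ^ (n + 3) = 1 := by
      rw [pow_add, pow_mul]
      have := hpow (2 ^ n)
      rw [h0n, inv_one, mul_one] at this
      exact pow_eight hl this
    have hdet : ((sw' * h₀ : G9) : M9).det = 1 := by
      have hdS : ((sw' : G9) : M9).det = 1 := by
        have : Equiv.Perm.sign (Equiv.prodComm (Fin 3) (Fin 3) : Equiv.Perm I9).symm = -1 := by clear * -; decide +kernel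
        rw [sw', Units.val_neg, det_neg, sw, show ((pr (Equiv.prodComm (Fin 3) (Fin 3)) : G9) : M9) =
          (1 : M9).submatrix (Equiv.prodComm (Fin 3) (Fin 3) : Equiv.Perm I9).symm id from rfl, det_permute, det_one, this]
        norm_num
      rw [Units.val_mul, det_mul, hdS, h0d, one_mul]
    have := h.fixing_sides hl hp hp3 hno h2 (mul_mem (hS hs) h0M) hdet hn' hnormk fun t ht => by
      rcases ht with rfl | rfl
      · exact ⟨a, ha, ha2, by rw [show sw' * h₀ * tA (fG hl) * (sw' * h₀)⁻¹ =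
          sw' * (h₀ * tA (fG hl) * h₀⁻¹) * sw'⁻¹ by group, ea, cB]⟩
      · exact ⟨b, hb, hb2, by rw [show sw' * h₀ * tA (gG hl) * (sw' * h₀)⁻¹ =
          sw' * (h₀ * tA (gG hl) * h₀⁻¹) * sw'⁻¹ by group, eb, cB]⟩
    simpa using mul_mem (inv_mem hs) this

/-- The two-group is a maximal two-subgroup. -/
theorem Ctx.two_group_le [Fintype F] (hp : (Fintype.card F).Prime) (hp3 : Fintype.card F % 3 = 1)
    (h : Ctx hl M) (hno : ¬ specialLinear I9 F ≤ M) (h2 : (2 : F) ≠ 0) {P : Subgroup G9} (hP : IsPGroup 2 P)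
    (hPM : P ≤ M) (hPd : P ≤ specialLinear I9 F) (hSP : S0 hl ≤ P) : P ≤ S0 hl := by
  classical
  haveI : Fact (Nat.Prime 2) := ⟨Nat.prime_two⟩
  haveI : Finite G9 := inferInstance
  haveI := hP.isNilpotent
  by_contra hne
  have hlt : (S0 hl).subgroupOf P < ⊤ :=
    lt_top_iff_ne_top.2 fun e => hne (Subgroup.subgroupOf_eq_top.1 e)
  obtain ⟨⟨g, hgP⟩, hgN, hgS⟩ := SetLike.exists_of_lt (normalizerCondition_of_isNilpotent _ hlt)
  have hgd : (g : M9).det = 1 := by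
    have h1 := congrArg Units.val (MonoidHom.mem_ker.1 (hPd hgP))
    rw [Matrix.GeneralLinearGroup.val_det_apply, Units.val_one] at h1
    exact h1
  refine hgS (Subgroup.mem_subgroupOf.2 ?_)
  obtain ⟨n, hn⟩ := hP ⟨g, hgP⟩
  refine h.normalizing_two_element hl hp hp3 hno h2 (hSP.trans hPM) (hPM hgP) hgd
    (n := n) (by simpa using congrArg Subtype.val hn) fun x hx => ?_
  exact Subgroup.mem_subgroupOf.1 ((Subgroup.mem_normalizer_iff.1 hgN ⟨x, hSP hx⟩).1 (Subgroup.mem_subgroupOf.2 hx))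

end CfsgLib.Geo.Nine
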